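import Cfsg.Agent.Lib.OneToFive.Basic
import Cfsg.Agent.S1475

/-!
Groups whose set of element orders is `{1, …, 5}`.
-/

set_option autoImplicit false

namespace CfsgLib.OneToFive

theorem spec_of_range {G : Type*} [Group G] (h : ∀ g : G, 1 ≤ orderOf g ∧ orderOf g ≤ 5) : Spec G := fun x => by
  obtain ⟨h1, h5⟩ := h x
  have hx := pow_orderOf_eq_one x
  interval_cases hn : orderOf x
  · exact Or.inl (by rw [← hn] at hx; rw [orderOf_eq_one_iff.1 hn, one_pow])
  · exact Or.inr (Or.inl (by rw [show 4 = 2 * 2 from rfl, pow_mul, hx, one_pow]))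
  · exact Or.inl hx
  · exact Or.inr (Or.inl hx)
  · exact Or.inr (Or.inr hx)

theorem not_solvable {G : Type*} [Group G] [Finite G] (hG : ∀ g : G, IsPrimePow (orderOf g) ∨ g = 1)
    {a b c : G} (ha : orderOf a = 2) (hb : orderOf b = 3) (hc : orderOf c = 5) : ¬ Group.IsSolvable G := by
  intro hs
  have h := Cfsg.Agent.S1475.result hG
  have hsub : ({2, 3, 5} : Finset ℕ) ⊆ (Nat.card G).primeFactors := by
    intro p hp
    simp only [Finset.mem_insert, Finset.mem_singleton] at hp
    rw [Nat.mem_primeFactors]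
    rcases hp with rfl | rfl | rfl
    · exact ⟨Nat.prime_two, ha ▸ orderOf_dvd_natCard a, Nat.card_pos.ne'⟩
    · exact ⟨Nat.prime_three, hb ▸ orderOf_dvd_natCard b, Nat.card_pos.ne'⟩
    · exact ⟨by norm_num, hc ▸ orderOf_dvd_natCard c, Nat.card_pos.ne'⟩
  have := (Finset.card_le_card hsub).trans h
  simp at this

end CfsgLib.OneToFive
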