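import Cfsg.Agent.Lib.OneToFive.Model
import Cfsg.Agent.Lib.OneToFive.Range
import Cfsg.Agent.S3488

/-!
The affine special linear group over the field with four elements is a model, and proper quotients inside the kernel
keep the five element orders.
-/

set_option autoImplicit false
set_option linter.style.haveILetI false

namespace CfsgLib.OneToFive

theorem range_alt_six :
    Set.range (orderOf : alternatingGroup (Fin 6) → ℕ) = ({1, 2, 3, 4, 5} : Set ℕ) := by
  refine Cfsg.Agent.S3488.isoAux_range Cfsg.Agent.S3488.isoAux_a6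
    ⟨Equiv.swap 0 1 * Equiv.swap 2 3, Equiv.Perm.mem_alternatingGroup.2 (by decide)⟩
    ⟨Equiv.swap 0 1 * Equiv.swap 1 2, Equiv.Perm.mem_alternatingGroup.2 (by decide)⟩
    ⟨Equiv.swap 0 1 * Equiv.swap 1 2 * Equiv.swap 2 3 * Equiv.swap 4 5, Equiv.Perm.mem_alternatingGroup.2 (by decide)⟩
    ⟨Equiv.swap 0 1 * Equiv.swap 1 2 * Equiv.swap 2 3 * Equiv.swap 3 4, Equiv.Perm.mem_alternatingGroup.2 (by decide)⟩
    ?_ ?_ ?_ ?_ ?_ ?_ ?_ ?_ <;> decide +kernel

theorem alt_five_no_four : ∀ x : alternatingGroup (Fin 5), x ^ 4 = 1 → x * x = 1 := by decide +kernel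

section Range

variable {G : Type*} [Group G] [Finite G]

/-- From the set of element orders: the hypotheses of the structure theorem. -/
theorem of_range_eq (h : Set.range (orderOf : G → ℕ) = ({1, 2, 3, 4, 5} : Set ℕ)) :
    Spec G ∧ ¬ Group.IsSolvable G ∧ ∃ g : G, orderOf g = 4 := by
  have hmem : ∀ g : G, 1 ≤ orderOf g ∧ orderOf g ≤ 5 := fun g => by
    have h1 := Set.mem_range_self (f := (orderOf : G → ℕ)) g
    rw [h] at h1
    simp only [Set.mem_insert_iff, Set.mem_singleton_iff] at h1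
    omega
  have hex : ∀ k ∈ ({1, 2, 3, 4, 5} : Set ℕ), ∃ g : G, orderOf g = k := fun k hk => by
    rw [← h] at hk; exact hk
  have hG := spec_of_range hmem
  obtain ⟨a, ha⟩ := hex 2 (by simp)
  obtain ⟨b, hb⟩ := hex 3 (by simp)
  obtain ⟨c, hc⟩ := hex 5 (by simp)
  exact ⟨hG, not_solvable (fun g => (eq_or_ne g 1).symm.imp hG.isPrimePow id) ha hb hc, hex 4 (by simp)⟩

/-- A proper quotient inside the kernel has the same five element orders. -/
theorem range_quotient (hG : Spec G) {R N : Subgroup G} [R.Normal] [N.Normal]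
    (hsq : ∀ a ∈ R, a * a = 1) (e : G ⧸ R ≃* Alt5) (hNR : N ≤ R)
    (hne : N ≠ R) : Set.range (orderOf : G ⧸ N → ℕ) = ({1, 2, 3, 4, 5} : Set ℕ) := by
  classical
  have hR2 : IsPGroup 2 R := fun a => ⟨1, Subtype.ext (by rw [pow_one, pow_two]; exact hsq a a.2)⟩
  set ψ : G →* Alt5 := e.toMonoidHom.comp (QuotientGroup.mk' R) with hψdef
  have hψ : Function.Surjective ψ := e.surjective.comp (QuotientGroup.mk'_surjective R)
  have hker : ∀ c, c ∈ R → ψ c = 1 := fun c hc => by
    show e (c : G ⧸ R) = 1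
    rw [(QuotientGroup.eq_one_iff c).2 hc, map_one]
  have hne1 : ∀ c, ψ c ≠ 1 → (c : G ⧸ N) ≠ 1 := fun c hc h =>
    hc (hker c (hNR ((QuotientGroup.eq_one_iff c).1 h)))
  obtain ⟨g, t, hg3, hg1, hfpf, -, -, ht2, -, hdt⟩ := exists_inverting_lift hG hR2 e
  have hψt : ψ t = aV := by have := hdt 1 (one_mem R); rwa [one_mul] at this
  obtain ⟨hs3, hs1, hvV, hv1, -, -⟩ := aS_basic
  have hti : t⁻¹ = t := inv_eq_of_mul_eq_one_right ht2
  have lift : ∀ (p : Alt5) (k : ℕ), (k = 3 ∨ k = 5) → p ^ k = 1 → p ≠ 1 →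
      ∃ c : G, c ^ k = 1 ∧ ψ c = p := by
    intro p k hk hp hp1
    obtain ⟨c, rfl⟩ := hψ p
    refine ⟨c, ?_, rfl⟩
    have key : ∀ n, c ^ n = 1 → Nat.Coprime n k → ψ c = 1 := fun n hn hco => orderOf_eq_one_iff.1
      (Nat.eq_one_of_dvd_coprimes hco (orderOf_dvd_of_pow_eq_one (by rw [← map_pow, hn, map_one]))
        (orderOf_dvd_of_pow_eq_one hp))
    rcases hk with rfl | rfl <;> rcases hG c with h | h | h <;>
      first | exact h | exact absurd (key _ h (by norm_num)) hp1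
  obtain ⟨d, hd, hdN⟩ : ∃ d ∈ R, d * (t * d * t⁻¹) ∉ N := by
    by_contra hall
    push Not at hall
    -- then conjugates of `t` act trivially modulo `N`
    have hconjt : ∀ c : G, ∀ d ∈ R, d * (c * t * c⁻¹ * d * (c * t * c⁻¹)⁻¹) ∈ N := fun c d hd => by
      have h1 := ‹R.Normal›.conj_mem d hd c⁻¹
      rw [inv_inv] at h1
      have h2 := ‹N.Normal›.conj_mem _ (hall _ h1) c
      rwa [show c * (c⁻¹ * d * c * (t * (c⁻¹ * d * c) * t⁻¹)) * c⁻¹ =
        d * (c * t * c⁻¹ * d * (c * t * c⁻¹)⁻¹) by group] at h2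
    obtain ⟨h, k, hhk⟩ := aS_prod
    obtain ⟨h', rfl⟩ := hψ h
    obtain ⟨k', rfl⟩ := hψ k
    set a := h' * t * h'⁻¹
    set b := k' * t * k'⁻¹
    have hσ : ψ (a * b) = aS := by
      rw [hhk]; simp only [a, b, map_mul, map_inv, hψt]
    obtain hσ3 : (a * b) ^ 3 = 1 := by
      have key : ∀ n, (a * b) ^ n = 1 → Nat.Coprime n 3 → False := fun n hn hco => hs1 (orderOf_eq_one_iff.1
        (Nat.eq_one_of_dvd_coprimes hco (orderOf_dvd_of_pow_eq_one (by rw [← hσ, ← map_pow, hn, map_one]))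
          (orderOf_dvd_of_pow_eq_one hs3)))
      rcases hG (a * b) with h | h | h
      · exact h
      · exact (key 4 h (by norm_num)).elim
      · exact (key 5 h (by norm_num)).elim
    have hσ1 : a * b ≠ 1 := fun h => hs1 (by rw [← hσ, h, map_one])
    have hcm : ∀ x ∈ R, (a * b) * x * (a * b)⁻¹ ∈ R := fun x hx => ‹R.Normal›.conj_mem x hx _
    have hcm' : ∀ x ∈ R, (a * b)⁻¹ * x * (a * b) ∈ R := fun x hx => by
      have := ‹R.Normal›.conj_mem x hx (a * b)⁻¹
      rwa [inv_inv] at this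
    refine hne (le_antisymm hNR fun x hx => ?_)
    refine fpf_coset (N.subgroupOf R) (conjOn R (a * b) hcm hcm') (fun y hy => ‹N.Normal›.conj_mem _ hy _)
      (fun y hy => Subtype.ext ((hG.not_commute (show Commute (y : G) (a * b) from
        (mul_inv_eq_iff_eq_mul.1 (congrArg Subtype.val hy)).symm) (pow_four_of_two_group hG hR2 y.2)
        (Or.inl hσ3)).resolve_right hσ1)) (x := ⟨x, hx⟩) ?_
    show x⁻¹ * (a * b * x * (a * b)⁻¹) ∈ N
    have hbx : b * x * b⁻¹ ∈ R := ‹R.Normal›.conj_mem x hx b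
    have e1 := hconjt h' _ hbx
    have e2 := hconjt k' x hx
    change b * x * b⁻¹ * (a * (b * x * b⁻¹) * a⁻¹) ∈ N at e1
    change x * (b * x * b⁻¹) ∈ N at e2
    rw [inv_eq_of_mul_eq_one_right (hsq x hx)]
    have e3 := mul_mem e2 e1
    rwa [show x * (b * x * b⁻¹) * (b * x * b⁻¹ * (a * (b * x * b⁻¹) * a⁻¹)) =
      x * ((b * x * b⁻¹) * (b * x * b⁻¹)) * (a * b * x * (a * b)⁻¹) by group, hsq _ hbx, mul_one] at e3
  obtain ⟨σ, hσ3, hσ⟩ := lift aS 3 (Or.inl rfl) hs3 hs1
  let c5 : Alt5 := ⟨Equiv.swap 0 1 * Equiv.swap 1 2 * Equiv.swap 2 3 * Equiv.swap 3 4,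
    Equiv.Perm.mem_alternatingGroup.2 (by decide)⟩
  obtain ⟨h55, h51⟩ : c5 ^ 5 = 1 ∧ c5 ≠ 1 := by decide +kernel
  obtain ⟨y, hy5, hy⟩ := lift c5 5 (Or.inr rfl) h55 h51
  have hdt4 : (d * t) ^ 4 = 1 := by
    have key : ∀ n, (d * t) ^ n = 1 → Odd n → False := fun n hn hodd => by
      have h1 : aV ^ n = 1 := by
        rw [← hψt, show ψ t = ψ (d * t) by rw [map_mul, hker d hd, one_mul], ← map_pow, hn, map_one]
      obtain ⟨k, rfl⟩ := hodd
      rw [pow_succ, pow_mul, pow_two, hvV.1, one_pow, one_mul] at h1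
      exact hv1 h1
    rcases hG (d * t) with h | h | h
    · exact (key 3 h (by decide)).elim
    · exact h
    · exact (key 5 h (by decide)).elim
  refine Cfsg.Agent.S3488.isoAux_range (hG.quotient N) (t : G ⧸ N) (σ : G ⧸ N) ((d * t : G) : G ⧸ N) (y : G ⧸ N)
    ?_ ?_ ?_ ?_ ?_ ?_ ?_ ?_
  · rw [← QuotientGroup.mk_pow, pow_two, ht2, QuotientGroup.mk_one]
  · exact hne1 t (hψt ▸ hv1)
  · rw [← QuotientGroup.mk_pow, hσ3, QuotientGroup.mk_one]
  · exact hne1 σ (hσ ▸ hs1)
  · rw [← QuotientGroup.mk_pow, hdt4, QuotientGroup.mk_one]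
  · intro h
    refine hdN ?_
    rw [← QuotientGroup.mk_pow, QuotientGroup.eq_one_iff, pow_two] at h
    rwa [show d * (t * d * t⁻¹) = d * t * (d * t) by rw [hti]; group]
  · rw [← QuotientGroup.mk_pow, hy5, QuotientGroup.mk_one]
  · exact hne1 y (hy ▸ h51)

end Range

section Affine

open Matrix

variable (F : Type) [Field F] [Fintype F]

/-- The affine group. -/
abbrev affineGroup : Subgroup (Matrix.SpecialLinearGroup (Fin 3) F) :=
  Subgroup.closure {M : Matrix.SpecialLinearGroup (Fin 3) F |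
    (M : Matrix (Fin 3) (Fin 3) F) 2 0 = 0 ∧ (M : Matrix (Fin 3) (Fin 3) F) 2 1 = 0 ∧
      (M : Matrix (Fin 3) (Fin 3) F) 2 2 = 1}

theorem affine_shape {M : Matrix.SpecialLinearGroup (Fin 3) F} (hM : M ∈ affineGroup F) :
    (M : Matrix (Fin 3) (Fin 3) F) 2 0 = 0 ∧ (M : Matrix (Fin 3) (Fin 3) F) 2 1 = 0 ∧
      (M : Matrix (Fin 3) (Fin 3) F) 2 2 = 1 := by
  induction hM using Subgroup.closure_induction with
  | mem x hx => exact hx
  | one => simp
  | mul x y _ _ hx hy =>
    obtain ⟨a, b, c⟩ := hx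
    obtain ⟨a', b', c'⟩ := hy
    simp [Matrix.mul_apply, Fin.sum_univ_three, a, b, c, a', b', c']
  | inv x _ hx =>
    obtain ⟨a, b, c⟩ := hx
    have h : (x : Matrix (Fin 3) (Fin 3) F) * ((x⁻¹ : Matrix.SpecialLinearGroup (Fin 3) F) : Matrix (Fin 3) (Fin 3) F) = 1 := by
      rw [← Matrix.SpecialLinearGroup.coe_mul, mul_inv_cancel, Matrix.SpecialLinearGroup.coe_one]
    generalize ((x⁻¹ : Matrix.SpecialLinearGroup (Fin 3) F) : Matrix (Fin 3) (Fin 3) F) = N at h ⊢
    have e0 := congrFun (congrFun h 2) 0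
    have e1 := congrFun (congrFun h 2) 1
    have e2 := congrFun (congrFun h 2) 2
    simp [Matrix.mul_apply, Fin.sum_univ_three, a, b, c] at e0 e1 e2
    exact ⟨e0, e1, e2⟩

/-- The linear part. -/
def linPart : affineGroup F →* Matrix (Fin 2) (Fin 2) F where
  toFun M := ((M : SpecialLinearGroup (Fin 3) F) : Matrix (Fin 3) (Fin 3) F).submatrix Fin.castSucc Fin.castSucc
  map_one' := by
    ext i j
    fin_cases i <;> fin_cases j <;> simp
  map_mul' M N := by
    obtain ⟨u, v, -⟩ := affine_shape F N.2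
    ext i j
    fin_cases i <;> fin_cases j <;> simp [Matrix.mul_apply, Fin.sum_univ_three, Fin.sum_univ_two, u, v]

/-- The translations. -/
def translations : Subgroup (affineGroup F) := (linPart F).ker

theorem mem_translations {M : affineGroup F} : M ∈ translations F ↔
    ((M : SpecialLinearGroup (Fin 3) F) : Matrix (Fin 3) (Fin 3) F) 0 0 = 1 ∧
    ((M : SpecialLinearGroup (Fin 3) F) : Matrix (Fin 3) (Fin 3) F) 0 1 = 0 ∧
    ((M : SpecialLinearGroup (Fin 3) F) : Matrix (Fin 3) (Fin 3) F) 1 0 = 0 ∧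
    ((M : SpecialLinearGroup (Fin 3) F) : Matrix (Fin 3) (Fin 3) F) 1 1 = 1 := by
  rw [translations, MonoidHom.mem_ker, ← Matrix.ext_iff]
  simp [linPart, Fin.forall_fin_two, and_assoc]

theorem translations_comm {M N : affineGroup F} (hM : M ∈ translations F) (hN : N ∈ translations F) :
    M * N = N * M := by
  obtain ⟨a, b, c, d⟩ := (mem_translations F).1 hM
  obtain ⟨a', b', c', d'⟩ := (mem_translations F).1 hN
  obtain ⟨u, v, w⟩ := affine_shape F M.2
  obtain ⟨u', v', w'⟩ := affine_shape F N.2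
  refine Subtype.ext (Subtype.ext ?_)
  ext i j
  fin_cases i <;> fin_cases j <;>
    simp [Matrix.mul_apply, Fin.sum_univ_three, a, b, c, d, a', b', c', d', u, v, w, u', v', w', add_comm]

theorem translations_normal : (translations F).Normal := MonoidHom.normal_ker _

theorem card_translations_le : Nat.card (translations F) ≤ Fintype.card F * Fintype.card F := by
  rw [← Fintype.card_prod, ← Nat.card_eq_fintype_card]
  refine Nat.card_le_card_of_injective
    (fun M => (((((M : affineGroup F) : SpecialLinearGroup (Fin 3) F) : Matrix (Fin 3) (Fin 3) F) 0 2),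
      ((((M : affineGroup F) : SpecialLinearGroup (Fin 3) F) : Matrix (Fin 3) (Fin 3) F) 1 2))) fun M N h => ?_
  obtain ⟨a, b, c, d⟩ := (mem_translations F).1 M.2
  obtain ⟨a', b', c', d'⟩ := (mem_translations F).1 N.2
  obtain ⟨u, v, w⟩ := affine_shape F (M : affineGroup F).2
  obtain ⟨u', v', w'⟩ := affine_shape F (N : affineGroup F).2
  simp only [Prod.mk.injEq] at h
  refine Subtype.ext (Subtype.ext (Subtype.ext ?_))
  ext i j
  fin_cases i <;> fin_cases j <;> simp [a, b, c, d, a', b', c', d', u, v, w, u', v', w', h.1, h.2]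

/-- The affine group is a model. -/
theorem affine_model (hF : Fintype.card F = 4) : Spec (affineGroup F) ∧ Nonempty (Model (affineGroup F)) := by
  classical
  obtain ⟨hG, hns, g4, hg4⟩ := of_range_eq ((Cfsg.Agent.S3488.result hF).trans range_alt_six)
  refine ⟨hG, ?_⟩
  haveI := translations_normal F
  set T := translations F with hT
  have mk : ∀ u v : F, ∃ M : affineGroup F, ((M : SpecialLinearGroup (Fin 3) F) : Matrix (Fin 3) (Fin 3) F) =
      !![1, 0, u; 0, 1, v; 0, 0, 1] := fun u v => by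
    have hd : Matrix.det !![(1 : F), 0, u; 0, 1, v; 0, 0, 1] = 1 := by
      rw [Matrix.det_fin_three]; simp
    exact ⟨⟨⟨_, hd⟩, Subgroup.subset_closure ⟨rfl, rfl, rfl⟩⟩, rfl⟩
  obtain ⟨τ₁, e1⟩ := mk 1 0
  obtain ⟨τ₂, e2⟩ := mk 0 1
  have hτ₁ : τ₁ ∈ T := by rw [hT, mem_translations, e1]; exact ⟨rfl, rfl, rfl, rfl⟩
  have hτ₂ : τ₂ ∈ T := by rw [hT, mem_translations, e2]; exact ⟨rfl, rfl, rfl, rfl⟩
  have hτne : τ₁ ≠ 1 := fun h => by
    rw [h] at e1
    simpa using congrFun (congrFun e1 0) 2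
  rcases structure_cases hG hns with ⟨⟨e⟩⟩ | ⟨R, hR, hcomm, hsq, ⟨e⟩⟩
  · exfalso
    haveI : IsSimpleGroup (alternatingGroup (Fin 6)) := alternatingGroup.isSimpleGroup (by simp)
    haveI := hT ▸ translations_normal F
    rcases Subgroup.Normal.eq_bot_or_eq_top (H := T.map e.toMonoidHom)
      (Subgroup.Normal.map inferInstance _ e.surjective) with h | h
    · have h1 : e τ₁ ∈ T.map e.toMonoidHom := Subgroup.mem_map_of_mem _ hτ₁
      rw [h, Subgroup.mem_bot] at h1
      exact hτne (e.injective (h1.trans e.map_one.symm))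
    · have hc : ∀ a b : alternatingGroup (Fin 6), a * b = b * a := fun a b => by
        obtain ⟨x, hx, rfl⟩ := (h.symm ▸ Subgroup.mem_top a : a ∈ T.map e.toMonoidHom)
        obtain ⟨y, hy, rfl⟩ := (h.symm ▸ Subgroup.mem_top b : b ∈ T.map e.toMonoidHom)
        rw [← map_mul, ← map_mul, translations_comm F hx hy]
      exact (show ¬ ∀ a b : alternatingGroup (Fin 6), a * b = b * a by
        intro h
        exact absurd (h ⟨Equiv.swap 0 1 * Equiv.swap 2 3, Equiv.Perm.mem_alternatingGroup.2 (by decide)⟩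
          ⟨Equiv.swap 0 1 * Equiv.swap 1 2, Equiv.Perm.mem_alternatingGroup.2 (by decide)⟩) (by decide +kernel)) hc
  haveI := hR
  have hTR : T ≤ R := by
    haveI : IsSimpleGroup Alt5 := alternatingGroup.isSimpleGroup (by simp)
    set f := e.toMonoidHom.comp (QuotientGroup.mk' R)
    have hf : Function.Surjective f := e.surjective.comp (QuotientGroup.mk'_surjective R)
    rcases Subgroup.Normal.eq_bot_or_eq_top (H := T.map f) (Subgroup.Normal.map inferInstance _ hf) with h | h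
    · intro x hx
      have h1 : f x ∈ T.map f := Subgroup.mem_map_of_mem _ hx
      rw [h, Subgroup.mem_bot] at h1
      exact (QuotientGroup.eq_one_iff x).1 (e.injective (h1.trans e.map_one.symm))
    · exfalso
      have hc : aV * aS = aS * aV := by
        obtain ⟨x, hx, hxa⟩ := (h.symm ▸ Subgroup.mem_top aV : aV ∈ T.map f)
        obtain ⟨y, hy, hyb⟩ := (h.symm ▸ Subgroup.mem_top aS : aS ∈ T.map f)
        rw [← hxa, ← hyb, ← map_mul, ← map_mul, translations_comm F hx hy]
      exact absurd hc (by decide +kernel)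
  have hRT : R ≤ T := fun M hM => by
    have h1 := hcomm M hM τ₁ (hTR hτ₁)
    have h2 := hcomm M hM τ₂ (hTR hτ₂)
    have h1' : ((M : SpecialLinearGroup (Fin 3) F) : Matrix (Fin 3) (Fin 3) F) * !![1, 0, 1; 0, 1, 0; 0, 0, 1] =
        !![1, 0, 1; 0, 1, 0; 0, 0, 1] * ((M : SpecialLinearGroup (Fin 3) F) : Matrix (Fin 3) (Fin 3) F) := by
      rw [← e1]
      exact congrArg (fun x : affineGroup F => ((x : SpecialLinearGroup (Fin 3) F) : Matrix (Fin 3) (Fin 3) F)) h1
    have h2' : ((M : SpecialLinearGroup (Fin 3) F) : Matrix (Fin 3) (Fin 3) F) * !![1, 0, 0; 0, 1, 1; 0, 0, 1] =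
        !![1, 0, 0; 0, 1, 1; 0, 0, 1] * ((M : SpecialLinearGroup (Fin 3) F) : Matrix (Fin 3) (Fin 3) F) := by
      rw [← e2]
      exact congrArg (fun x : affineGroup F => ((x : SpecialLinearGroup (Fin 3) F) : Matrix (Fin 3) (Fin 3) F)) h2
    obtain ⟨u, v, w⟩ := affine_shape F M.2
    have a := congrFun (congrFun h1' 0) 2
    have c := congrFun (congrFun h1' 1) 2
    have b := congrFun (congrFun h2' 0) 2
    have d := congrFun (congrFun h2' 1) 2
    simp [Matrix.mul_apply, Fin.sum_univ_three, u, v, w] at a b c d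
    rw [hT, mem_translations]
    exact ⟨by linear_combination a, by linear_combination b, by linear_combination c, by linear_combination d⟩
  have hR1 : R ≠ ⊥ := fun h => hτne (Subgroup.mem_bot.1 (h ▸ hTR hτ₁))
  refine exists_model hG hcomm hsq hR1 e fun X _ hXR hX => Subgroup.eq_of_le_of_card_ge hXR ?_
  rw [hX]
  calc Nat.card R ≤ Nat.card T := Subgroup.card_le_of_le hRT
    _ ≤ 16 := (card_translations_le F).trans (by rw [hF])

end Affine

end CfsgLib.OneToFive
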