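import Mathlib

/-!
Finite checks in the alternating groups of degree five and six.
-/

set_option autoImplicit false

namespace CfsgLib.OneToFive

theorem alt5_inverted : ∀ x : alternatingGroup (Fin 5), x ^ 3 = 1 ∨ x ^ 5 = 1 →
    ∃ t : alternatingGroup (Fin 5), t * t = 1 ∧ t ≠ 1 ∧ t * x * t = x⁻¹ := by decide +kernel

theorem alt6_inverted : ∀ x : alternatingGroup (Fin 6), x ^ 3 = 1 ∨ x ^ 5 = 1 →
    ∃ t : alternatingGroup (Fin 6), t * t = 1 ∧ t ≠ 1 ∧ t * x * t = x⁻¹ := by decide +kernel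

theorem alt5_three_conj : ∀ x y : alternatingGroup (Fin 5), x ^ 3 = 1 → y ^ 3 = 1 → x ≠ 1 → y ≠ 1 →
    ∃ m : alternatingGroup (Fin 5), m * x * m⁻¹ = y := by decide +kernel

/-- Generators of a four-group of the alternating group of degree six, and an element of order three
normalizing it. -/
theorem alt6_four :
    ∃ a b s : alternatingGroup (Fin 6), a * a = 1 ∧ b * b = 1 ∧ a * b = b * a ∧ a ≠ 1 ∧ b ≠ 1 ∧ a ≠ b ∧
      s ^ 3 = 1 ∧ s ≠ 1 ∧ s * a * s⁻¹ = b ∧ s * b * s⁻¹ = a * b ∧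
      ∀ x, x * a = a * x → x * b = b * x → x = 1 ∨ x = a ∨ x = b ∨ x = a * b := by
  refine ⟨⟨Equiv.swap 0 1 * Equiv.swap 2 3, Equiv.Perm.mem_alternatingGroup.2 (by decide)⟩,
    ⟨Equiv.swap 0 3 * Equiv.swap 1 2, Equiv.Perm.mem_alternatingGroup.2 (by decide)⟩,
    ⟨Equiv.swap 0 2 * Equiv.swap 0 1, Equiv.Perm.mem_alternatingGroup.2 (by decide)⟩,
    ?_, ?_, ?_, ?_, ?_, ?_, ?_, ?_, ?_, ?_, ?_⟩
  all_goals decide +kernel


end CfsgLib.OneToFive
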