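import Mathlib

/-!
Groups all of whose elements have order at most five: centralizers, and two norm arguments on a
module of exponent two.
-/

set_option autoImplicit false
set_option linter.style.haveILetI false

namespace CfsgLib.OneToFive

/-- Every element has order at most five. -/
def Spec (G : Type*) [Group G] : Prop := ∀ x : G, x ^ 3 = 1 ∨ x ^ 4 = 1 ∨ x ^ 5 = 1

variable {G : Type*} [Group G]

theorem Spec.subgroup (h : Spec G) (H : Subgroup G) : Spec H := fun x => by
  rcases h x with e | e | e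
  · exact Or.inl (Subtype.ext e)
  · exact Or.inr (Or.inl (Subtype.ext e))
  · exact Or.inr (Or.inr (Subtype.ext e))

theorem Spec.quotient (h : Spec G) (N : Subgroup G) [N.Normal] : Spec (G ⧸ N) := fun x => by
  obtain ⟨x, rfl⟩ := QuotientGroup.mk_surjective x
  rcases h x with e | e | e
  · exact Or.inl (by rw [← QuotientGroup.mk_pow, e]; rfl)
  · exact Or.inr (Or.inl (by rw [← QuotientGroup.mk_pow, e]; rfl))
  · exact Or.inr (Or.inr (by rw [← QuotientGroup.mk_pow, e]; rfl))

theorem Spec.order (h : Spec G) (x : G) : orderOf x ∣ 3 ∨ orderOf x ∣ 4 ∨ orderOf x ∣ 5 := by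
  rcases h x with e | e | e
  · exact Or.inl (orderOf_dvd_of_pow_eq_one e)
  · exact Or.inr (Or.inl (orderOf_dvd_of_pow_eq_one e))
  · exact Or.inr (Or.inr (orderOf_dvd_of_pow_eq_one e))

theorem Spec.prime (h : Spec G) [Finite G] {p : ℕ} (hp : p.Prime) (hd : p ∣ Nat.card G) :
    p = 2 ∨ p = 3 ∨ p = 5 := by
  haveI := Fact.mk hp
  obtain ⟨x, hx⟩ := exists_prime_orderOf_dvd_card' p hd
  have := hp.two_le
  rcases h.order x with e | e | e <;> rw [hx] at e <;> have := Nat.le_of_dvd (by norm_num) e <;>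
    interval_cases p <;> first | omega | (norm_num at hp)

theorem pow_four_of_two_group (h : Spec G) {S : Subgroup G} (hS : IsPGroup 2 S) {x : G} (hx : x ∈ S) :
    x ^ 4 = 1 := by
  obtain ⟨k, hk⟩ := hS ⟨x, hx⟩
  have hk' : x ^ (2 ^ k) = 1 := congrArg Subtype.val hk
  have hd := orderOf_dvd_of_pow_eq_one hk'
  rcases h.order x with e | e | e
  · rw [orderOf_eq_one_iff.1 (Nat.eq_one_of_dvd_coprimes (Nat.Coprime.pow_left k (by norm_num)) hd e), one_pow]
  · exact orderOf_dvd_iff_pow_eq_one.1 e
  · rw [orderOf_eq_one_iff.1 (Nat.eq_one_of_dvd_coprimes (Nat.Coprime.pow_left k (by norm_num)) hd e), one_pow]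

/-- Commuting nontrivial elements have orders with a common prime. -/
theorem Spec.commute_cases (h : Spec G) {a b : G} (hc : Commute a b) (hco : (orderOf a).Coprime (orderOf b)) :
    a = 1 ∨ b = 1 := by
  suffices orderOf a = 1 ∨ orderOf b = 1 from this.imp orderOf_eq_one_iff.1 orderOf_eq_one_iff.1
  have e := hc.orderOf_mul_eq_mul_orderOf_of_coprime hco
  have h1 := h.order (a * b)
  rw [e] at h1
  by_contra hne
  rw [not_or] at hne
  rcases h1 with h1 | h1 | h1
  · rcases (Nat.dvd_prime Nat.prime_three).1 ((Dvd.intro _ rfl).trans h1) with ha | ha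
    · exact hne.1 ha
    · rw [ha, Nat.coprime_comm] at hco
      exact hne.2 (Nat.eq_one_of_dvd_coprimes hco dvd_rfl ((Dvd.intro_left _ rfl).trans h1))
  · have ha := (Nat.dvd_prime_pow Nat.prime_two (m := 2)).1 ((Dvd.intro _ rfl).trans h1)
    have hb := (Nat.dvd_prime_pow Nat.prime_two (m := 2)).1 ((Dvd.intro_left _ rfl).trans h1)
    obtain ⟨i, -, hi⟩ := ha
    obtain ⟨j, -, hj⟩ := hb
    rcases Nat.eq_zero_or_pos i with rfl | hi0
    · exact hne.1 hi
    rcases Nat.eq_zero_or_pos j with rfl | hj0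
    · exact hne.2 hj
    rw [hi, hj, Nat.coprime_pow_left_iff hi0, Nat.coprime_pow_right_iff hj0] at hco
    norm_num at hco
  · rcases (Nat.dvd_prime (by norm_num : Nat.Prime 5)).1 ((Dvd.intro _ rfl).trans h1) with ha | ha
    · exact hne.1 ha
    · rw [ha, Nat.coprime_comm] at hco
      exact hne.2 (Nat.eq_one_of_dvd_coprimes hco dvd_rfl ((Dvd.intro_left _ rfl).trans h1))

/-- An element of odd prime order and a nontrivial `2`-element do not commute. -/
theorem Spec.not_commute (h : Spec G) {a b : G} (hc : Commute a b) (ha : a ^ 4 = 1)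
    (hb : b ^ 3 = 1 ∨ b ^ 5 = 1) : a = 1 ∨ b = 1 := by
  refine h.commute_cases hc ?_
  rcases hb with e | e
  · exact (Nat.Coprime.coprime_dvd_left (orderOf_dvd_of_pow_eq_one ha)
      (Nat.Coprime.coprime_dvd_right (orderOf_dvd_of_pow_eq_one e) (by norm_num)))
  · exact (Nat.Coprime.coprime_dvd_left (orderOf_dvd_of_pow_eq_one ha)
      (Nat.Coprime.coprime_dvd_right (orderOf_dvd_of_pow_eq_one e) (by norm_num)))

/-- The centralizer of a nontrivial `2`-element is a `2`-group. -/
theorem Spec.cent_two (h : Spec G) {a : G} (ha : a ^ 4 = 1) (ha1 : a ≠ 1) :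
    IsPGroup 2 (Subgroup.centralizer ({a} : Set G)) := fun c => by
  refine ⟨2, Subtype.ext ?_⟩
  show (c : G) ^ (2 ^ 2) = 1
  have hc : Commute a (c : G) := (Subgroup.mem_centralizer_singleton_iff.1 c.2).symm
  rcases h (c : G) with e | e | e
  · rw [(h.not_commute hc ha (Or.inl e)).resolve_left ha1, one_pow]
  · exact e
  · rw [(h.not_commute hc ha (Or.inr e)).resolve_left ha1, one_pow]

theorem Spec.cent_invol (h : Spec G) {t : G} (ht : orderOf t = 2) :
    IsPGroup 2 (Subgroup.centralizer ({t} : Set G)) :=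
  h.cent_two (by rw [show 4 = 2 * 2 from rfl, pow_mul, show t ^ 2 = 1 by rw [← ht, pow_orderOf_eq_one], one_pow])
    (fun e => by rw [e, orderOf_one] at ht; norm_num at ht)

/-- An element of order three commutes only with elements of exponent three. -/
theorem Spec.cent_three (h : Spec G) {σ c : G} (hσ : σ ^ 3 = 1) (hσ1 : σ ≠ 1) (hc : Commute σ c) :
    c ^ 3 = 1 := by
  rcases h c with e | e | e
  · exact e
  · rw [(h.not_commute hc.symm e (Or.inl hσ)).resolve_right hσ1, one_pow]
  · rw [(h.commute_cases hc (Nat.Coprime.coprime_dvd_left (orderOf_dvd_of_pow_eq_one hσ)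
      (Nat.Coprime.coprime_dvd_right (orderOf_dvd_of_pow_eq_one e) (by norm_num)))).resolve_left hσ1, one_pow]

/-- An element of order five commutes only with elements of exponent five. -/
theorem Spec.cent_five (h : Spec G) {y c : G} (hy : y ^ 5 = 1) (hy1 : y ≠ 1) (hc : Commute y c) :
    c ^ 5 = 1 := by
  rcases h c with e | e | e
  · rw [(h.commute_cases hc (Nat.Coprime.coprime_dvd_left (orderOf_dvd_of_pow_eq_one hy)
      (Nat.Coprime.coprime_dvd_right (orderOf_dvd_of_pow_eq_one e) (by norm_num)))).resolve_left hy1, one_pow]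
  · rw [(h.not_commute hc.symm e (Or.inr hy)).resolve_right hy1, one_pow]
  · exact e

theorem orderOf_eq_two_of {x : G} (h : x * x = 1) (h1 : x ≠ 1) : orderOf x = 2 :=
  orderOf_eq_prime (by rw [pow_two, h]) h1

section Norm

variable {D : Type*} [CommGroup D] {H : Type*} [Group H] (φ : H →* MulAut D)

/-- The product of the images under the powers of `g`. -/
def normPow (g : H) (n : ℕ) (d : D) : D := ∏ j ∈ Finset.range n, φ (g ^ j) d

theorem normPow_fixed {g : H} {n : ℕ} (hg : g ^ n = 1) (d : D) :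
    φ g (normPow φ g n d) = normPow φ g n d := by
  have h1 := Finset.prod_range_succ' (fun j => φ (g ^ j) d) n
  rw [Finset.prod_range_succ, hg, pow_zero, mul_left_inj] at h1
  simp only [normPow, map_prod]
  rw [h1]
  exact Finset.prod_congr rfl fun j _ => by rw [← MulAut.mul_apply, ← map_mul, pow_succ']

theorem normPow_eq_one {g : H} {n : ℕ} (hg : g ^ n = 1) (hfpf : ∀ d, φ g d = d → d = 1) (d : D) :
    normPow φ g n d = 1 := hfpf _ (normPow_fixed φ hg d)

theorem prod_perm {p : ℕ} [Fact p.Prime] {g : H} (hg : g ^ p = 1) {k : ℕ} (hk : ¬ p ∣ k) (d : D) :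
    ∏ i ∈ Finset.range p, φ (g ^ (i * k)) d = normPow φ g p d := by
  have hp := (Fact.out : p.Prime)
  have hcop : Nat.Coprime k p := Nat.Coprime.symm ((hp.coprime_iff_not_dvd).2 hk)
  have hmod : ∀ a : ℕ, g ^ a = g ^ (a % p) := fun a => pow_eq_pow_mod a hg
  refine Finset.prod_nbij' (fun i => i * k % p) (fun i => i * (k ^ (p - 2)) % p) ?_ ?_ ?_ ?_ ?_
  · intro i _; simpa using Nat.mod_lt _ hp.pos
  · intro i _; simpa using Nat.mod_lt _ hp.pos
  · intro i hi
    simp only [Finset.coe_range, Set.mem_Iio, Finset.mem_range] at hi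
    show i * k % p * k ^ (p - 2) % p = i
    rw [Nat.mod_mul_mod, mul_assoc, ← pow_succ', show p - 2 + 1 = p - 1 from by have := hp.two_le; omega]
    have := Nat.ModEq.pow_card_sub_one_eq_one hp hcop
    calc i * k ^ (p - 1) % p = i * 1 % p := Nat.ModEq.mul_left i this
      _ = i := by rw [mul_one, Nat.mod_eq_of_lt hi]
  · intro i hi
    simp only [Finset.coe_range, Set.mem_Iio, Finset.mem_range] at hi
    show i * k ^ (p - 2) % p * k % p = i
    rw [Nat.mod_mul_mod, mul_assoc, ← pow_succ, show p - 2 + 1 = p - 1 from by have := hp.two_le; omega]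
    have := Nat.ModEq.pow_card_sub_one_eq_one hp hcop
    calc i * k ^ (p - 1) % p = i * 1 % p := Nat.ModEq.mul_left i this
      _ = i := by rw [mul_one, Nat.mod_eq_of_lt hi]
  · intro i _
    rw [← hmod]

/-- An elementary group of order `p²` acting without fixed points kills everything. -/
theorem pow_eq_one_of_fpf_sq {p : ℕ} [Fact p.Prime] {a b : H} (hab : Commute a b) (ha : a ^ p = 1)
    (hb : b ^ p = 1) (hfb : ∀ d, φ b d = d → d = 1) (hfi : ∀ i : ℕ, ∀ d, φ (a * b ^ i) d = d → d = 1)
    (d : D) : d ^ p = 1 := by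
  have hp := (Fact.out : p.Prime)
  have h1 : ∀ i ∈ Finset.range p, normPow φ (a * b ^ i) p d = 1 := fun i _ =>
    normPow_eq_one φ (by rw [(hab.pow_right i).mul_pow, ha, ← pow_mul, mul_comm, pow_mul, hb, one_pow, one_mul])
      (hfi i) d
  have h2 := Finset.prod_eq_one h1
  unfold normPow at h2
  rw [Finset.prod_comm, Finset.prod_eq_single_of_mem 0 (Finset.mem_range.2 hp.pos)] at h2
  · simpa using h2
  · intro j hj hj0
    have hk : ¬ p ∣ j := fun e => by
      have := Nat.le_of_dvd (Nat.pos_of_ne_zero hj0) e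
      exact absurd (Finset.mem_range.1 hj) (by omega)
    calc ∏ i ∈ Finset.range p, φ ((a * b ^ i) ^ j) d
        = ∏ i ∈ Finset.range p, φ (a ^ j) (φ (b ^ (i * j)) d) := Finset.prod_congr rfl fun i _ => by
          rw [(hab.pow_right i).mul_pow, ← pow_mul, map_mul]; rfl
      _ = φ (a ^ j) (normPow φ b p d) := by rw [← map_prod, prod_perm φ hb hk]
      _ = 1 := by rw [normPow_eq_one φ hb hfb, map_one]

end Norm

end CfsgLib.OneToFive
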