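import Cfsg.Agent.Lib.OneToFive.Basic
import Cfsg.Agent.Lib.Invol.Dihedral
import Cfsg.Agent.Lib.Transfer.Sylow

/-!
Sylow subgroups of an odd prime with an inverted element, in a group with element orders at most five:
they are abelian, meet trivially, and this counts the elements of that order.
-/

set_option autoImplicit false
set_option linter.style.haveILetI false

namespace CfsgLib.OneToFive

variable {G : Type*} [Group G] [Finite G]

/-- An involution without fixed points inverts. -/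
theorem inverts_of_fpf {C : Subgroup G} {t : G} (ht2 : t * t = 1) (hC : ∀ c ∈ C, t * c * t ∈ C)
    (hfix : ∀ c ∈ C, t * c = c * t → c = 1) : ∀ c ∈ C, t * c * t = c⁻¹ := by
  have hinj : Function.Injective (fun c : C => (⟨(c : G)⁻¹ * (t * c * t),
      mul_mem (inv_mem c.2) (hC c c.2)⟩ : C)) := fun a b e => by
    have e' : (a : G)⁻¹ * (t * a * t) = (b : G)⁻¹ * (t * b * t) := congrArg Subtype.val e
    refine Subtype.ext (mul_inv_eq_one.1 (hfix _ (mul_mem a.2 (inv_mem b.2)) ?_))
    have hti : t⁻¹ = t := inv_eq_of_mul_eq_one_right ht2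
    calc t * ((a : G) * (b : G)⁻¹) = t * a * t * (t * b * t)⁻¹ * t := by
          rw [mul_inv_rev, mul_inv_rev, hti,
            show t * (a : G) * t * (t * ((b : G)⁻¹ * t)) * t = t * a * (t * t) * (b : G)⁻¹ * (t * t) by group, ht2,
            mul_one, mul_one, mul_assoc]
      _ = (a : G) * ((a : G)⁻¹ * (t * a * t)) * ((b : G)⁻¹ * (t * b * t))⁻¹ * (b : G)⁻¹ * t := by group
      _ = _ := by rw [e']; group
  intro c hc
  obtain ⟨e, he⟩ := (Finite.injective_iff_surjective.1 hinj) ⟨c, hc⟩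
  have he' : c = (e : G)⁻¹ * (t * e * t) := (congrArg Subtype.val he).symm
  rw [he', mul_inv_rev, inv_inv, show t * ((e : G)⁻¹ * (t * e * t)) * t = t * (e : G)⁻¹ * t * e * (t * t) by group,
    ht2, mul_one]
  congr 1
  rw [mul_inv_rev, mul_inv_rev, inv_eq_of_mul_eq_one_right ht2, mul_assoc]

omit [Finite G] in
theorem comm_of_inverted {C : Subgroup G} {t : G} (ht2 : t * t = 1) (h : ∀ c ∈ C, t * c * t = c⁻¹) :
    ∀ a ∈ C, ∀ b ∈ C, a * b = b * a := fun a ha b hb => by
  apply inv_injective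
  rw [← h _ (mul_mem ha hb), show t * (a * b) * t = t * a * 1 * b * t by group, ← ht2,
    show t * a * (t * t) * b * t = t * a * t * (t * b * t) by group, h a ha, h b hb, mul_inv_rev]

/-- The elements of order `p`, counted. -/
theorem count_prime (hG : Spec G) {p : ℕ} [Fact p.Prime] (hp : p = 3 ∨ p = 5) {x t : G} (hx : x ^ p = 1)
    (hx1 : x ≠ 1) (ht : orderOf t = 2) (hinv : t * x * t = x⁻¹) :
    ∃ n h : ℕ, Nat.card {y : G // y ^ p = 1 ∧ y ≠ 1} = n * (p ^ (Nat.card G).factorization p - 1) ∧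
      n * h * p ^ (Nat.card G).factorization p = Nat.card G ∧ 2 ∣ h := by
  classical
  have hpr : p.Prime := Fact.out
  have hexp : ∀ a : G, a ^ p = 1 → a ≠ 1 → ∀ c, Commute a c → c ^ p = 1 := fun a ha ha1 c hc => by
    rcases hp with rfl | rfl
    · exact hG.cent_three ha ha1 hc
    · exact hG.cent_five ha ha1 hc
  have hpg : ∀ a : G, a ^ p = 1 → a ≠ 1 → IsPGroup p (Subgroup.centralizer ({a} : Set G)) := fun a ha ha1 c =>
    ⟨1, Subtype.ext (by
      rw [pow_one]
      exact hexp a ha ha1 c (Subgroup.mem_centralizer_singleton_iff.1 c.2).symm)⟩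
  have ht2 := Invol.mul_self_of_orderOf_two ht
  have ht4 : t ^ 4 = 1 := by rw [show 4 = 2 * 2 from rfl, pow_mul, pow_two t, ht2, one_pow]
  have ht1 := Invol.ne_one_of_orderOf_two ht
  have hti := Invol.inv_of_orderOf_two ht
  -- `t` inverts the centralizer of every inverted element
  have hinvC : ∀ a : G, a ^ p = 1 → a ≠ 1 → t * a * t = a⁻¹ →
      ∀ c ∈ Subgroup.centralizer ({a} : Set G), t * c * t = c⁻¹ := by
    intro a ha ha1 hia
    refine inverts_of_fpf ht2 (fun c hc => Subgroup.mem_centralizer_singleton_iff.2 ?_) fun c hc hct => ?_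
    · have hc' : Commute c a⁻¹ := (show Commute c a from Subgroup.mem_centralizer_singleton_iff.1 hc).inv_right
      have e : a = t * a⁻¹ * t := by
        rw [← hia, show t * (t * a * t) * t = t * t * a * (t * t) by group, ht2, one_mul, mul_one]
      calc t * c * t * a = t * c * t * (t * a⁻¹ * t) := by rw [← e]
        _ = t * (c * (t * t) * a⁻¹) * t := by group
        _ = t * (a⁻¹ * (t * t) * c) * t := by rw [ht2, mul_one, mul_one, hc'.eq]
        _ = t * a⁻¹ * t * (t * c * t) := by group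
        _ = _ := by rw [← e]
    · refine (hG.not_commute (show Commute t c from hct) ht4 ?_).resolve_left ht1
      have := hexp a ha ha1 c (Subgroup.mem_centralizer_singleton_iff.1 hc).symm
      rcases hp with rfl | rfl
      · exact Or.inl this
      · exact Or.inr this
  have hC := hinvC x hx hx1 hinv
  obtain ⟨P, hP⟩ := (hpg x hx hx1).exists_le_sylow
  have hxP : x ∈ (P : Subgroup G) := hP (Subgroup.mem_centralizer_singleton_iff.2 rfl)
  haveI : Nontrivial (P : Subgroup G) := ⟨⟨x, hxP⟩, 1, fun e => hx1 (congrArg Subtype.val e)⟩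
  haveI := P.2.center_nontrivial
  obtain ⟨⟨⟨z, hzP⟩, hzc⟩, hz1⟩ := exists_ne (1 : Subgroup.center (P : Subgroup G))
  have hz1' : z ≠ 1 := fun e => hz1 (Subtype.ext (Subtype.ext e))
  have hzcomm : ∀ y ∈ (P : Subgroup G), y * z = z * y := fun y hy =>
    congrArg Subtype.val (Subgroup.mem_center_iff.1 hzc ⟨y, hy⟩)
  have hzC : z ∈ Subgroup.centralizer ({x} : Set G) :=
    Subgroup.mem_centralizer_singleton_iff.2 (hzcomm x hxP).symm
  have hzp : z ^ p = 1 := hexp x hx hx1 z (Subgroup.mem_centralizer_singleton_iff.1 hzC).symm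
  have hCz : Subgroup.centralizer ({z} : Set G) = (P : Subgroup G) :=
    P.3 (hpg z hzp hz1') fun y hy => Subgroup.mem_centralizer_singleton_iff.2 (hzcomm y hy)
  have hPinv : ∀ y ∈ (P : Subgroup G), t * y * t = y⁻¹ := fun y hy =>
    hinvC z hzp hz1' (hC z hzC) y (hCz ▸ hy)
  have hPab := comm_of_inverted ht2 hPinv
  have htN : t ∈ Subgroup.normalizer ((P : Subgroup G) : Set G) := Subgroup.mem_normalizer_iff.2 fun y => by
    refine ⟨fun hy => by rw [hti, hPinv y hy]; exact inv_mem hy, fun hy => ?_⟩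
    have h := hPinv _ hy
    rw [hti, show t * (t * y * t) * t = t * t * y * (t * t) by group, ht2, one_mul, mul_one] at h
    rw [h]
    exact inv_mem (by rw [hti] at hy; exact hy)
  -- the same for every Sylow subgroup
  have hall : ∀ Q : Sylow p G, (∀ y ∈ (Q : Subgroup G), y ^ p = 1) ∧
      ∀ y ∈ (Q : Subgroup G), y ≠ 1 → Subgroup.centralizer ({y} : Set G) = (Q : Subgroup G) := by
    intro Q
    obtain ⟨g, rfl⟩ := MulAction.exists_smul_eq G P Q
    have hpow : ∀ y ∈ ((g • P : Sylow p G) : Subgroup G), y ^ p = 1 := fun y hy => by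
      rw [Transfer.mem_smul_sylow] at hy
      have h := hexp z hzp hz1' _ (hzcomm _ hy).symm
      rw [show g⁻¹ * y * g = g⁻¹ * y * g⁻¹⁻¹ by rw [inv_inv], conj_pow] at h
      exact conj_eq_one_iff.1 h
    refine ⟨hpow, fun y hy hy1 => (g • P).3 (hpg y (hpow y hy) hy1) fun w hw => ?_⟩
    rw [Transfer.mem_smul_sylow] at hy hw
    refine Subgroup.mem_centralizer_singleton_iff.2 ?_
    calc w * y = g * ((g⁻¹ * w * g) * (g⁻¹ * y * g)) * g⁻¹ := by group
      _ = g * ((g⁻¹ * y * g) * (g⁻¹ * w * g)) * g⁻¹ := by rw [hPab _ hw _ hy]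
      _ = _ := by group
  set k := (Nat.card G).factorization p
  have hcardQ : ∀ Q : Sylow p G, Nat.card Q = p ^ k := fun Q => Q.card_eq_multiplicity
  haveI := Fintype.ofFinite (Sylow p G)
  set N := Subgroup.normalizer ((P : Subgroup G) : Set G) with hN
  refine ⟨Nat.card (Sylow p G), ((P : Subgroup G).subgroupOf N).index, ?_, ?_, ?_⟩
  · rw [Nat.card_congr (Equiv.ofBijective
      (fun q : Σ Q : Sylow p G, {y : (Q : Subgroup G) // y ≠ 1} =>
        (⟨(q.2.1 : G), (hall q.1).1 _ q.2.1.2, fun e => q.2.2 (Subtype.ext e)⟩ : {y : G // y ^ p = 1 ∧ y ≠ 1}))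
      ⟨?_, ?_⟩).symm, Nat.card_sigma]
    · rw [Finset.sum_congr rfl (fun (Q : Sylow p G) _ => (show Nat.card {y : (Q : Subgroup G) // y ≠ 1} = p ^ k - 1 by
        haveI := Fintype.ofFinite (Q : Subgroup G)
        rw [Nat.card_eq_fintype_card, Fintype.card_subtype_compl, Fintype.card_subtype_eq,
          ← Nat.card_eq_fintype_card, hcardQ Q])), Finset.sum_const, Finset.card_univ, smul_eq_mul,
        Nat.card_eq_fintype_card]
    · rintro ⟨Q, y, hy⟩ ⟨R, w, hw⟩ e
      have e' : (y : G) = w := congrArg Subtype.val e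
      have hy' : (y : G) ≠ 1 := fun h => hy (Subtype.ext h)
      have hQR : Q = R := Sylow.ext (((hall Q).2 _ y.2 hy').symm.trans
        ((hall R).2 _ (e' ▸ w.2) hy'))
      subst hQR
      exact Sigma.ext rfl (heq_of_eq (Subtype.ext (Subtype.ext e')))
    · rintro ⟨y, hy, hy1⟩
      have hz : IsPGroup p (Subgroup.zpowers y) := IsPGroup.of_card (n := 1) (by
        rw [Nat.card_zpowers, orderOf_eq_prime hy hy1, pow_one])
      obtain ⟨Q, hQ⟩ := hz.exists_le_sylow
      exact ⟨⟨Q, ⟨⟨y, hQ (Subgroup.mem_zpowers y)⟩, fun e => hy1 (congrArg Subtype.val e)⟩⟩, rfl⟩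
  · rw [mul_assoc, ← hcardQ P, ← Nat.card_congr (Subgroup.subgroupOfEquivOfLe Subgroup.le_normalizer).toEquiv,
      Subgroup.index_mul_card, P.card_eq_index_normalizer]; exact Subgroup.index_mul_card N
  · have h1 := Subgroup.card_mul_index ((P : Subgroup G).subgroupOf N)
    rw [Nat.card_congr (Subgroup.subgroupOfEquivOfLe Subgroup.le_normalizer).toEquiv, hcardQ P] at h1
    have h2 : 2 ∣ Nat.card N := by
      have := orderOf_dvd_natCard (⟨t, htN⟩ : N)
      rwa [← Subgroup.orderOf_coe, ht] at this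
    rw [← h1] at h2
    exact ((Nat.Coprime.pow_right k (show Nat.Coprime 2 p by rcases hp with rfl | rfl <;> norm_num))).dvd_of_dvd_mul_left h2

end CfsgLib.OneToFive
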