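import Cfsg.Agent.Lib.OneToFive.Two
import Cfsg.Agent.Lib.OneToFour.Basic

/-!
A maximal intersection whose normalizer induces the alternating group of degree five: the preimage of a
four-group.
-/

set_option autoImplicit false
set_option linter.style.haveILetI false
set_option linter.unusedSectionVars false

namespace CfsgLib.OneToFive

abbrev Alt5 := alternatingGroup (Fin 5)

/-- A three-cycle. -/
def aS : Alt5 := ⟨Equiv.swap 0 1 * Equiv.swap 1 2, Equiv.Perm.mem_alternatingGroup.2 (by decide)⟩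

/-- An involution of the four-group fixing the last point. -/
def aV : Alt5 := ⟨Equiv.swap 0 1 * Equiv.swap 2 3, Equiv.Perm.mem_alternatingGroup.2 (by decide)⟩

/-- An involution of the four-group fixing the last point and squaring to one. -/
def InV (p : Alt5) : Prop := p * p = 1 ∧ (p : Equiv.Perm (Fin 5)) 4 = 4

instance : DecidablePred InV := fun p => inferInstanceAs (Decidable (_ ∧ _))

theorem inV_mul : ∀ p q : Alt5, InV p → InV q → InV (p * q) := by decide +kernel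

/-- The four-group fixing the last point. -/
def vSub : Subgroup Alt5 where
  carrier := {p | InV p}
  mul_mem' := fun {p q} hp hq => inV_mul p q hp hq
  one_mem' := ⟨one_mul 1, rfl⟩
  inv_mem' := fun {p} hp => by rwa [inv_eq_of_mul_eq_one_right hp.1]

theorem mem_vSub {p : Alt5} : p ∈ vSub ↔ InV p := Iff.rfl

instance : DecidablePred (· ∈ vSub) := fun p => inferInstanceAs (Decidable (InV p))

theorem card_vSub : Nat.card vSub = 4 := by
  rw [Nat.card_eq_fintype_card]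
  decide +kernel

theorem inV_conj : ∀ p : Alt5, InV p → InV (aS * p * aS⁻¹) := by decide +kernel

theorem inV_elems : ∀ p : Alt5, InV p →
    p = 1 ∨ p = aV ∨ p = aS * aV * aS⁻¹ ∨ p = aV * (aS * aV * aS⁻¹) := by decide +kernel

theorem aS_basic : aS ^ 3 = 1 ∧ aS ≠ 1 ∧ InV aV ∧ aV ≠ 1 ∧ aS * aV * aS⁻¹ ≠ 1 ∧
    aV * (aS * aV * aS⁻¹) ≠ 1 := by decide +kernel

theorem exists_point : ∀ i : Fin 5, ∃ g : Alt5, (g : Equiv.Perm (Fin 5)) 4 = i := by decide +kernel

theorem exists_fixed : ∀ p : Alt5, p * p = 1 → ∃ i, (p : Equiv.Perm (Fin 5)) i = i := by decide +kernel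

theorem inV_of_fixed {p g : Alt5} (hp : p * p = 1)
    (h : (p : Equiv.Perm (Fin 5)) ((g : Equiv.Perm (Fin 5)) 4) = (g : Equiv.Perm (Fin 5)) 4) :
    InV (g⁻¹ * p * g) := by
  refine ⟨by rw [show g⁻¹ * p * g * (g⁻¹ * p * g) = g⁻¹ * (p * p) * g by group, hp]; group, ?_⟩
  simp [Equiv.Perm.mul_apply, h]

theorem pair_exponent : ∀ g : Alt5, (g : Equiv.Perm (Fin 5)) 4 ≠ 4 →
    ∃ v ∈ [aV, aS * aV * aS⁻¹, aV * (aS * aV * aS⁻¹)],
      ∃ w ∈ [aV, aS * aV * aS⁻¹, aV * (aS * aV * aS⁻¹)], (v * (g * w * g⁻¹)) ^ 4 ≠ 1 := by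
  decide +kernel

theorem vNormalizer_dec : ∀ p : Alt5, InV (p * aV * p⁻¹) → InV (p * (aS * aV * aS⁻¹) * p⁻¹) →
    p ^ 3 = 1 → p ≠ 1 →
    ∃ v ∈ [1, aV, aS * aV * aS⁻¹, aV * (aS * aV * aS⁻¹)], p = v * aS ∨ p = v * aS⁻¹ := by
  decide +kernel

/-- An element of order three normalizing the four-group. -/
theorem vNormalizer (p : Alt5) (h : ∀ v, InV v → InV (p * v * p⁻¹)) (h3 : p ^ 3 = 1) (h1 : p ≠ 1) :
    ∃ v, InV v ∧ (p = v * aS ∨ p = v * aS⁻¹) := by
  have hV := aS_basic.2.2.1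
  obtain ⟨v, hv, e⟩ := vNormalizer_dec p (h _ hV) (h _ (inV_conj _ hV)) h3 h1
  refine ⟨v, ?_, e⟩
  simp only [List.mem_cons, List.not_mem_nil, or_false] at hv
  rcases hv with rfl | rfl | rfl | rfl
  · exact vSub.one_mem
  · exact hV
  · exact inV_conj _ hV
  · exact inV_mul _ _ hV (inV_conj _ hV)

theorem card_alt5 : Nat.card Alt5 = 60 := by
  rw [nat_card_alternatingGroup, Nat.card_fin]; decide

variable {G : Type*} [Group G] [Finite G] {D : Subgroup G} (hG : Spec G) (M : MaxInt D)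
  {ψ : Subgroup.normalizer (D : Set G) →* Alt5} (hψ : Function.Surjective ψ)
  (hker : ψ.ker = D.subgroupOf (Subgroup.normalizer (D : Set G)))
include hG M hψ hker

omit hG M hψ in
theorem psi_eq_one {x : Subgroup.normalizer (D : Set G)} : ψ x = 1 ↔ (x : G) ∈ D := by
  rw [← MonoidHom.mem_ker, hker]; rfl

omit hG M in
theorem card_normalizer : Nat.card (Subgroup.normalizer (D : Set G)) = 60 * Nat.card D := by
  rw [Subgroup.card_eq_card_quotient_mul_card_subgroup ψ.ker,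
    Nat.card_congr (QuotientGroup.quotientKerEquivOfSurjective ψ hψ).toEquiv, hker,
    Nat.card_congr (Subgroup.subgroupOfEquivOfLe Subgroup.le_normalizer).toEquiv, card_alt5]

variable (ψ) in
/-- The preimage of the four-group. -/
def pre : Subgroup G := (vSub.comap ψ).map (Subgroup.normalizer (D : Set G)).subtype

omit hG M hψ hker in
theorem mem_pre {x : G} : x ∈ pre ψ ↔ ∃ h : x ∈ Subgroup.normalizer (D : Set G), InV (ψ ⟨x, h⟩) := by
  constructor
  · rintro ⟨y, hy, rfl⟩; exact ⟨y.2, hy⟩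
  · rintro ⟨h, hy⟩; exact ⟨⟨x, h⟩, hy, rfl⟩

omit hG M hψ in
theorem le_pre : D ≤ pre ψ := fun x hx => mem_pre.2 ⟨Subgroup.le_normalizer hx, by
  rw [(psi_eq_one hker).2 hx]; exact vSub.one_mem⟩

omit hG M hψ hker in
theorem pre_le : pre ψ ≤ Subgroup.normalizer (D : Set G) := Subgroup.map_subtype_le _

omit hG M in
theorem card_pre : Nat.card (pre ψ) = 4 * Nat.card D := by
  have h1 : (vSub.comap ψ).index = 15 := by
    rw [Subgroup.index_comap_of_surjective _ hψ]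
    have := Subgroup.card_mul_index vSub
    rw [card_vSub, card_alt5] at this
    omega
  have h2 := Subgroup.card_mul_index (vSub.comap ψ)
  rw [h1, card_normalizer hψ hker] at h2
  rw [pre, ← Nat.card_congr (Subgroup.equivMapOfInjective _ _ (Subgroup.subtype_injective _)).toEquiv]
  omega

theorem isPGroup_pre : IsPGroup 2 (pre ψ) := by
  refine IsPGroup.map ?_ _
  refine IsPGroup.comap_of_ker_isPGroup (IsPGroup.of_card (n := 2) card_vSub) ψ ?_
  rw [hker]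
  exact (isPGroup_int hG M).comap_of_injective _ Subtype.coe_injective

theorem local_le (P : Sylow 2 G) :
    Nat.card ((P : Subgroup G) ⊓ Subgroup.normalizer (D : Set G) : Subgroup G) ≤ 4 * Nat.card D := by
  haveI : Fact (Nat.Prime 2) := ⟨Nat.prime_two⟩
  obtain ⟨m, hm⟩ := (P.2.to_le (inf_le_left (b := Subgroup.normalizer (D : Set G)))).exists_card_eq
  obtain ⟨k, hk⟩ := (isPGroup_int hG M).exists_card_eq
  have hd := Subgroup.card_dvd_of_le (inf_le_right (a := (P : Subgroup G)) (b := Subgroup.normalizer (D : Set G)))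
  rw [card_normalizer hψ hker, hm, hk, show 60 * 2 ^ k = 15 * 2 ^ (k + 2) by ring] at hd
  rw [hm, hk, show 4 * 2 ^ k = 2 ^ (k + 2) by ring]
  exact Nat.le_of_dvd (by positivity) ((Nat.Coprime.pow_left m (by norm_num)).dvd_of_dvd_mul_left hd)

theorem sylow_inf_eq {P : Sylow 2 G} (h : pre ψ ≤ P) :
    (P : Subgroup G) ⊓ Subgroup.normalizer (D : Set G) = pre ψ :=
  (Subgroup.eq_of_le_of_card_ge (le_inf h pre_le)
    ((local_le hG M hψ hker P).trans_eq (card_pre hψ hker).symm)).symm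

theorem card_local {P : Sylow 2 G} (hP : D ≤ P) :
    Nat.card ((P : Subgroup G) ⊓ Subgroup.normalizer (D : Set G) : Subgroup G) = 4 * Nat.card D := by
  haveI : Fact (Nat.Prime 2) := ⟨Nat.prime_two⟩
  obtain ⟨S, hS⟩ := (isPGroup_pre hG M hψ hker).exists_le_sylow
  have hDS : D ≤ S := (le_pre hker).trans hS
  have key : ∀ {R : Sylow 2 G} (hR : D ≤ R),
      Nat.card ((R : Subgroup G) ⊓ Subgroup.normalizer (D : Set G) : Subgroup G) =
        Nat.card (localSylow hG M hR : Subgroup (Subgroup.normalizer (D : Set G))) := fun {R} hR => by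
    show _ = Nat.card ((R : Subgroup G).subgroupOf _)
    rw [← Subgroup.inf_subgroupOf_right]
    exact (Nat.card_congr (Subgroup.subgroupOfEquivOfLe inf_le_right).toEquiv).symm
  rw [← card_pre hψ hker, ← sylow_inf_eq hG M hψ hker hS, key hP, key hDS,
    Sylow.card_eq_multiplicity, Sylow.card_eq_multiplicity]

/-- A lift of an element of odd prime order has that order. -/
theorem lift_pow {x : Subgroup.normalizer (D : Set G)} {p : ℕ} (hp : p = 3 ∨ p = 5) (h : ψ x ^ p = 1)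
    (h1 : ψ x ≠ 1) : (x : G) ^ p = 1 ∧ (x : G) ≠ 1 := by
  refine ⟨?_, fun e => h1 ((psi_eq_one hker).2 (e ▸ one_mem D))⟩
  have key : ∀ n, (x : G) ^ n = 1 → Nat.Coprime n p → ψ x = 1 := fun n hn hco => by
    have e : x ^ n = 1 := Subtype.ext hn
    refine orderOf_eq_one_iff.1 (Nat.eq_one_of_dvd_coprimes hco (orderOf_dvd_of_pow_eq_one ?_)
      (orderOf_dvd_of_pow_eq_one h))
    rw [← map_pow, e, map_one]
  rcases hp with rfl | rfl <;> rcases hG (x : G) with e | e | e <;>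
    first | exact e | exact absurd (key _ e (by norm_num)) h1

/-- The three involutions and the element of order three. -/
structure Frame (ψ : Subgroup.normalizer (D : Set G) →* Alt5) (S : Sylow 2 G) (σ t : G) : Prop where
  le : D ≤ S
  eq_pre : (S : Subgroup G) ⊓ Subgroup.normalizer (D : Set G) = pre ψ
  sigN : σ ∈ Subgroup.normalizer (D : Set G)
  sig3 : σ ^ 3 = 1
  sig1 : σ ≠ 1
  sigPsi : ∀ h, ψ ⟨σ, h⟩ = aS
  conj : ∀ x ∈ pre ψ, σ * x * σ⁻¹ ∈ pre ψ
  fpf : ∀ x ∈ pre ψ, σ * x = x * σ → x = 1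
  tmem : t ∈ pre ψ
  t2 : t * t = 1
  notD : t ∉ D ∧ σ * t * σ⁻¹ ∉ D ∧ t * (σ * t * σ⁻¹) ∉ D
  comm : Commute t (σ * t * σ⁻¹)
  cover : ∀ x ∈ pre ψ, x ∈ D ∨ x * t ∈ D ∨ x * (σ * t * σ⁻¹) ∈ D ∨ x * (t * (σ * t * σ⁻¹)) ∈ D
  cent : ∀ x ∈ pre ψ, x ∉ D →
    D ⊓ Subgroup.centralizer ({x} : Set G) = D ⊓ Subgroup.centralizer ({t} : Set G)
  central : ∀ d ∈ D ⊓ Subgroup.centralizer ({t} : Set G), ∀ x ∈ pre ψ, x * d = d * x

theorem exists_frame : ∃ (S : Sylow 2 G) (σ t : G), Frame ψ S σ t := by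
  haveI : Fact (Nat.Prime 2) := ⟨Nat.prime_two⟩
  obtain ⟨hs3, hs1, hvV, hv1, hv2, hv3⟩ := aS_basic
  obtain ⟨hcomm, hsq⟩ := elementary hG M
  obtain ⟨S, hTS⟩ := (isPGroup_pre hG M hψ hker).exists_le_sylow
  have hS : D ≤ S := (le_pre hker).trans hTS
  obtain ⟨σ', hσ'⟩ := hψ aS
  obtain ⟨hσ3, hσ1⟩ := lift_pow hG M hψ hker (x := σ') (Or.inl rfl) (by rw [hσ', hs3]) (by rw [hσ']; exact hs1)
  set σ : G := (σ' : G) with hσdef
  -- an involution over `aV`
  obtain ⟨a, ha⟩ := hψ aV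
  let g5 : Alt5 := ⟨Equiv.swap 0 1 * Equiv.swap 1 4, Equiv.Perm.mem_alternatingGroup.2 (by decide)⟩
  have hg5 : g5 ^ 3 = 1 ∧ g5 ≠ 1 ∧ g5 * (aV * g5 * aV⁻¹) = 1 := by decide +kernel
  obtain ⟨g, hg⟩ := hψ g5
  obtain ⟨hg3, hg1⟩ := lift_pow hG M hψ hker (x := g) (Or.inl rfl) (by rw [hg, hg5.1]) (by rw [hg]; exact hg5.2.1)
  obtain ⟨d, hd, ht2, -⟩ := exists_inverter hG M (a := (a : G)) (g := (g : G)) a.2
    ((psi_eq_one hker (x := a * a)).1 (by rw [map_mul, ha]; exact hvV.1)) g.2 (Or.inl hg3) hg1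
    ((psi_eq_one hker (x := g * (a * g * a⁻¹))).1 (by rw [map_mul, map_mul, map_mul, map_inv, ha, hg]; exact hg5.2.2))
  set t := d * (a : G) with ht
  have htN : t ∈ Subgroup.normalizer (D : Set G) := mul_mem (Subgroup.le_normalizer hd) a.2
  have hψt : ψ ⟨t, htN⟩ = aV := by
    have : (⟨t, htN⟩ : Subgroup.normalizer (D : Set G)) = ⟨d, Subgroup.le_normalizer hd⟩ * a := rfl
    rw [this, map_mul, (psi_eq_one hker (x := ⟨d, Subgroup.le_normalizer hd⟩)).2 hd, one_mul, ha]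
  have htT : t ∈ pre ψ := mem_pre.2 ⟨htN, by rw [hψt]; exact hvV⟩
  have hσinv : σ⁻¹ = σ * σ := inv_eq_of_mul_eq_one_right (by rw [← hσ3]; simp [pow_succ, mul_assoc])
  have hconj : ∀ x ∈ pre ψ, σ * x * σ⁻¹ ∈ pre ψ := fun x hx => by
    obtain ⟨h, hV⟩ := mem_pre.1 hx
    refine mem_pre.2 ⟨mul_mem (mul_mem σ'.2 h) (inv_mem σ'.2), ?_⟩
    have : (⟨σ * x * σ⁻¹, mul_mem (mul_mem σ'.2 h) (inv_mem σ'.2)⟩ : Subgroup.normalizer (D : Set G)) = σ' * ⟨x, h⟩ * σ'⁻¹ := rfl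
    rw [this, map_mul, map_mul, map_inv, hσ']
    exact inV_conj _ hV
  have hconj' : ∀ x ∈ pre ψ, σ⁻¹ * x * σ ∈ pre ψ := fun x hx => by
    have e := hconj _ (hconj x hx)
    rwa [show σ * (σ * x * σ⁻¹) * σ⁻¹ = (σ * σ) * x * (σ * σ)⁻¹ by group, ← hσinv, inv_inv] at e
  have hfpf : ∀ x ∈ pre ψ, σ * x = x * σ → x = 1 := fun x hx hc =>
    (hG.not_commute (show Commute x σ from hc.symm) (pow_four_of_two_group hG (isPGroup_pre hG M hψ hker) hx)
      (Or.inl hσ3)).resolve_right hσ1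
  let φ := conjOn (pre ψ) σ hconj hconj'
  have hφ3 : ∀ x, φ (φ (φ x)) = x := fun x => Subtype.ext (by
    show σ * (σ * (σ * x * σ⁻¹) * σ⁻¹) * σ⁻¹ = x
    rw [show σ * (σ * (σ * (x : G) * σ⁻¹) * σ⁻¹) * σ⁻¹ = σ ^ 3 * x * (σ ^ 3)⁻¹ by simp [pow_succ, mul_assoc],
      hσ3, one_mul, inv_one, mul_one])
  have hφf : ∀ x, φ x = x → x = 1 := fun x hx =>
    Subtype.ext (hfpf _ x.2 (mul_inv_eq_iff_eq_mul.1 (congrArg Subtype.val hx)))
  set t' := σ * t * σ⁻¹ with ht'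
  have ht'T : t' ∈ pre ψ := hconj t htT
  have hcm : Commute t t' := congrArg Subtype.val (OneToFour.commute_map φ hφ3 hφf ⟨t, htT⟩).eq
  have hψt' : ψ ⟨t', pre_le ht'T⟩ = aS * aV * aS⁻¹ := by
    have : (⟨t', pre_le ht'T⟩ : Subgroup.normalizer (D : Set G)) = σ' * ⟨t, htN⟩ * σ'⁻¹ := rfl
    rw [this, map_mul, map_mul, map_inv, hσ', hψt]
  have htt'N : t * t' ∈ Subgroup.normalizer (D : Set G) := mul_mem htN (pre_le ht'T)
  have hψtt' : ψ ⟨t * t', htt'N⟩ = aV * (aS * aV * aS⁻¹) := by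
    have : (⟨t * t', htt'N⟩ : Subgroup.normalizer (D : Set G)) = ⟨t, htN⟩ * ⟨t', pre_le ht'T⟩ := rfl
    rw [this, map_mul, hψt, hψt']
  have htD : t ∉ D := fun h => hv1 (hψt ▸ (psi_eq_one hker).2 h)
  have hcover : ∀ x ∈ pre ψ, x ∈ D ∨ x * t ∈ D ∨ x * t' ∈ D ∨ x * (t * t') ∈ D := fun x hx => by
    obtain ⟨h, hV⟩ := mem_pre.1 hx
    rcases inV_elems _ hV with e | e | e | e
    · exact Or.inl ((psi_eq_one hker).1 e)
    · refine Or.inr (Or.inl ((psi_eq_one hker (x := ⟨x, h⟩ * ⟨t, htN⟩)).1 ?_))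
      rw [map_mul, e, hψt]; exact hvV.1
    · refine Or.inr (Or.inr (Or.inl ((psi_eq_one hker (x := ⟨x, h⟩ * ⟨t', pre_le ht'T⟩)).1 ?_)))
      rw [map_mul, e, hψt']; exact (inV_conj _ hvV).1
    · refine Or.inr (Or.inr (Or.inr ((psi_eq_one hker (x := ⟨x, h⟩ * ⟨t * t', htt'N⟩)).1 ?_)))
      rw [map_mul, e, hψtt']; exact (inV_mul _ _ hvV (inV_conj _ hvV)).1
  have hq : ∀ x ∈ pre ψ, x ∉ D →
      Nat.card (D ⊓ Subgroup.centralizer ({x} : Set G) : Subgroup G) ^ 2 = Nat.card D := fun x hx hxD =>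
    half hG M hS (hTS hx) (pre_le hx) hxD (sq_mem hG M hS (hTS hx) (pre_le hx))
  -- commutators with `t`
  let f : D →* D :=
    { toFun := fun d => ⟨(d : G) * (t * d * t⁻¹), mul_mem d.2 ((Subgroup.mem_normalizer_iff.1 htN _).1 d.2)⟩
      map_one' := Subtype.ext (by simp)
      map_mul' := fun d e => Subtype.ext (by
        show (d : G) * e * (t * (d * e) * t⁻¹) = d * (t * d * t⁻¹) * (e * (t * e * t⁻¹))
        rw [show t * ((d : G) * e) * t⁻¹ = (t * d * t⁻¹) * (t * e * t⁻¹) by group, mul_assoc (d : G) (e : G),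
          ← mul_assoc (e : G), hcomm e e.2 _ ((Subgroup.mem_normalizer_iff.1 htN _).1 d.2)]
        group) }
  set Z := D ⊓ Subgroup.centralizer ({t} : Set G) with hZ
  have hker' : f.ker = Z.subgroupOf D := by
    ext x
    rw [MonoidHom.mem_ker, Subgroup.mem_subgroupOf, hZ, Subgroup.mem_inf, Subgroup.mem_centralizer_singleton_iff]
    refine ⟨fun e => ⟨x.2, ?_⟩, fun e => Subtype.ext ?_⟩
    · have e1 := inv_eq_of_mul_eq_one_right (congrArg Subtype.val e : (x : G) * (t * x * t⁻¹) = 1)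
      rw [inv_eq_of_mul_eq_one_right (hsq x x.2)] at e1
      exact (mul_inv_eq_iff_eq_mul.1 e1.symm).symm
    · show (x : G) * (t * x * t⁻¹) = 1
      rw [← e.2, mul_inv_cancel_right, hsq x x.2]
  set I := f.range.map D.subtype with hI
  have hIcard : Nat.card Z * Nat.card I = Nat.card D := by
    rw [hI, ← Nat.card_congr (Subgroup.equivMapOfInjective _ _ (Subgroup.subtype_injective _)).toEquiv,
      Subgroup.card_eq_card_quotient_mul_card_subgroup f.ker,
      Nat.card_congr (QuotientGroup.quotientKerEquivRange f).toEquiv, hker',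
      Nat.card_congr (Subgroup.subgroupOfEquivOfLe (inf_le_left : Z ≤ D)).toEquiv, mul_comm]
  have hqI : Nat.card I = Nat.card Z := by
    rw [← hq t htT htD, pow_two, ← hZ] at hIcard
    exact Nat.eq_of_mul_eq_mul_left Nat.card_pos hIcard
  have hIle : ∀ x ∈ pre ψ, I ≤ D ⊓ Subgroup.centralizer ({x} : Set G) := by
    rintro x hx _ ⟨_, ⟨d, rfl⟩, rfl⟩
    refine ⟨(f d).2, Subgroup.mem_centralizer_singleton_iff.2 ?_⟩
    have h := congrArg Subtype.val (OneToFour.commutator_central (isPGroup_pre hG M hψ hker) φ hφ3 hφf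
      (⟨d, le_pre hker d.2⟩ : pre ψ) ⟨t, htT⟩ ⟨x, hx⟩).eq
    simp only [Subgroup.coe_mul, commutatorElement_def, InvMemClass.coe_inv] at h
    rw [inv_eq_of_mul_eq_one_right (hsq d d.2)] at h
    show (d : G) * (t * d * t⁻¹) * x = x * ((d : G) * (t * d * t⁻¹))
    simpa only [mul_assoc] using h
  have hI_eq : ∀ x ∈ pre ψ, x ∉ D → D ⊓ Subgroup.centralizer ({x} : Set G) = I := fun x hx hxD => by
    refine (Subgroup.eq_of_le_of_card_ge (hIle x hx) (le_of_eq ?_)).symm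
    rw [hqI]
    exact Nat.pow_left_injective two_ne_zero ((hq x hx hxD).trans (hq t htT htD).symm)
  refine ⟨S, σ, t, hS, sylow_inf_eq hG M hψ hker hTS, σ'.2, hσ3, hσ1, fun _ => hσ', hconj, hfpf, htT, ht2,
    ⟨htD, fun h => hv2 (hψt' ▸ (psi_eq_one hker).2 h), fun h => hv3 (hψtt' ▸ (psi_eq_one hker).2 h)⟩, hcm,
    hcover, fun x hx hxD => (hI_eq x hx hxD).trans (hI_eq t htT htD).symm, fun z hz x hx => ?_⟩
  rw [hI_eq t htT htD] at hz
  exact (Subgroup.mem_centralizer_singleton_iff.1 (hIle x hx hz).2).symm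

end CfsgLib.OneToFive
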