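import Cfsg.Agent.Lib.OneToFive.FiveA

/-!
A maximal intersection whose normalizer induces the alternating group of degree five: the Sylow subgroups
over it normalize it, and there is one class of involutions.
-/

set_option autoImplicit false
set_option linter.style.haveILetI false
set_option linter.unusedSectionVars false

namespace CfsgLib.OneToFive

variable {G : Type*} [Group G] [Finite G]

/-- A class of involutions cannot avoid a class with centralizer inside a normalized abelian subgroup. -/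
theorem class_false [IsSimpleGroup G] (hG : Spec G) {E : Subgroup G} (hE : E ≠ ⊤)
    (hEc : ∀ x ∈ E, ∀ y ∈ E, x * y = y * x)
    (hall : ∀ P : Sylow 2 G, E ≤ P → (P : Subgroup G) ≤ Subgroup.normalizer (E : Set G))
    {z d : G} (hz : orderOf z = 2) (hd : orderOf d = 2) (hdE : d ∈ E)
    (hdC : Subgroup.centralizer ({d} : Set G) ≤ E) (hne : ¬ IsConj z d) : False := by
  haveI : Fact (Nat.Prime 2) := ⟨Nat.prime_two⟩
  have key : ∀ g : G, g * z * g⁻¹ ∈ Subgroup.normalizer (E : Set G) := fun g => by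
    set z' := g * z * g⁻¹
    have hz' : orderOf z' = 2 := Invol.conj_orderOf_two hz g
    have hne' : ¬ IsConj z' d := fun h => hne ((isConj_iff.2 ⟨g, rfl⟩).trans h)
    obtain ⟨w, hw, hw1, hw2⟩ := Invol.exists_common_commuting_invol hz' hd (Invol.even_of_not_isConj hz' hd hne')
    have hwE : w ∈ E := hdC (Subgroup.mem_centralizer_singleton_iff.2 hw2.eq)
    obtain ⟨P, hP⟩ := (hG.cent_invol hw).exists_le_sylow
    exact hall P (fun x hx => hP (Subgroup.mem_centralizer_singleton_iff.2 (hEc x hx w hwE)))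
      (hP (Subgroup.mem_centralizer_singleton_iff.2 hw1.eq.symm))
  have htop : Subgroup.normalClosure ({z} : Set G) = ⊤ := by
    rcases Subgroup.Normal.eq_bot_or_eq_top (H := Subgroup.normalClosure ({z} : Set G)) inferInstance with e | e
    · have h := Subgroup.subset_normalClosure (s := ({z} : Set G)) rfl
      rw [e] at h
      exact absurd (Subgroup.mem_bot.1 h) (Invol.ne_one_of_orderOf_two hz)
    · exact e
  have hN : Subgroup.normalizer (E : Set G) = ⊤ := top_le_iff.1 (htop ▸ (Subgroup.closure_le _).2 (by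
    intro x hx
    obtain ⟨a, ha, hax⟩ := Group.mem_conjugatesOfSet_iff.1 hx
    rw [Set.mem_singleton_iff] at ha
    subst ha
    obtain ⟨g, rfl⟩ := isConj_iff.1 hax
    exact key g))
  rcases Subgroup.Normal.eq_bot_or_eq_top (H := E) (Subgroup.normalizer_eq_top_iff.1 hN) with e | e
  · exact Invol.ne_one_of_orderOf_two hd (Subgroup.mem_bot.1 (e ▸ hdE))
  · exact hE e

variable {D : Subgroup G} (hG : Spec G) (M : MaxInt D)
  {ψ : Subgroup.normalizer (D : Set G) →* Alt5} (hψ : Function.Surjective ψ)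
  (hker : ψ.ker = D.subgroupOf (Subgroup.normalizer (D : Set G)))
  {S : Sylow 2 G} {σ t : G} (F : Frame ψ S σ t)
include hG M hψ hker F

omit hG M hψ in
theorem int_ne_top : D ≠ ⊤ := fun e => F.notD.1 (e ▸ Subgroup.mem_top t)

omit hψ hker in
/-- An involution of the preimage outside `D` commutes with the frame. -/
theorem invol_commute {x : G} (hx : x ∈ pre ψ) (hx2 : x * x = 1) (hxD : x ∉ D) :
    Commute x t ∧ Commute x (σ * t * σ⁻¹) := by
  set t' := σ * t * σ⁻¹
  have ht'2 : t' * t' = 1 := by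
    rw [show t' * t' = σ * (t * t) * σ⁻¹ by simp only [t']; group, F.t2]; group
  have htt : (t * t') * (t * t') = 1 := by
    rw [(show Commute t' t from F.comm.symm).mul_mul_mul_comm, F.t2, ht'2, one_mul]
  have key : ∀ v ∈ pre ψ, v ∉ D → v * v = 1 → Commute v t → Commute v t' → x * v ∈ D →
      Commute x t ∧ Commute x t' := by
    intro v hv hvD hv2 c1 c2 hxv
    set d := x * v
    have hxd : x = d * v := by rw [mul_assoc, hv2, mul_one]
    have hdv : d * v = v * d := by
      calc d * v = x⁻¹ := by rw [← hxd, inv_eq_of_mul_eq_one_right hx2]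
        _ = v⁻¹ * d⁻¹ := by rw [hxd, mul_inv_rev]
        _ = _ := by rw [inv_eq_of_mul_eq_one_right hv2, inv_eq_of_mul_eq_one_right ((elementary hG M).2 d hxv)]
    have hdZ : d ∈ D ⊓ Subgroup.centralizer ({t} : Set G) :=
      F.cent v hv hvD ▸ ⟨hxv, Subgroup.mem_centralizer_singleton_iff.2 hdv⟩
    refine ⟨?_, ?_⟩ <;> rw [hxd]
    · exact (show Commute d t from (F.central d hdZ t F.tmem).symm).mul_left c1
    · exact (show Commute d t' from (F.central d hdZ t' (F.conj t F.tmem)).symm).mul_left c2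
  rcases F.cover x hx with h | h | h | h
  · exact absurd h hxD
  · exact key t F.tmem F.notD.1 F.t2 (Commute.refl t) F.comm h
  · exact key t' (F.conj t F.tmem) F.notD.2.1 ht'2 F.comm.symm (Commute.refl t') h
  · exact key (t * t') (mul_mem F.tmem (F.conj t F.tmem)) F.notD.2.2 htt
      ((Commute.refl t).mul_left F.comm.symm) (F.comm.mul_left (Commute.refl t')) h

omit hψ in
theorem card_fix : Nat.card (D ⊓ Subgroup.centralizer ({t} : Set G) : Subgroup G) ^ 2 = Nat.card D := by
  have h := F.tmem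
  rw [← F.eq_pre] at h
  exact half hG M F.le h.1 h.2 F.notD.1 (by rw [F.t2]; exact one_mem D)

/-- A nontrivial element of `D` commuting with more than `D` has a conjugate in the fixed points. -/
theorem bad_mem {r : Fin 5 → G} (hr : ∀ i, ∃ h, (ψ ⟨r i, h⟩ : Equiv.Perm (Fin 5)) 4 = i) {d : G}
    (hd : d ∈ D) (hd1 : d ≠ 1) (hC : ¬ Subgroup.centralizer ({d} : Set G) ≤ D) :
    ∃ i, (r i)⁻¹ * d * r i ∈ D ⊓ Subgroup.centralizer ({t} : Set G) := by
  haveI : Fact (Nat.Prime 2) := ⟨Nat.prime_two⟩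
  obtain ⟨hcomm, hsq⟩ := elementary hG M
  set C := Subgroup.centralizer ({d} : Set G)
  have hC2 : IsPGroup 2 C := hG.cent_invol (orderOf_eq_two_of (hsq d hd) hd1)
  have hlt : D < C := lt_of_le_of_ne (fun x hx => Subgroup.mem_centralizer_singleton_iff.2 (hcomm x hx d hd))
    (fun e => hC e.ge)
  obtain ⟨x, hx, hxD⟩ := SetLike.exists_of_lt (Transfer.lt_inf_normalizer hC2 hlt)
  obtain ⟨Q, hQ, hxQ⟩ := exists_sylow hG M hx.2 (k := 2) (pow_four_of_two_group hG hC2 hx.1)
  have hxx := sq_mem hG M hQ hxQ hx.2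
  obtain ⟨i, hi⟩ := exists_fixed (ψ ⟨x, hx.2⟩) (by rw [← map_mul]; exact (psi_eq_one hker).2 hxx)
  obtain ⟨h, hri⟩ := hr i
  have hmem : (r i)⁻¹ * x * r i ∈ pre ψ := mem_pre.2 ⟨mul_mem (mul_mem (inv_mem h) hx.2) h, by
    have : (⟨(r i)⁻¹ * x * r i, mul_mem (mul_mem (inv_mem h) hx.2) h⟩ : Subgroup.normalizer (D : Set G)) =
        ⟨r i, h⟩⁻¹ * ⟨x, hx.2⟩ * ⟨r i, h⟩ := rfl
    rw [this, map_mul, map_mul, map_inv]
    exact inV_of_fixed (by rw [← map_mul]; exact (psi_eq_one hker).2 hxx) (by rw [hri]; exact hi)⟩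
  have hconjD : ∀ y, y ∈ D → (r i)⁻¹ * y * r i ∈ D := fun y hy => by
    have := (Subgroup.mem_normalizer_iff.1 (inv_mem h) y).1 hy
    rwa [inv_inv] at this
  have hnotD : (r i)⁻¹ * x * r i ∉ D := fun e => hxD (by
    have := (Subgroup.mem_normalizer_iff.1 h _).1 e
    simpa [mul_assoc] using this)
  refine ⟨i, F.cent _ hmem hnotD ▸ ⟨hconjD d hd, Subgroup.mem_centralizer_singleton_iff.2 ?_⟩⟩
  calc (r i)⁻¹ * d * r i * ((r i)⁻¹ * x * r i) = (r i)⁻¹ * (d * x) * r i := by group
    _ = (r i)⁻¹ * (x * d) * r i := by rw [Subgroup.mem_centralizer_singleton_iff.1 hx.1]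
    _ = _ := by group

omit hG M F in
theorem exists_reps : ∃ r : Fin 5 → G, ∀ i, ∃ h, (ψ ⟨r i, h⟩ : Equiv.Perm (Fin 5)) 4 = i := by
  choose g hg using exists_point
  choose x hx using fun i => hψ (g i)
  exact ⟨fun i => x i, fun i => ⟨(x i).2, by
    show (ψ (x i) : Equiv.Perm (Fin 5)) 4 = i
    rw [hx]; exact hg i⟩⟩

/-- The intersection has order sixteen. -/
theorem card_eq_sixteen [IsSimpleGroup G] : Nat.card D ≤ 16 := by
  classical
  by_contra hbig
  push Not at hbig
  obtain ⟨hcomm, hsq⟩ := elementary hG M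
  set Z := D ⊓ Subgroup.centralizer ({t} : Set G) with hZ
  have hq := card_fix hG M hker F
  rw [← hZ] at hq
  have hsmall : 4 ^ 2 < Nat.card D := by norm_num; exact hbig
  have hall : ∀ P : Sylow 2 G, D ≤ P → (P : Subgroup G) ≤ Subgroup.normalizer (D : Set G) := fun P hP =>
    sylow_le_normalizer hG M hP (card_local hG M hψ hker hP) hsmall
  have hSpre : (S : Subgroup G) = pre ψ := by rw [← F.eq_pre, inf_eq_left.2 (hall S F.le)]
  obtain ⟨r, hr⟩ := exists_reps hψ hker
  obtain ⟨d, hd, hd1, hdC⟩ : ∃ d ∈ D, d ≠ 1 ∧ Subgroup.centralizer ({d} : Set G) ≤ D := by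
    by_contra hno
    push Not at hno
    choose i hi using fun d : {d : D // d ≠ 1} => bad_mem hG M hψ hker F hr d.1.2
      (fun e => d.2 (Subtype.ext e)) (hno d.1 d.1.2 fun e => d.2 (Subtype.ext e))
    have hne : ∀ d, (⟨_, hi d⟩ : Z) ≠ 1 := fun d e => d.2 (Subtype.ext (by
      have := congrArg Subtype.val e
      simpa [mul_assoc] using congrArg (fun y => r (i d) * y * (r (i d))⁻¹) this))
    have := Nat.card_le_card_of_injective
      (fun d => ((i d, ⟨⟨_, hi d⟩, hne d⟩) : Fin 5 × {z : Z // z ≠ 1})) (fun a b e => by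
        have e1 : i a = i b := congrArg Prod.fst e
        have e2 : (r (i a))⁻¹ * (a.1 : G) * r (i a) = (r (i b))⁻¹ * (b.1 : G) * r (i b) :=
          congrArg (fun p : Fin 5 × {z : Z // z ≠ 1} => ((p.2.1 : Z) : G)) e
        rw [e1] at e2
        exact Subtype.ext (Subtype.ext (mul_left_cancel (mul_right_cancel e2))))
    haveI instD := Fintype.ofFinite D
    haveI instZ := Fintype.ofFinite Z
    rw [Nat.card_prod, Nat.card_fin, Nat.card_eq_fintype_card, Nat.card_eq_fintype_card,
      Fintype.card_subtype_compl, Fintype.card_subtype_compl, Fintype.card_subtype_eq, Fintype.card_subtype_eq,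
      ← Nat.card_eq_fintype_card, ← Nat.card_eq_fintype_card, ← hq] at this
    rw [← hq] at hsmall
    have h5 : 4 < Nat.card Z := lt_of_pow_lt_pow_left₀ 2 (Nat.zero_le _) hsmall
    have h6 : Nat.card Z * 5 ≤ Nat.card Z * Nat.card Z := Nat.mul_le_mul_left _ h5
    rw [pow_two] at this
    omega
  obtain ⟨⟨z, hzZ⟩, hz1⟩ : ∃ z : Z, z ≠ 1 := by
    haveI : Nontrivial Z := Finite.one_lt_card_iff_nontrivial.1 (by
      rcases Nat.lt_or_ge 1 (Nat.card Z) with h | h
      · exact h
      · rw [← hq] at hsmall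
        have := Nat.pow_le_pow_left h 2
        omega)
    exact exists_ne 1
  refine class_false hG (int_ne_top hker F) hcomm hall
    (orderOf_eq_two_of (hsq z hzZ.1) fun e => hz1 (Subtype.ext e)) (orderOf_eq_two_of (hsq d hd) hd1) hd hdC ?_
  intro hzd
  obtain ⟨g, hg⟩ := isConj_iff.1 hzd
  have hle : (pre ψ).map (MulAut.conj g).toMonoidHom ≤ D := by
    rintro _ ⟨x, hx, rfl⟩
    refine hdC (Subgroup.mem_centralizer_singleton_iff.2 ?_)
    show g * x * g⁻¹ * d = d * (g * x * g⁻¹)
    rw [← hg, show g * x * g⁻¹ * (g * z * g⁻¹) = g * (x * z) * g⁻¹ by group, F.central z hzZ x hx]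
    group
  have h1 := Subgroup.card_le_of_le hle
  rw [← Nat.card_congr (Subgroup.equivMapOfInjective _ _ (MulEquiv.injective (MulAut.conj g))).toEquiv,
    card_pre hψ hker] at h1
  have := Nat.card_pos (α := D)
  omega

end CfsgLib.OneToFive
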