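import Cfsg.Agent.Lib.OneToFive.FiveB

/-!
An intersection of order sixteen whose normalizer induces the alternating group of degree five: its Sylow
overgroups normalize it and are special of order sixty-four.
-/

set_option autoImplicit false
set_option linter.style.haveILetI false
set_option linter.unusedSectionVars false

namespace CfsgLib.OneToFive

variable {G : Type*} [Group G] [Finite G]

/-- The second elementary abelian subgroup. -/
def aPart {D : Subgroup G} (ψ : Subgroup.normalizer (D : Set G) →* Alt5) (σ t : G) : Subgroup G :=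
  pre ψ ⊓ (Subgroup.centralizer ({t} : Set G) ⊓ Subgroup.centralizer ({σ * t * σ⁻¹} : Set G))

/-- The four lifts of the four-group. -/
def lifts (σ t : G) : Fin 4 → G := ![1, t, σ * t * σ⁻¹, t * (σ * t * σ⁻¹)]

variable {D : Subgroup G} (hG : Spec G) (M : MaxInt D)
  {ψ : Subgroup.normalizer (D : Set G) →* Alt5} (hψ : Function.Surjective ψ)
  (hker : ψ.ker = D.subgroupOf (Subgroup.normalizer (D : Set G)))
  {S : Sylow 2 G} {σ t : G} (F : Frame ψ S σ t)
include hG M hψ hker F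

omit hG M hψ hker in
theorem mem_aPart {x : G} :
    x ∈ aPart ψ σ t ↔ x ∈ pre ψ ∧ Commute x t ∧ Commute x (σ * t * σ⁻¹) := by
  rw [aPart, Subgroup.mem_inf, Subgroup.mem_inf, Subgroup.mem_centralizer_singleton_iff,
    Subgroup.mem_centralizer_singleton_iff]
  rfl

omit hG M hψ hker in
theorem conj_sq : (σ * t * σ⁻¹) * (σ * t * σ⁻¹) = 1 := by
  rw [show σ * t * σ⁻¹ * (σ * t * σ⁻¹) = σ * (t * t) * σ⁻¹ by group, F.t2]; group

omit hG M hψ hker in
theorem prod_sq : t * (σ * t * σ⁻¹) * (t * (σ * t * σ⁻¹)) = 1 := by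
  rw [(show Commute (σ * t * σ⁻¹) t from F.comm.symm).mul_mul_mul_comm, F.t2, conj_sq F, one_mul]

omit hG M hψ hker in
theorem lifts_spec : ∀ i, lifts σ t i ∈ aPart ψ σ t ∧ lifts σ t i * lifts σ t i = 1 := by
  have ht : t ∈ aPart ψ σ t := (mem_aPart F).2 ⟨F.tmem, Commute.refl t, F.comm⟩
  have ht' : σ * t * σ⁻¹ ∈ aPart ψ σ t := (mem_aPart F).2 ⟨F.conj t F.tmem, F.comm.symm, Commute.refl _⟩
  intro i
  fin_cases i
  · exact ⟨one_mem _, one_mul 1⟩
  · exact ⟨ht, F.t2⟩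
  · exact ⟨ht', conj_sq F⟩
  · exact ⟨mul_mem ht ht', prod_sq F⟩

omit hG M hψ hker in
theorem lifts_notD : ∀ i j, lifts σ t i * lifts σ t j ∈ D → i = j := by
  set t' := σ * t * σ⁻¹ with ht'
  have h1 : t * (t * t') = t' := by rw [← mul_assoc, F.t2, one_mul]
  have h2 : t * t' * t' = t := by rw [mul_assoc, conj_sq F, mul_one]
  have h3 : t' * t = t * t' := F.comm.eq.symm
  have h4 : t * t' * t = t' := by rw [mul_assoc, h3, h1]
  have h5 : t' * (t * t') = t := by rw [← mul_assoc, h3, h2]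
  intro i j h
  have n1 := F.notD.1
  have n2 : t' ∉ D := F.notD.2.1
  have n3 : t * t' ∉ D := F.notD.2.2
  fin_cases i <;> fin_cases j <;> first
    | rfl
    | (simp [lifts, ← ht', h1, h2, h3, h4, h5, n1, n2, n3] at h)

omit hG M hψ hker in
theorem exists_lift_decomp {x : G} (hx : x ∈ pre ψ) : ∃ i, x * lifts σ t i ∈ D := by
  rcases F.cover x hx with h | h | h | h
  · exact ⟨0, by simpa [lifts] using h⟩
  · exact ⟨1, h⟩
  · exact ⟨2, h⟩
  · exact ⟨3, h⟩

omit hψ in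
theorem aPart_inf {x : G} (hx : x ∈ aPart ψ σ t) (hxD : x ∈ D) :
    x ∈ D ⊓ Subgroup.centralizer ({t} : Set G) :=
  ⟨hxD, Subgroup.mem_centralizer_singleton_iff.2 ((mem_aPart F).1 hx).2.1.eq⟩

omit hψ in
theorem aPart_shape {x : G} (hx : x ∈ aPart ψ σ t) :
    ∃ i, ∃ z ∈ D ⊓ Subgroup.centralizer ({t} : Set G), x = z * lifts σ t i := by
  obtain ⟨hl, hl2⟩ := And.intro (fun i => ((lifts_spec F) i).1) (fun i => ((lifts_spec F) i).2)
  obtain ⟨i, hi⟩ := exists_lift_decomp F ((mem_aPart F).1 hx).1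
  refine ⟨i, _, aPart_inf hG M hker F (mul_mem hx (hl i)) hi, ?_⟩
  rw [mul_assoc, hl2, mul_one]

omit hψ in
theorem aPart_comm : ∀ x ∈ aPart ψ σ t, ∀ y ∈ aPart ψ σ t, x * y = y * x := by
  intro x hx y hy
  obtain ⟨hyT, c1, c2⟩ := (mem_aPart F).1 hy
  obtain ⟨i, z, hz, rfl⟩ := aPart_shape hG M hker F hx
  have hzy : Commute z y := (F.central z hz y hyT).symm
  have hly : Commute (lifts σ t i) y := by
    fin_cases i
    · exact Commute.one_left y
    · exact c1.symm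
    · exact c2.symm
    · exact c1.symm.mul_left c2.symm
  exact (hzy.mul_left hly).eq

omit hψ in
theorem aPart_sq {x : G} (hx : x ∈ aPart ψ σ t) : x * x = 1 := by
  obtain ⟨i, z, hz, rfl⟩ := aPart_shape hG M hker F hx
  obtain ⟨hl, hl2⟩ := lifts_spec F i
  have hc : lifts σ t i * z = z * lifts σ t i := F.central z hz _ ((mem_aPart F).1 hl).1
  rw [(show Commute (lifts σ t i) z from hc).mul_mul_mul_comm, hl2, mul_one, (elementary hG M).2 z hz.1]

omit hψ in
theorem card_aPart :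
    Nat.card (aPart ψ σ t) = 4 * Nat.card (D ⊓ Subgroup.centralizer ({t} : Set G) : Subgroup G) := by
  rw [show 4 = Nat.card (Fin 4) from (Nat.card_fin 4).symm, ← Nat.card_prod]
  refine (Nat.card_eq_of_bijective (fun p : Fin 4 × (D ⊓ Subgroup.centralizer ({t} : Set G) : Subgroup G) =>
    (⟨(p.2 : G) * lifts σ t p.1, mul_mem ((mem_aPart F).2 ⟨le_pre hker p.2.2.1,
      (F.central _ p.2.2 t F.tmem).symm, (F.central _ p.2.2 _ (F.conj t F.tmem)).symm⟩)
      (lifts_spec F p.1).1⟩ : aPart ψ σ t)) ⟨?_, ?_⟩).symm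
  · rintro ⟨i, z⟩ ⟨j, w⟩ e
    have e' : (z : G) * lifts σ t i = w * lifts σ t j := congrArg Subtype.val e
    have hij : i = j := lifts_notD F i j (by
      have : lifts σ t i * lifts σ t j = (z : G)⁻¹ * w := by
        calc lifts σ t i * lifts σ t j = (z : G)⁻¹ * ((z : G) * lifts σ t i) * lifts σ t j := by group
          _ = (z : G)⁻¹ * w * (lifts σ t j * lifts σ t j) := by rw [e']; group
          _ = _ := by rw [(lifts_spec F j).2, mul_one]
      rw [this]; exact mul_mem (inv_mem z.2.1) w.2.1)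
    subst hij
    exact Prod.ext rfl (Subtype.ext (mul_right_cancel e'))
  · intro x
    obtain ⟨i, z, hz, e⟩ := aPart_shape hG M hker F x.2
    exact ⟨(i, ⟨z, hz⟩), Subtype.ext e.symm⟩

omit hψ in
/-- An elementary abelian subgroup of the same order as `D` is one of two. -/
theorem elem_cases (h4 : Nat.card (D ⊓ Subgroup.centralizer ({t} : Set G) : Subgroup G) = 4)
    {E : Subgroup G} (hE : E ≤ pre ψ) (hc : ∀ x ∈ E, ∀ y ∈ E, x * y = y * x) (h2 : ∀ x ∈ E, x * x = 1)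
    (hcard : Nat.card E = Nat.card D) (hne : E ≠ D) : E = aPart ψ σ t := by
  obtain ⟨x, hxE, hxD⟩ : ∃ x ∈ E, x ∉ D := by
    by_contra h
    push Not at h
    exact hne (Subgroup.eq_of_le_of_card_ge h hcard.ge)
  refine Subgroup.eq_of_le_of_card_ge (fun y hy => (mem_aPart F).2 ⟨hE hy, ?_⟩) ?_
  · by_cases hyD : y ∈ D
    · have hz : y ∈ D ⊓ Subgroup.centralizer ({t} : Set G) := F.cent x (hE hxE) hxD ▸
        ⟨hyD, Subgroup.mem_centralizer_singleton_iff.2 (hc y hy x hxE)⟩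
      exact ⟨(F.central y hz t F.tmem).symm, (F.central y hz _ (F.conj t F.tmem)).symm⟩
    · exact invol_commute hG M F (hE hy) (h2 y hy) hyD
  · rw [card_aPart hG M hker F, h4, hcard, ← card_fix hG M hker F, h4]; norm_num

omit hψ in
theorem fix_stable {z : G} (hz : z ∈ D ⊓ Subgroup.centralizer ({t} : Set G)) :
    σ * z * σ⁻¹ ∈ D ⊓ Subgroup.centralizer ({t} : Set G) := by
  have hzD : σ * z * σ⁻¹ ∈ D := (Subgroup.mem_normalizer_iff.1 F.sigN z).1 hz.1
  rw [← F.cent _ (F.conj t F.tmem) F.notD.2.1]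
  refine ⟨hzD, Subgroup.mem_centralizer_singleton_iff.2 ?_⟩
  rw [show σ * z * σ⁻¹ * (σ * t * σ⁻¹) = σ * (z * t) * σ⁻¹ by group,
    Subgroup.mem_centralizer_singleton_iff.1 hz.2]
  group

theorem card_fix_four [IsSimpleGroup G] :
    Nat.card (D ⊓ Subgroup.centralizer ({t} : Set G) : Subgroup G) = 4 := by
  classical
  haveI : Fact (Nat.Prime 2) := ⟨Nat.prime_two⟩
  set Z := D ⊓ Subgroup.centralizer ({t} : Set G) with hZ
  have hq := card_fix hG M hker F
  rw [← hZ] at hq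
  have h16 := card_eq_sixteen hG M hψ hker F
  rw [← hq, show (16 : ℕ) = 4 ^ 2 by norm_num] at h16
  have h4 : Nat.card Z ≤ 4 := (Nat.pow_le_pow_iff_left two_ne_zero).1 h16
  have h1 : 1 < Nat.card Z := by
    by_contra h
    refine M.ne_bot (Subgroup.eq_bot_of_card_eq _ ?_)
    rw [← hq, le_antisymm (Nat.le_of_not_lt h) Nat.card_pos, one_pow]
  obtain ⟨k, hk⟩ := ((isPGroup_int hG M).to_le (inf_le_left : Z ≤ D)).exists_card_eq
  rcases Nat.lt_or_ge k 2 with hk2 | hk2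
  · exfalso
    have hc2 : Nat.card Z = 2 := by
      rcases Nat.eq_zero_or_pos k with rfl | hk0
      · rw [hk, pow_zero] at h1; omega
      · rw [hk, show k = 1 by omega, pow_one]
    obtain ⟨a, b, hab, huniv⟩ := Nat.card_eq_two_iff.1 hc2
    have hmem : ∀ x : Z, x = a ∨ x = b := fun x => by
      have := (Set.eq_univ_iff_forall.1 huniv) x
      simpa using this
    obtain ⟨z, hz1⟩ : ∃ z : Z, z ≠ 1 := by
      haveI : Nontrivial Z := Finite.one_lt_card_iff_nontrivial.1 h1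
      exact exists_ne 1
    set w : Z := ⟨_, fix_stable hG M hker F z.2⟩
    have hw1 : w ≠ 1 := fun e => hz1 (Subtype.ext (by
      have := congrArg Subtype.val e
      exact conj_eq_one_iff.1 this))
    have hwz : w = z := by
      rcases hmem w with e | e <;> rcases hmem z with e' | e' <;> rcases hmem 1 with e'' | e'' <;>
        first
          | exact e.trans e'.symm
          | exact absurd (e.trans e''.symm) hw1
          | exact absurd (e'.trans e''.symm) hz1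
    exact hz1 (Subtype.ext (F.fpf _ (le_pre hker z.2.1) (mul_inv_eq_iff_eq_mul.1 (congrArg Subtype.val hwz))))
  · refine le_antisymm h4 ?_
    rw [hk]
    exact (pow_le_pow_right₀ (by norm_num) hk2 : (2 : ℕ) ^ 2 ≤ 2 ^ k)

omit hG M hψ hker in
theorem inv_sigma : σ⁻¹ = σ * σ :=
  inv_eq_of_mul_eq_one_right (by rw [← F.sig3]; simp [pow_succ, mul_assoc])

omit hG M hψ hker in
theorem conj_inv_mem {x : G} (hx : x ∈ pre ψ) : σ⁻¹ * x * σ ∈ pre ψ := by
  have e := F.conj _ (F.conj x hx)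
  rwa [show σ * (σ * x * σ⁻¹) * σ⁻¹ = (σ * σ) * x * (σ * σ)⁻¹ by group, ← inv_sigma F, inv_inv] at e

/-- The Sylow subgroup normalizes `D`. -/
theorem sylow_eq_pre [IsSimpleGroup G] : (S : Subgroup G) = pre ψ := by
  haveI : Fact (Nat.Prime 2) := ⟨Nat.prime_two⟩
  obtain ⟨hcomm, hsq⟩ := elementary hG M
  have h4 := card_fix_four hG M hψ hker F
  set A := aPart ψ σ t with hAdef
  set T := pre ψ with hTdef
  have hTS : T ≤ (S : Subgroup G) := le_of_eq_of_le F.eq_pre.symm inf_le_left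
  by_contra hne
  obtain ⟨g, hg, hgT⟩ :=
    SetLike.exists_of_lt (Transfer.lt_inf_normalizer S.2 (lt_of_le_of_ne hTS (Ne.symm hne)))
  have hgN : g ∉ Subgroup.normalizer (D : Set G) := fun h => hgT (F.eq_pre.le ⟨hg.1, h⟩)
  have hgmem : ∀ x ∈ T, g * x * g⁻¹ ∈ T := fun x hx => (Subgroup.mem_normalizer_iff.1 hg.2 x).1 hx
  have himg : ∀ (h : G) (H : Subgroup G), Nat.card (H.map (MulAut.conj h).toMonoidHom) = Nat.card H :=
    fun h H => (Nat.card_congr (Subgroup.equivMapOfInjective H _ (MulEquiv.injective _)).toEquiv).symm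
  have hcardA : Nat.card A = Nat.card D := by
    rw [hAdef, card_aPart hG M hker F, h4, ← card_fix hG M hker F, h4]; norm_num
  have hAT : A ≤ T := inf_le_left
  have mapcases : ∀ (h : G), (∀ x ∈ T, h * x * h⁻¹ ∈ T) → ∀ H : Subgroup G, H ≤ T →
      (∀ x ∈ H, ∀ y ∈ H, x * y = y * x) → (∀ x ∈ H, x * x = 1) → Nat.card H = Nat.card D →
      H.map (MulAut.conj h).toMonoidHom = D ∨ H.map (MulAut.conj h).toMonoidHom = A := by
    intro h hh H hHT hHc hH2 hHcard
    rcases eq_or_ne (H.map (MulAut.conj h).toMonoidHom) D with e | e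
    · exact Or.inl e
    refine Or.inr (elem_cases hG M hker F h4 ?_ ?_ ?_ ((himg h H).trans hHcard) e)
    · rintro _ ⟨x, hx, rfl⟩; exact hh x (hHT hx)
    · rintro _ ⟨x, hx, rfl⟩ _ ⟨y, hy, rfl⟩; rw [← map_mul, ← map_mul, hHc x hx y hy]
    · rintro _ ⟨x, hx, rfl⟩; rw [← map_mul, hH2 x hx, map_one]
  have hgD : D.map (MulAut.conj g).toMonoidHom = A :=
    (mapcases g hgmem D (le_pre hker) hcomm hsq rfl).resolve_left fun e =>
      hgN (Transfer.map_conj_eq_self_iff.1 e)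
  have htA : t ∈ A := (mem_aPart F).2 ⟨F.tmem, Commute.refl t, F.comm⟩
  have hgA : A.map (MulAut.conj g).toMonoidHom = D := by
    refine (mapcases g hgmem A hAT (aPart_comm hG M hker F) (fun x hx => aPart_sq hG M hker F hx) hcardA).resolve_right
      fun e => F.notD.1 ?_
    have hDA : A = D := Subgroup.map_injective (MulEquiv.injective (MulAut.conj g)) (e.trans hgD.symm)
    exact hDA ▸ htA
  have hσA : A.map (MulAut.conj σ).toMonoidHom = A := by
    refine (mapcases σ F.conj A hAT (aPart_comm hG M hker F) (fun x hx => aPart_sq hG M hker F hx) hcardA).resolve_left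
      fun e => F.notD.2.1 ?_
    exact e ▸ Subgroup.mem_map_of_mem _ htA
  set y := g * σ * g⁻¹ with hy
  have hyN : y ∈ Subgroup.normalizer (D : Set G) := by
    refine Transfer.map_conj_eq_self_iff.1 ?_
    calc D.map (MulAut.conj y).toMonoidHom
        = (D.map (MulAut.conj g⁻¹).toMonoidHom).map (MulAut.conj (g * σ)).toMonoidHom := by
          rw [Transfer.map_conj_mul, hy]
      _ = A.map (MulAut.conj (g * σ)).toMonoidHom := by
          congr 1
          rw [← hgA, Transfer.map_conj_mul, inv_mul_cancel, Transfer.map_conj_one]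
      _ = (A.map (MulAut.conj σ).toMonoidHom).map (MulAut.conj g).toMonoidHom := by rw [Transfer.map_conj_mul]
      _ = D := by rw [hσA, hgA]
  have hyT : ∀ x ∈ T, y * x * y⁻¹ ∈ T := fun x hx => by
    rw [show y * x * y⁻¹ = g * (σ * (g⁻¹ * x * g) * σ⁻¹) * g⁻¹ by rw [hy]; group]
    have := (Subgroup.mem_normalizer_iff.1 (inv_mem hg.2) x).1 hx
    rw [inv_inv] at this
    exact hgmem _ (F.conj _ this)
  have hy3 : y ^ 3 = 1 := by rw [hy, conj_pow, F.sig3, mul_one, mul_inv_cancel]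
  have hy1 : y ≠ 1 := fun e => F.sig1 (conj_eq_one_iff.1 e)
  set p : Alt5 := ψ ⟨y, hyN⟩ with hp
  have hp3 : p ^ 3 = 1 := by
    rw [hp, ← map_pow, show (⟨y, hyN⟩ : Subgroup.normalizer (D : Set G)) ^ 3 = 1 from Subtype.ext hy3, map_one]
  have hp1 : p ≠ 1 := fun e => hy1 ((hG.not_commute (Commute.refl y)
    (pow_four_of_two_group hG (isPGroup_int hG M) ((psi_eq_one hker).1 e)) (Or.inl hy3)).elim id id)
  have hpV : ∀ v : Alt5, InV v → InV (p * v * p⁻¹) := fun v hv => by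
    obtain ⟨x, rfl⟩ := hψ v
    obtain ⟨h, hV⟩ := mem_pre.1 (hyT x (mem_pre.2 ⟨x.2, hv⟩))
    have : (⟨y * x * y⁻¹, h⟩ : Subgroup.normalizer (D : Set G)) = ⟨y, hyN⟩ * x * ⟨y, hyN⟩⁻¹ := rfl
    rw [this, map_mul, map_mul, map_inv] at hV
    exact hV
  obtain ⟨v, hv, hpv⟩ := vNormalizer p hpV hp3 hp1
  -- the element is conjugate to `σ` or its inverse under `T`
  obtain ⟨τ, hτ, hτN, hτc, hψτ⟩ : ∃ τ, (τ = σ ∨ τ = σ⁻¹) ∧ τ ∈ Subgroup.normalizer (D : Set G) ∧
      (∀ x ∈ T, τ * x * τ⁻¹ ∈ T) ∧ ∀ h, p = v * ψ ⟨τ, h⟩ := by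
    rcases hpv with e | e
    · exact ⟨σ, Or.inl rfl, F.sigN, F.conj, fun h => by rw [F.sigPsi h]; exact e⟩
    · refine ⟨σ⁻¹, Or.inr rfl, inv_mem F.sigN, fun x hx => by rw [inv_inv]; exact conj_inv_mem F hx, fun h => ?_⟩
      have : (⟨σ⁻¹, h⟩ : Subgroup.normalizer (D : Set G)) = (⟨σ, F.sigN⟩)⁻¹ := rfl
      rw [this, map_inv, F.sigPsi]
      exact e
  have hτfpf : ∀ x ∈ T, τ * x = x * τ → x = 1 := fun x hx hc => by
    rcases hτ with rfl | rfl
    · exact F.fpf x hx hc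
    · exact F.fpf x hx (by
        calc σ * x = σ * (x * σ⁻¹) * σ := by group
          _ = σ * (σ⁻¹ * x) * σ := by rw [hc]
          _ = _ := by group)
  have hinj : Function.Injective (fun u : T => (⟨(u : G) * (τ * (u : G)⁻¹ * τ⁻¹),
      mul_mem u.2 (hτc _ (inv_mem u.2))⟩ : T)) := fun a b e => by
    have e' : (a : G) * (τ * (a : G)⁻¹ * τ⁻¹) = b * (τ * (b : G)⁻¹ * τ⁻¹) := congrArg Subtype.val e
    refine Subtype.ext (inv_mul_eq_one.1 (hτfpf _ (mul_mem (inv_mem b.2) a.2) ?_)).symm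
    calc τ * ((b : G)⁻¹ * a) = (b : G)⁻¹ * ((b : G) * (τ * (b : G)⁻¹ * τ⁻¹)) * τ * a := by group
      _ = _ := by rw [← e']; group
  have hxT : y * τ⁻¹ ∈ T := mem_pre.2 ⟨mul_mem hyN (inv_mem hτN), by
    have : (⟨y * τ⁻¹, mul_mem hyN (inv_mem hτN)⟩ : Subgroup.normalizer (D : Set G)) = ⟨y, hyN⟩ * ⟨τ, hτN⟩⁻¹ := rfl
    rw [this, map_mul, map_inv, ← hp, hψτ hτN, mul_inv_cancel_right]
    exact hv⟩
  obtain ⟨u, hu⟩ := (Finite.injective_iff_surjective.1 hinj) ⟨_, hxT⟩
  have hu' : (u : G) * τ * (u : G)⁻¹ = y := by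
    have := congrArg (fun z : T => (z : G) * τ) hu
    simpa [mul_assoc] using this
  set g' := (u : G)⁻¹ * g with hg'
  have hg'S : g' ∈ (S : Subgroup G) := mul_mem (inv_mem (hTS u.2)) hg.1
  have hg'T : g' ∈ Subgroup.normalizer (T : Set G) := mul_mem (inv_mem (Subgroup.le_normalizer u.2)) hg.2
  have hg'σ : g' * σ * g'⁻¹ = τ := by
    rw [hg', show (u : G)⁻¹ * g * σ * ((u : G)⁻¹ * g)⁻¹ = (u : G)⁻¹ * y * u by rw [hy]; group, ← hu']
    group
  have hg'1 : g' ≠ 1 := fun e => hgT (by rw [← inv_mul_eq_one.1 e]; exact u.2)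
  have hcom1 : ∀ a ∈ (S : Subgroup G), a * σ * a⁻¹ = σ → a = 1 := fun a ha e =>
    (hG.not_commute (show Commute a σ from mul_inv_eq_iff_eq_mul.1 e) (pow_four_of_two_group hG S.2 ha)
      (Or.inl F.sig3)).resolve_right F.sig1
  rcases hτ with rfl | rfl
  · exact hg'1 (hcom1 g' hg'S hg'σ)
  have hg2 : g' * g' = 1 := hcom1 _ (mul_mem hg'S hg'S) (by
    rw [show g' * g' * σ * (g' * g')⁻¹ = g' * (g' * σ * g'⁻¹) * g'⁻¹ by group, hg'σ, ← conj_inv, hg'σ, inv_inv])
  obtain ⟨hab, -⟩ := elementary_of_inverted (isPGroup_pre hG M hψ hker) (y := σ) (t := g')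
    (Subgroup.mem_normalizer_iff.2 fun x => ⟨F.conj x, fun h => by
      have := conj_inv_mem F h
      simpa [mul_assoc] using this⟩) hg'T
    (fun x hx hc => F.fpf x hx hc) (fun x hx hc => F.fpf x hx (by
      rw [← inv_sigma F] at hc
      calc σ * x = σ * (x * σ⁻¹) * σ := by group
        _ = σ * (σ⁻¹ * x) * σ := by rw [hc]
        _ = _ := by group)) hg2
    (by rw [← hg'σ, inv_eq_of_mul_eq_one_right hg2])
    (fun x hx => pow_four_of_two_group hG S.2 (mul_mem (hTS hx) hg'S))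
  have hDZ : D ≤ D ⊓ Subgroup.centralizer ({t} : Set G) := fun d hd =>
    ⟨hd, Subgroup.mem_centralizer_singleton_iff.2 (hab d (le_pre hker hd) t F.tmem)⟩
  have hh := Subgroup.card_le_of_le hDZ
  rw [← card_fix hG M hker F, h4] at hh
  norm_num at hh

end CfsgLib.OneToFive
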