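import Cfsg.Agent.Lib.OneToFive.FiveC

/-!
An intersection of order sixteen whose normalizer induces the alternating group of degree five: one class of
involutions, each with twelve square roots.
-/

set_option autoImplicit false
set_option linter.style.haveILetI false
set_option linter.unusedSectionVars false

namespace CfsgLib.OneToFive

variable {G : Type*} [Group G] [Finite G] [IsSimpleGroup G] {D : Subgroup G} (hG : Spec G) (M : MaxInt D)
  {ψ : Subgroup.normalizer (D : Set G) →* Alt5} (hψ : Function.Surjective ψ)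
  (hker : ψ.ker = D.subgroupOf (Subgroup.normalizer (D : Set G)))
  {S : Sylow 2 G} {σ t : G} (F : Frame ψ S σ t)
include hG M hψ hker F

theorem card_int : Nat.card D = 16 := by
  rw [← card_fix hG M hker F, card_fix_four hG M hψ hker F]; norm_num

theorem card_sylow : Nat.card (S : Subgroup G) = 64 := by
  rw [sylow_eq_pre hG M hψ hker F, card_pre hψ hker, card_int hG M hψ hker F]

theorem over_normalizes {P : Sylow 2 G} (hP : D ≤ P) : (P : Subgroup G) ≤ Subgroup.normalizer (D : Set G) := by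
  haveI : Fact (Nat.Prime 2) := ⟨Nat.prime_two⟩
  have h : (P : Subgroup G) ⊓ Subgroup.normalizer (D : Set G) = P := by
    refine Subgroup.eq_of_le_of_card_ge inf_le_left (le_of_eq ?_)
    rw [card_local hG M hψ hker hP, card_int hG M hψ hker F, Sylow.card_eq_multiplicity P,
      ← Sylow.card_eq_multiplicity S, card_sylow hG M hψ hker F]
  exact inf_eq_left.1 h

omit hψ in
/-- Fixed points of distinct four-groups meet trivially. -/
theorem fix_disjoint {g : G} (hg : g ∈ Subgroup.normalizer (D : Set G))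
    (hg4 : (ψ ⟨g, hg⟩ : Equiv.Perm (Fin 5)) 4 ≠ 4) (hψt : ∀ v : Alt5, InV v → ∃ x ∈ pre ψ, ∃ h, ψ ⟨x, h⟩ = v)
    {d : G} (hd : d ∈ D ⊓ Subgroup.centralizer ({t} : Set G))
    (hd' : g⁻¹ * d * g ∈ D ⊓ Subgroup.centralizer ({t} : Set G)) : d = 1 := by
  by_contra hd1
  obtain ⟨-, hsq⟩ := elementary hG M
  obtain ⟨-, -, hV, -, -, -⟩ := aS_basic
  have hC2 : IsPGroup 2 (Subgroup.centralizer ({d} : Set G)) :=
    hG.cent_invol (orderOf_eq_two_of (hsq d hd.1) hd1)
  obtain ⟨v, hv, w, hw, hvw⟩ := pair_exponent _ hg4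
  have hmem : ∀ u ∈ [aV, aS * aV * aS⁻¹, aV * (aS * aV * aS⁻¹)], InV u := by
    intro u hu
    simp only [List.mem_cons, List.not_mem_nil, or_false] at hu
    rcases hu with rfl | rfl | rfl
    · exact hV
    · exact inV_conj _ hV
    · exact inV_mul _ _ hV (inV_conj _ hV)
  obtain ⟨x, hx, hxN, hψx⟩ := hψt v (hmem v hv)
  obtain ⟨y, hy, hyN, hψy⟩ := hψt w (hmem w hw)
  have hxC : x ∈ Subgroup.centralizer ({d} : Set G) :=
    Subgroup.mem_centralizer_singleton_iff.2 (F.central d hd x hx)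
  have hyC : g * y * g⁻¹ ∈ Subgroup.centralizer ({d} : Set G) := Subgroup.mem_centralizer_singleton_iff.2 (by
    calc g * y * g⁻¹ * d = g * (y * (g⁻¹ * d * g)) * g⁻¹ := by group
      _ = g * (g⁻¹ * d * g * y) * g⁻¹ := by rw [F.central _ hd' y hy]
      _ = _ := by group)
  have h4 := pow_four_of_two_group hG hC2 (mul_mem hxC hyC)
  refine hvw ?_
  have e : (⟨x, hxN⟩ * (⟨g, hg⟩ * ⟨y, hyN⟩ * ⟨g, hg⟩⁻¹) : Subgroup.normalizer (D : Set G)) ^ 4 = 1 :=
    Subtype.ext h4
  have := congrArg ψ e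
  rw [map_pow, map_mul, map_mul, map_mul, map_inv, hψx, hψy, map_one] at this
  exact this

theorem lift_inV (v : Alt5) (hv : InV v) : ∃ x ∈ pre ψ, ∃ h, ψ ⟨x, h⟩ = v := by
  obtain ⟨x, rfl⟩ := hψ v
  exact ⟨x, mem_pre.2 ⟨x.2, hv⟩, x.2, rfl⟩

theorem fix_conj {z d : G} (hz : z ∈ D ⊓ Subgroup.centralizer ({t} : Set G)) (hz1 : z ≠ 1)
    (hd : d ∈ D ⊓ Subgroup.centralizer ({t} : Set G)) (hd1 : d ≠ 1) : IsConj z d := by
  classical
  set Z := D ⊓ Subgroup.centralizer ({t} : Set G) with hZ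
  have hne : ∀ w ∈ Z, w ≠ 1 → σ * w * σ⁻¹ ≠ w := fun w hw hw1 e =>
    hw1 (F.fpf w (le_pre hker hw.1) (mul_inv_eq_iff_eq_mul.1 e))
  have h2 : σ * (σ * z * σ⁻¹) * σ⁻¹ ∈ Z := fix_stable hG M hker F (fix_stable hG M hker F hz)
  let f : Fin 3 → {w : Z // w ≠ 1} :=
    ![⟨⟨z, hz⟩, fun e => hz1 (congrArg Subtype.val e)⟩,
      ⟨⟨_, fix_stable hG M hker F hz⟩, fun e => hz1 (conj_eq_one_iff.1 (congrArg Subtype.val e))⟩,
      ⟨⟨_, h2⟩, fun e => hz1 (conj_eq_one_iff.1 (conj_eq_one_iff.1 (congrArg Subtype.val e)))⟩]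
  have h02 : σ * (σ * z * σ⁻¹) * σ⁻¹ ≠ z := fun e => by
    refine hne z hz hz1 ?_
    have h3 := F.sig3
    calc σ * z * σ⁻¹ = σ * (σ * (σ * z * σ⁻¹) * σ⁻¹) * σ⁻¹ := by rw [e]
      _ = σ ^ 3 * z * (σ ^ 3)⁻¹ := by simp [pow_succ, mul_assoc]
      _ = z := by rw [h3, one_mul, inv_one, mul_one]
  have hinj : Function.Injective f := by
    intro i j e
    have e' := congrArg (fun w : {w : Z // w ≠ 1} => ((w.1 : Z) : G)) e
    have h01 := hne z hz hz1
    have h12 := hne _ (fix_stable hG M hker F hz) (fun e => hz1 (conj_eq_one_iff.1 e))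
    fin_cases i <;> fin_cases j <;> first
      | rfl
      | exact absurd e' h01
      | exact absurd e'.symm h01
      | exact absurd e' h02
      | exact absurd e'.symm h02
      | exact absurd e' h12
      | exact absurd e'.symm h12
  haveI := Fintype.ofFinite Z
  have hbij : Function.Bijective f := (Fintype.bijective_iff_injective_and_card f).2 ⟨hinj, by
    rw [Fintype.card_fin, Fintype.card_subtype_compl, Fintype.card_subtype_eq, ← Nat.card_eq_fintype_card,
      card_fix_four hG M hψ hker F]⟩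
  obtain ⟨i, hi⟩ := hbij.2 ⟨⟨d, hd⟩, fun e => hd1 (congrArg Subtype.val e)⟩
  have hi' := congrArg (fun w : {w : Z // w ≠ 1} => ((w.1 : Z) : G)) hi
  fin_cases i
  · exact (show z = d from hi') ▸ IsConj.refl z
  · exact isConj_iff.2 ⟨σ, hi'⟩
  · have e : σ * (σ * z * σ⁻¹) * σ⁻¹ = d := hi'
    exact isConj_iff.2 ⟨σ * σ, by rw [← e]; group⟩

theorem int_conj {z d : G} (hz : z ∈ D ⊓ Subgroup.centralizer ({t} : Set G)) (hz1 : z ≠ 1) (hd : d ∈ D)
    (hd1 : d ≠ 1) : IsConj z d := by
  classical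
  set Z := D ⊓ Subgroup.centralizer ({t} : Set G) with hZ
  obtain ⟨r, hr⟩ := exists_reps hψ hker
  have hrN : ∀ i, r i ∈ Subgroup.normalizer (D : Set G) := fun i => (hr i).1
  let f : Fin 5 × {w : Z // w ≠ 1} → {w : D // w ≠ 1} := fun p =>
    ⟨⟨r p.1 * (p.2.1 : G) * (r p.1)⁻¹, (Subgroup.mem_normalizer_iff.1 (hrN p.1) _).1 p.2.1.2.1⟩,
      fun e => p.2.2 (Subtype.ext (conj_eq_one_iff.1 (congrArg Subtype.val e)))⟩
  have hinj : Function.Injective f := by
    rintro ⟨i, w⟩ ⟨j, u⟩ e
    have e' : r i * (w.1 : G) * (r i)⁻¹ = r j * (u.1 : G) * (r j)⁻¹ :=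
      congrArg (fun x : {x : D // x ≠ 1} => ((x.1 : D) : G)) e
    have hij : i = j := by
      by_contra hij
      obtain ⟨hi, hi'⟩ := hr i
      obtain ⟨hj, hj'⟩ := hr j
      have hgN : (r i)⁻¹ * r j ∈ Subgroup.normalizer (D : Set G) := mul_mem (inv_mem hi) hj
      refine w.2 (Subtype.ext (fix_disjoint hG M hker F hgN ?_ (lift_inV hG M hψ hker F) w.1.2 ?_))
      · intro h4
        have : (⟨(r i)⁻¹ * r j, hgN⟩ : Subgroup.normalizer (D : Set G)) = ⟨r i, hi⟩⁻¹ * ⟨r j, hj⟩ := rfl
        rw [this, map_mul, map_inv] at h4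
        have h5 : (ψ ⟨r j, hj⟩ : Equiv.Perm (Fin 5)) 4 = (ψ ⟨r i, hi⟩ : Equiv.Perm (Fin 5)) 4 := by
          simpa [Equiv.Perm.mul_apply, Equiv.symm_apply_eq] using h4
        rw [hi', hj'] at h5
        exact hij h5.symm
      · have hu : ((r i)⁻¹ * r j)⁻¹ * (w.1 : G) * ((r i)⁻¹ * r j) = (u.1 : G) := by
          calc ((r i)⁻¹ * r j)⁻¹ * (w.1 : G) * ((r i)⁻¹ * r j)
              = (r j)⁻¹ * (r i * (w.1 : G) * (r i)⁻¹) * r j := by group
            _ = _ := by rw [e']; group
        rw [hu]; exact u.1.2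
    subst hij
    exact Prod.ext rfl (Subtype.ext (Subtype.ext (mul_left_cancel (mul_right_cancel e'))))
  haveI instD := Fintype.ofFinite D
  haveI instZ := Fintype.ofFinite Z
  have hbij : Function.Bijective f := (Fintype.bijective_iff_injective_and_card f).2 ⟨hinj, by
    rw [Fintype.card_prod, Fintype.card_fin, Fintype.card_subtype_compl, Fintype.card_subtype_compl,
      Fintype.card_subtype_eq, Fintype.card_subtype_eq, ← Nat.card_eq_fintype_card, ← Nat.card_eq_fintype_card,
      card_fix_four hG M hψ hker F, card_int hG M hψ hker F]⟩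
  obtain ⟨⟨i, w⟩, hi⟩ := hbij.2 ⟨⟨d, hd⟩, fun e => hd1 (congrArg Subtype.val e)⟩
  refine (fix_conj hG M hψ hker F hz hz1 w.1.2 fun e => w.2 (Subtype.ext e)).trans (isConj_iff.2 ⟨r i, ?_⟩)
  exact congrArg (fun x : {x : D // x ≠ 1} => ((x.1 : D) : G)) hi

/-- There is one class of involutions. -/
theorem one_class {z v : G} (hz : z ∈ D ⊓ Subgroup.centralizer ({t} : Set G)) (hz1 : z ≠ 1)
    (hv : orderOf v = 2) : IsConj z v := by
  haveI : Fact (Nat.Prime 2) := ⟨Nat.prime_two⟩
  obtain ⟨hcomm, hsq⟩ := elementary hG M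
  by_contra hne
  have hSpre := sylow_eq_pre hG M hψ hker F
  have h4 := card_fix_four hG M hψ hker F
  set A := aPart ψ σ t with hA
  have hcardA : Nat.card A = Nat.card D := by
    rw [hA, card_aPart hG M hker F, h4, card_int hG M hψ hker F]
  have hconjA : ∀ g : G, (∀ x ∈ A, g * x * g⁻¹ ∈ pre ψ) → A.map (MulAut.conj g).toMonoidHom = D ∨
      A.map (MulAut.conj g).toMonoidHom = A := by
    intro g hg
    rcases eq_or_ne (A.map (MulAut.conj g).toMonoidHom) D with e | e
    · exact Or.inl e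
    refine Or.inr (elem_cases hG M hker F h4 ?_ ?_ ?_ ?_ e)
    · rintro _ ⟨x, hx, rfl⟩; exact hg x hx
    · rintro _ ⟨x, hx, rfl⟩ _ ⟨y, hy, rfl⟩; rw [← map_mul, ← map_mul, aPart_comm hG M hker F x hx y hy]
    · rintro _ ⟨x, hx, rfl⟩; rw [← map_mul, aPart_sq hG M hker F hx, map_one]
    · rw [← Nat.card_congr (Subgroup.equivMapOfInjective A _ (MulEquiv.injective _)).toEquiv, hcardA]
  -- elements of `S` commuting with an involution of `A` outside `D`
  have hcs : ∀ u ∈ A, u ∉ D → ∀ x ∈ (S : Subgroup G), x * u = u * x → x ∈ A := by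
    intro u hu huD x hx hxu
    rw [hSpre] at hx
    obtain ⟨i, hi⟩ := exists_lift_decomp F hx
    obtain ⟨hl, hl2⟩ := lifts_spec F i
    have hd : x * lifts σ t i ∈ D ⊓ Subgroup.centralizer ({u} : Set G) :=
      ⟨hi, Subgroup.mem_centralizer_singleton_iff.2
        ((show Commute x u from hxu).mul_left (aPart_comm hG M hker F _ hl u hu)).eq⟩
    rw [F.cent u ((mem_aPart F).1 hu).1 huD] at hd
    have hdA : x * lifts σ t i ∈ A := (mem_aPart F).2 ⟨le_pre hker hd.1,
      (F.central _ hd t F.tmem).symm, (F.central _ hd _ (F.conj t F.tmem)).symm⟩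
    have := mul_mem hdA hl
    rwa [mul_assoc, hl2, mul_one] at this
  obtain ⟨P, hP⟩ := (hG.cent_invol hv).exists_le_sylow
  obtain ⟨h, rfl⟩ := MulAction.exists_smul_eq G S P
  have hvP := hP (Subgroup.mem_centralizer_singleton_iff.2 (rfl : v * v = v * v))
  rw [Transfer.mem_smul_sylow] at hvP
  set u := h⁻¹ * v * h with hu
  have hu2 : orderOf u = 2 := by
    have := Invol.conj_orderOf_two hv h⁻¹
    rwa [inv_inv] at this
  have huv : IsConj u v := isConj_iff.2 ⟨h, by rw [hu]; group⟩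
  have huD : u ∉ D := fun e =>
    hne ((int_conj hG M hψ hker F hz hz1 e (Invol.ne_one_of_orderOf_two hu2)).trans huv)
  have huA : u ∈ A := by
    rw [hSpre] at hvP
    exact (mem_aPart F).2 ⟨hvP, invol_commute hG M F hvP (Invol.mul_self_of_orderOf_two hu2) huD⟩
  refine class_false hG (E := A) ?_ (aPart_comm hG M hker F) ?_
    (orderOf_eq_two_of (hsq z hz.1) hz1) hu2 huA ?_ fun e => hne (e.trans huv)
  · intro e
    have htop : D = ⊤ := Subgroup.eq_top_of_card_eq D (by rw [← hcardA, e, Subgroup.card_top])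
    exact F.notD.1 (htop ▸ Subgroup.mem_top t)
  · intro Q hQ
    obtain ⟨g, rfl⟩ := MulAction.exists_smul_eq G S Q
    have hgA : ∀ x ∈ A, g⁻¹ * x * g⁻¹⁻¹ ∈ pre ψ := fun x hx => by
      rw [inv_inv, ← hSpre]
      exact Transfer.mem_smul_sylow.1 (hQ hx)
    intro y hy
    rw [Transfer.mem_smul_sylow, hSpre] at hy
    have hnorm : (A.map (MulAut.conj g⁻¹).toMonoidHom).map (MulAut.conj (g⁻¹ * y * g)).toMonoidHom =
        A.map (MulAut.conj g⁻¹).toMonoidHom := by
      refine Transfer.map_conj_eq_self_iff.2 ?_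
      rcases hconjA g⁻¹ hgA with e | e <;> rw [e]
      · exact pre_le hy
      · refine Transfer.map_conj_eq_self_iff.1 ((hconjA _ fun x hx => ?_).resolve_left fun e' => ?_)
        · exact mul_mem (mul_mem hy ((mem_aPart F).1 hx).1) (inv_mem hy)
        · refine F.notD.1 ((Subgroup.mem_normalizer_iff.1 (pre_le hy) t).2 ?_)
          exact e' ▸ Subgroup.mem_map_of_mem _ ((mem_aPart F).2 ⟨F.tmem, Commute.refl t, F.comm⟩)
    refine Transfer.map_conj_eq_self_iff.1 ?_
    have h1 := congrArg (fun H : Subgroup G => H.map (MulAut.conj g).toMonoidHom) hnorm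
    simp only [Transfer.map_conj_mul] at h1
    rwa [mul_inv_cancel, Transfer.map_conj_one, show g * (g⁻¹ * y * g * g⁻¹) = y by group] at h1
  · intro x hx
    have hxv : h * x * h⁻¹ ∈ Subgroup.centralizer ({v} : Set G) := Subgroup.mem_centralizer_singleton_iff.2 (by
      have e := Subgroup.mem_centralizer_singleton_iff.1 hx
      calc h * x * h⁻¹ * v = h * (x * u) * h⁻¹ := by rw [hu]; group
        _ = h * (u * x) * h⁻¹ := by rw [e]
        _ = _ := by rw [hu]; group)
    have hxS := Transfer.mem_smul_sylow.1 (hP hxv)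
    rw [show h⁻¹ * (h * x * h⁻¹) * h = x by group] at hxS
    exact hcs u huA huD x hxS (Subgroup.mem_centralizer_singleton_iff.1 hx)

/-- Each involution has twelve square roots. -/
theorem card_roots {z : G} (hz : z ∈ D ⊓ Subgroup.centralizer ({t} : Set G)) (hz1 : z ≠ 1) :
    Subgroup.centralizer ({z} : Set G) = (S : Subgroup G) ∧ Nat.card {y : G // y * y = z} = 12 := by
  classical
  haveI : Fact (Nat.Prime 2) := ⟨Nat.prime_two⟩
  obtain ⟨hcomm, hsq⟩ := elementary hG M
  have hSpre := sylow_eq_pre hG M hψ hker F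
  have hcent : Subgroup.centralizer ({z} : Set G) = (S : Subgroup G) :=
    cent_eq_sylow hG (orderOf_eq_two_of (hsq z hz.1) hz1) fun x hx =>
      Subgroup.mem_centralizer_singleton_iff.2 (F.central z hz x (hSpre ▸ hx))
  refine ⟨hcent, ?_⟩
  set Z := D ⊓ Subgroup.centralizer ({t} : Set G) with hZ
  -- the commutator with a lift
  have hfib : ∀ i : Fin 3, Nat.card {d : D // (d : G) * lifts σ t i.succ * ((d : G) * lifts σ t i.succ) = z} = 4 := by
    intro i
    set v := lifts σ t i.succ with hv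
    obtain ⟨hvA, hv2⟩ := lifts_spec F i.succ
    have hvT : v ∈ pre ψ := ((mem_aPart F).1 hvA).1
    have hvi : v⁻¹ = v := inv_eq_of_mul_eq_one_right hv2
    have hvD : v ∉ D := fun e => Fin.succ_ne_zero i (lifts_notD F i.succ 0 (by
      rw [show lifts σ t 0 = 1 from rfl, mul_one]; exact e))
    have hmem : ∀ d ∈ D, v * d * v ∈ D := fun d hd => by
      have := (Subgroup.mem_normalizer_iff.1 (pre_le hvT) d).1 hd
      rwa [hvi] at this
    let f : D →* Z :=
      { toFun := fun d => ⟨(d : G) * (v * d * v), by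
          show _ ∈ D ⊓ Subgroup.centralizer ({t} : Set G)
          rw [← F.cent v hvT hvD]
          refine ⟨mul_mem d.2 (hmem d d.2), Subgroup.mem_centralizer_singleton_iff.2 ?_⟩
          show (d : G) * (v * d * v) * v = v * ((d : G) * (v * d * v))
          rw [hcomm d d.2 _ (hmem d d.2)]
          calc v * (d : G) * v * d * v = v * ((d : G) * (v * d * v)) := by group
            _ = _ := by rw [hcomm d d.2 _ (hmem d d.2)]⟩
        map_one' := Subtype.ext (by simp [show v * v = 1 from hv2])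
        map_mul' := fun d e => Subtype.ext (by
          show (d : G) * e * (v * (d * e) * v) = d * (v * d * v) * (e * (v * e * v))
          rw [show v * ((d : G) * e) * v = (v * d * v) * (v⁻¹ * v⁻¹) * (v * e * v) by group, hvi, hv2, mul_one,
            mul_assoc (d : G) (e : G), ← mul_assoc (e : G), hcomm e e.2 _ (hmem d d.2)]
          group) }
    have hkc : Nat.card f.ker = 4 := by
      rw [← card_fix_four hG M hψ hker F, ← hZ]
      refine Nat.card_congr ⟨fun d => ⟨((d : D) : G), ?_⟩, fun c => ⟨⟨c.1, c.2.1⟩, ?_⟩, fun _ => rfl, fun _ => rfl⟩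
      · show _ ∈ D ⊓ Subgroup.centralizer ({t} : Set G)
        rw [← F.cent v hvT hvD]
        refine ⟨(d : D).2, Subgroup.mem_centralizer_singleton_iff.2 ?_⟩
        have e : ((d : D) : G) * (v * (d : D) * v) = 1 := congrArg Subtype.val (MonoidHom.mem_ker.1 d.2)
        have e1 := inv_eq_of_mul_eq_one_right e
        rw [inv_eq_of_mul_eq_one_right (hsq _ (d : D).2)] at e1
        calc ((d : D) : G) * v = v * (d : D) * v * v := by rw [← e1]
          _ = _ := by rw [mul_assoc _ v v, hv2, mul_one]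
      · refine MonoidHom.mem_ker.2 (Subtype.ext ?_)
        show (c : G) * (v * c * v) = 1
        rw [F.central c c.2 v hvT, mul_assoc (c : G) v v, hv2, mul_one, hsq c c.2.1]
    have hsurj : Function.Surjective f := by
      rw [← MonoidHom.range_eq_top]
      refine Subgroup.eq_top_of_card_eq _ ?_
      have e := Subgroup.card_eq_card_quotient_mul_card_subgroup f.ker
      rw [Nat.card_congr (QuotientGroup.quotientKerEquivRange f).toEquiv, hkc, card_int hG M hψ hker F] at e
      have hz4 : Nat.card Z = 4 := card_fix_four hG M hψ hker F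
      omega
    obtain ⟨d₀, hd₀⟩ := hsurj ⟨z, hz⟩
    rw [← hkc]
    refine Nat.card_congr ⟨fun d => ⟨d₀⁻¹ * d.1, ?_⟩, fun k => ⟨d₀ * k.1, ?_⟩, fun d => by simp, fun k => by simp⟩
    · rw [MonoidHom.mem_ker, map_mul, map_inv, hd₀, inv_mul_eq_one]
      refine Subtype.ext ?_
      show z = (d.1 : G) * (v * d.1 * v)
      refine d.2.symm.trans ?_
      simp only [mul_assoc]
    · have e : f (d₀ * k.1) = ⟨z, hz⟩ := by rw [map_mul, hd₀, MonoidHom.mem_ker.1 k.2, mul_one]
      have e' : ((d₀ * k.1 : D) : G) * (v * (d₀ * k.1 : D) * v) = z := congrArg Subtype.val e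
      refine Eq.trans ?_ e'
      simp only [mul_assoc]
  have key : Nat.card {y : G // y * y = z} =
      Nat.card (Σ i : Fin 3, {d : D // (d : G) * lifts σ t i.succ * ((d : G) * lifts σ t i.succ) = z}) := by
    refine (Nat.card_eq_of_bijective (fun p => ⟨(p.2.1 : G) * lifts σ t p.1.succ, p.2.2⟩) ⟨?_, ?_⟩).symm
    · rintro ⟨i, d, hd⟩ ⟨j, e, he⟩ h
      have h' : (d : G) * lifts σ t i.succ = e * lifts σ t j.succ := congrArg Subtype.val h
      have hij : i = j := Fin.succ_injective _ (lifts_notD F _ _ (by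
        have : lifts σ t i.succ * lifts σ t j.succ = (d : G)⁻¹ * e := by
          calc lifts σ t i.succ * lifts σ t j.succ
              = (d : G)⁻¹ * ((d : G) * lifts σ t i.succ) * lifts σ t j.succ := by group
            _ = (d : G)⁻¹ * e * (lifts σ t j.succ * lifts σ t j.succ) := by rw [h']; group
            _ = _ := by rw [(lifts_spec F _).2, mul_one]
        rw [this]; exact mul_mem (inv_mem d.2) e.2))
      subst hij
      exact Sigma.ext rfl (heq_of_eq (Subtype.ext (Subtype.ext (mul_right_cancel h'))))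
    · rintro ⟨y, hy⟩
      have hyS : y ∈ pre ψ := hSpre ▸ hcent ▸ Subgroup.mem_centralizer_singleton_iff.2 (by rw [← hy, mul_assoc])
      obtain ⟨i, hi⟩ := exists_lift_decomp F hyS
      have hy' : y * lifts σ t i * lifts σ t i = y := by rw [mul_assoc, (lifts_spec F i).2, mul_one]
      obtain ⟨j, rfl⟩ : ∃ j : Fin 3, i = j.succ := by
        rcases Fin.eq_zero_or_eq_succ i with rfl | h
        · exfalso
          have hyD : y ∈ D := by simpa [lifts] using hi
          exact hz1 (hy.symm.trans (hsq y hyD))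
        · exact h
      exact ⟨⟨j, ⟨⟨_, hi⟩, by show _ * _ * (_ * _) = z; rw [hy', hy]⟩⟩, Subtype.ext hy'⟩
  rw [key, Nat.card_sigma, Finset.sum_congr rfl (fun i _ => hfib i)]
  simp

end CfsgLib.OneToFive
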