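import Cfsg.Agent.Lib.OneToFive.FiveD
import Cfsg.Agent.Lib.OneToFive.Count

/-!
No simple group has a maximal intersection whose normalizer induces the alternating group of degree five: the
class equation fails.
-/

set_option autoImplicit false
set_option linter.style.haveILetI false
set_option linter.unusedSectionVars false

namespace CfsgLib.OneToFive

variable {G : Type*} [Group G] [Finite G]

/-- The order is a product of powers of two, three and five. -/
theorem card_eq_factors (hG : Spec G) :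
    Nat.card G = 2 ^ (Nat.card G).factorization 2 * 3 ^ (Nat.card G).factorization 3 *
      5 ^ (Nat.card G).factorization 5 := by
  have h0 : Nat.card G ≠ 0 := Nat.card_pos.ne'
  have hs : (Nat.card G).factorization.support ⊆ ({2, 3, 5} : Finset ℕ) := fun p hp => by
    rw [Nat.support_factorization, Nat.mem_primeFactors] at hp
    simpa using hG.prime hp.1 hp.2.1
  conv_lhs => rw [← Nat.prod_factorization_pow_eq_self h0,
    Finsupp.prod_of_support_subset _ hs _ (fun i _ => pow_zero i)]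
  simp [Finset.prod_insert, mul_assoc]

/-- The five kinds of elements. -/
theorem card_partition (hG : Spec G) :
    Nat.card G = 1 + Nat.card {y : G // y * y = 1 ∧ y ≠ 1} + Nat.card {y : G // y ^ 4 = 1 ∧ y * y ≠ 1} +
      Nat.card {y : G // y ^ 3 = 1 ∧ y ≠ 1} + Nat.card {y : G // y ^ 5 = 1 ∧ y ≠ 1} := by
  classical
  let c : G → Fin 5 := fun y =>
    if y = 1 then 0 else if y * y = 1 then 1 else if y ^ 4 = 1 then 2 else if y ^ 3 = 1 then 3 else 4
  have hcard : Nat.card G = ∑ i : Fin 5, Nat.card {y : G // c y = i} := by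
    rw [← Nat.card_sigma]
    exact Nat.card_congr (Equiv.sigmaFiberEquiv c).symm
  have e4 : ∀ y : G, y * y = 1 → y ^ 4 = 1 := fun y h => by
    rw [show 4 = 2 * 2 from rfl, pow_mul, pow_two y, h, one_pow]
  have e1 : ∀ (y : G) (n : ℕ), (n = 3 ∨ n = 5) → y ^ n = 1 → y ^ 4 = 1 → y = 1 := fun y n hn h h4 =>
    orderOf_eq_one_iff.1 (Nat.eq_one_of_dvd_coprimes (show Nat.Coprime n 4 by rcases hn with rfl | rfl <;> norm_num)
      (orderOf_dvd_of_pow_eq_one h) (orderOf_dvd_of_pow_eq_one h4))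
  have e35 : ∀ y : G, y ^ 3 = 1 → y ^ 5 = 1 → y = 1 := fun y h h' =>
    orderOf_eq_one_iff.1 (Nat.eq_one_of_dvd_coprimes (show Nat.Coprime 3 5 by norm_num)
      (orderOf_dvd_of_pow_eq_one h) (orderOf_dvd_of_pow_eq_one h'))
  have h0 : Nat.card {y : G // c y = 0} = 1 := by
    rw [Nat.card_congr (Equiv.subtypeEquivRight (q := fun y => y = 1) fun y => ?_), Nat.card_eq_fintype_card,
      Fintype.card_subtype_eq]
    simp only [c]
    split_ifs with a <;> simp [a]
  have h1 : Nat.card {y : G // c y = 1} = Nat.card {y : G // y * y = 1 ∧ y ≠ 1} := by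
    refine Nat.card_congr (Equiv.subtypeEquivRight fun y => ?_)
    simp only [c]
    split_ifs with a b d f
    · simp [a]
    · simp [a, b]
    · simp [b]
    · simp [b]
    · simp [b]
  have h2 : Nat.card {y : G // c y = 2} = Nat.card {y : G // y ^ 4 = 1 ∧ y * y ≠ 1} := by
    refine Nat.card_congr (Equiv.subtypeEquivRight fun y => ?_)
    simp only [c]
    split_ifs with a b d f
    · simp [a]
    · simp [b]
    · simp [b, d]
    · simp [d]
    · simp [d]
  have h3 : Nat.card {y : G // c y = 3} = Nat.card {y : G // y ^ 3 = 1 ∧ y ≠ 1} := by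
    refine Nat.card_congr (Equiv.subtypeEquivRight fun y => ?_)
    simp only [c]
    split_ifs with a b d f
    · simp [a]
    · exact ⟨fun h => absurd h (by decide), fun h => absurd (e1 y 3 (Or.inl rfl) h.1 (e4 y b)) a⟩
    · exact ⟨fun h => absurd h (by decide), fun h => absurd (e1 y 3 (Or.inl rfl) h.1 d) a⟩
    · simp [a, f]
    · exact ⟨fun h => absurd h (by decide), fun h => absurd h.1 f⟩
  have h4 : Nat.card {y : G // c y = 4} = Nat.card {y : G // y ^ 5 = 1 ∧ y ≠ 1} := by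
    refine Nat.card_congr (Equiv.subtypeEquivRight fun y => ?_)
    simp only [c]
    split_ifs with a b d f
    · simp [a]
    · exact ⟨fun h => absurd h (by decide), fun h => absurd (e1 y 5 (Or.inr rfl) h.1 (e4 y b)) a⟩
    · exact ⟨fun h => absurd h (by decide), fun h => absurd (e1 y 5 (Or.inr rfl) h.1 d) a⟩
    · exact ⟨fun h => absurd h (by decide), fun h => absurd (e35 y f h.1) a⟩
    · exact ⟨fun _ => ⟨((hG y).resolve_left f).resolve_left d, a⟩, fun _ => rfl⟩
  rw [hcard]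
  simp only [Fin.sum_univ_five, h0, h1, h2, h3, h4]

/-- The arithmetic. -/
theorem class_equation_false {g i n3 n5 h3 h5 P Q : ℕ} (hg : g = 64 * P * Q) (hP : 3 ≤ P) (hQ : 5 ≤ Q)
    (hi : i * 64 = g) (heq : g = 1 + i + i * 12 + n3 * (P - 1) + n5 * (Q - 1))
    (hn3 : n3 * h3 * P = g) (hn5 : n5 * h5 * Q = g) (hh3 : 2 ∣ h3) (hh5 : 2 ∣ h5) : False := by
  have hi' : i = P * Q := Nat.eq_of_mul_eq_mul_right (show 0 < 64 by norm_num) (by rw [hi, hg]; ring)
  have h1 : n3 * h3 = 64 * Q := Nat.eq_of_mul_eq_mul_right (show 0 < P by omega) (by rw [hn3, hg]; ring)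
  have h2 : n5 * h5 = 64 * P := Nat.eq_of_mul_eq_mul_right (show 0 < Q by omega) (by rw [hn5, hg])
  obtain ⟨a, rfl⟩ := hh3
  obtain ⟨b, rfl⟩ := hh5
  have h1' : n3 * a = 32 * Q := by linarith
  have h2' : n5 * b = 32 * P := by linarith
  obtain ⟨P', rfl⟩ : ∃ P', P = P' + 1 := ⟨P - 1, by omega⟩
  obtain ⟨Q', rfl⟩ : ∃ Q', Q = Q' + 1 := ⟨Q - 1, by omega⟩
  rw [Nat.add_sub_cancel, Nat.add_sub_cancel, hi', hg] at heq
  rcases Nat.lt_or_ge 1 a with ha | ha
  · have hn : n3 * 2 ≤ 32 * (Q' + 1) := h1' ▸ Nat.mul_le_mul_left n3 ha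
    have hn' : n5 ≤ 32 * (P' + 1) := by
      rcases Nat.eq_zero_or_pos b with rfl | hb
      · simp at h2'
      · exact le_trans (Nat.le_mul_of_pos_right n5 hb) h2'.le
    have m3 : n3 * P' * 2 ≤ 32 * (Q' + 1) * P' := by rw [mul_right_comm]; exact Nat.mul_le_mul_right P' hn
    have m5 : n5 * Q' ≤ 32 * (P' + 1) * Q' := Nat.mul_le_mul_right Q' hn'
    nlinarith
  rcases Nat.lt_or_ge 1 b with hb | hb
  · have hn : n5 * 2 ≤ 32 * (P' + 1) := h2' ▸ Nat.mul_le_mul_left n5 hb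
    have hn' : n3 ≤ 32 * (Q' + 1) := by
      rcases Nat.eq_zero_or_pos a with rfl | ha0
      · simp at h1'
      · exact le_trans (Nat.le_mul_of_pos_right n3 ha0) h1'.le
    have m3 : n5 * Q' * 2 ≤ 32 * (P' + 1) * Q' := by rw [mul_right_comm]; exact Nat.mul_le_mul_right Q' hn
    have m5 : n3 * P' ≤ 32 * (Q' + 1) * P' := Nat.mul_le_mul_right P' hn'
    nlinarith
  have ha1 : a = 1 := by
    rcases Nat.eq_zero_or_pos a with rfl | h
    · simp at h1'
    · omega
  have hb1 : b = 1 := by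
    rcases Nat.eq_zero_or_pos b with rfl | h
    · simp at h2'
    · omega
  subst ha1 hb1
  rw [mul_one] at h1' h2'
  subst h1' h2'
  have key : 13 * (P' + 1) * (Q' + 1) + 1 = 32 * (P' + 1) + 32 * (Q' + 1) := by nlinarith
  rcases Nat.lt_or_ge P' 8 with hP' | hP'
  · interval_cases P' <;> omega
  · have q1 := Nat.mul_le_mul_right (Q' + 1) (show 9 ≤ P' + 1 by omega)
    have q2 := Nat.mul_le_mul_left (P' + 1) hQ
    nlinarith

variable {D : Subgroup G}

/-- This case does not occur. -/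
theorem five_false [IsSimpleGroup G] (hG : Spec G) (M : MaxInt D)
    {ψ : Subgroup.normalizer (D : Set G) →* Alt5} (hψ : Function.Surjective ψ)
    (hker : ψ.ker = D.subgroupOf (Subgroup.normalizer (D : Set G))) : False := by
  classical
  haveI : Fact (Nat.Prime 2) := ⟨Nat.prime_two⟩
  haveI : Fact (Nat.Prime 3) := ⟨Nat.prime_three⟩
  haveI : Fact (Nat.Prime 5) := ⟨by norm_num⟩
  obtain ⟨S, σ, t, F⟩ := exists_frame hG M hψ hker
  obtain ⟨-, hsq⟩ := elementary hG M
  obtain ⟨⟨z, hz⟩, hz1⟩ : ∃ z : (D ⊓ Subgroup.centralizer ({t} : Set G) : Subgroup G), z ≠ 1 := by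
    haveI : Nontrivial (D ⊓ Subgroup.centralizer ({t} : Set G) : Subgroup G) :=
      Finite.one_lt_card_iff_nontrivial.1 (by rw [card_fix_four hG M hψ hker F]; norm_num)
    exact exists_ne 1
  have hz1' : z ≠ 1 := fun e => hz1 (Subtype.ext e)
  obtain ⟨hcz, hr⟩ := card_roots hG M hψ hker F hz hz1'
  have hzo : orderOf z = 2 := orderOf_eq_two_of (hsq z hz.1) hz1'
  -- involutions
  have hcl : ∀ v : G, (v * v = 1 ∧ v ≠ 1) ↔ IsConj z v := fun v => by
    refine ⟨fun h => one_class hG M hψ hker F hz hz1' (orderOf_eq_two_of h.1 h.2), fun h => ?_⟩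
    obtain ⟨g, rfl⟩ := isConj_iff.1 h
    have := Invol.conj_orderOf_two hzo g
    exact ⟨Invol.mul_self_of_orderOf_two this, Invol.ne_one_of_orderOf_two this⟩
  have hinv : Nat.card {y : G // y * y = 1 ∧ y ≠ 1} * 64 = Nat.card G := by
    rw [Nat.card_congr (Equiv.subtypeEquivRight hcl), ← card_sylow hG M hψ hker F, ← hcz]
    exact Invol.card_isConj_mul_card_centralizer z
  -- elements of order four
  have hfour : Nat.card {y : G // y ^ 4 = 1 ∧ y * y ≠ 1} = Nat.card {y : G // y * y = 1 ∧ y ≠ 1} * 12 := by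
    haveI := Fintype.ofFinite {y : G // y * y = 1 ∧ y ≠ 1}
    let e : {y : G // y ^ 4 = 1 ∧ y * y ≠ 1} ≃ Σ w : {y : G // y * y = 1 ∧ y ≠ 1}, {y : G // y * y = w} :=
      { toFun := fun y => ⟨⟨y.1 * y.1, by
          refine ⟨?_, y.2.2⟩
          have h4 := y.2.1
          simpa [pow_succ, mul_assoc] using h4⟩, ⟨y.1, rfl⟩⟩
        invFun := fun p => ⟨p.2.1, by
          refine ⟨?_, fun h => p.1.2.2 (p.2.2.symm.trans h)⟩
          rw [show p.2.1 ^ 4 = p.2.1 * p.2.1 * (p.2.1 * p.2.1) by simp [pow_succ, mul_assoc], p.2.2]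
          exact p.1.2.1⟩
        left_inv := fun _ => rfl
        right_inv := by
          rintro ⟨⟨w, hw⟩, ⟨y, hy⟩⟩
          obtain rfl : y * y = w := hy
          rfl }
    rw [Nat.card_congr e, Nat.card_sigma, Finset.sum_congr rfl (fun w _ => (?_ : _ = 12)), Finset.sum_const,
      Finset.card_univ, ← Nat.card_eq_fintype_card, smul_eq_mul]
    obtain ⟨g, hg⟩ := isConj_iff.1 ((hcl w.1).1 w.2)
    rw [← hr]
    refine Nat.card_congr ((MulAut.conj g).toEquiv.subtypeEquiv fun y => ?_).symm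
    show y * y = z ↔ g * y * g⁻¹ * (g * y * g⁻¹) = w.1
    rw [← hg, show g * y * g⁻¹ * (g * y * g⁻¹) = g * (y * y) * g⁻¹ by group, mul_left_inj, mul_right_inj]
  -- inverted elements of order three and five
  obtain ⟨R, -, hR⟩ := exists_other M S
  let g3 : Alt5 := ⟨Equiv.swap 0 1 * Equiv.swap 1 4, Equiv.Perm.mem_alternatingGroup.2 (by decide)⟩
  let g5 : Alt5 := ⟨Equiv.swap 0 1 * Equiv.swap 1 2 * Equiv.swap 2 3 * Equiv.swap 3 4,
    Equiv.Perm.mem_alternatingGroup.2 (by decide)⟩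
  let v5 : Alt5 := ⟨Equiv.swap 1 4 * Equiv.swap 2 3, Equiv.Perm.mem_alternatingGroup.2 (by decide)⟩
  have hfacts : g3 ^ 3 = 1 ∧ g3 ≠ 1 ∧ g3 * (aV * g3 * aV⁻¹) = 1 ∧ aV * aV = 1 ∧ aV ≠ 1 ∧
      g5 ^ 5 = 1 ∧ g5 ≠ 1 ∧ g5 * (v5 * g5 * v5⁻¹) = 1 ∧ v5 * v5 = 1 ∧ v5 ≠ 1 := by decide +kernel
  obtain ⟨k1, k2, k3, k4, k5, l1, l2, l3, l4, l5⟩ := hfacts
  have key : ∀ (p : ℕ), (p = 3 ∨ p = 5) → ∀ (a g : Alt5), a * a = 1 → a ≠ 1 → g ^ p = 1 → g ≠ 1 →
      g * (a * g * a⁻¹) = 1 →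
      ∃ x u : G, x ^ p = 1 ∧ x ≠ 1 ∧ orderOf u = 2 ∧ u * x * u = x⁻¹ := by
    intro p hp a g ha ha1 hg hg1 hag
    obtain ⟨a', rfl⟩ := hψ a
    obtain ⟨g', rfl⟩ := hψ g
    obtain ⟨hgp, hg1'⟩ := lift_pow hG M hψ hker hp hg hg1
    obtain ⟨d, hd, hu2, hux⟩ := exists_inverter hG M (a := (a' : G)) (g := (g' : G)) a'.2
      ((psi_eq_one hker (x := a' * a')).1 (by rw [map_mul]; exact ha)) g'.2
      (by rcases hp with rfl | rfl
          · exact Or.inl hgp
          · exact Or.inr hgp) hg1'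
      ((psi_eq_one hker (x := g' * (a' * g' * a'⁻¹))).1 (by rw [map_mul, map_mul, map_mul, map_inv]; exact hag))
    refine ⟨g', d * a', hgp, hg1', orderOf_eq_two_of hu2 fun e => ha1 ((psi_eq_one hker).2 ?_), hux⟩
    rw [eq_inv_of_mul_eq_one_right e]
    exact inv_mem hd
  obtain ⟨x3, u3, hx3, hx31, hu3, hi3⟩ := key 3 (Or.inl rfl) aV g3 k4 k5 k1 k2 k3
  obtain ⟨x5, u5, hx5, hx51, hu5, hi5⟩ := key 5 (Or.inr rfl) v5 g5 l4 l5 l1 l2 l3
  obtain ⟨n3, h3, hc3, hn3, hh3⟩ := count_prime hG (Or.inl rfl) hx3 hx31 hu3 hi3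
  obtain ⟨n5, h5, hc5, hn5, hh5⟩ := count_prime hG (Or.inr rfl) hx5 hx51 hu5 hi5
  have hfac := card_eq_factors hG
  have h64 : 2 ^ (Nat.card G).factorization 2 = 64 := by
    rw [← card_sylow hG M hψ hker F]; exact (S.card_eq_multiplicity).symm
  rw [h64] at hfac
  have hpos : ∀ p : ℕ, p.Prime → ∀ x : G, x ^ p = 1 → x ≠ 1 → p ≤ p ^ (Nat.card G).factorization p :=
    fun p hp x hx hx1 => by
      haveI := Fact.mk hp
      refine Nat.le_self_pow ?_ _
      exact (hp.factorization_pos_of_dvd Nat.card_pos.ne' (orderOf_eq_prime hx hx1 ▸ orderOf_dvd_natCard x)).ne'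
  have hpart := card_partition hG
  rw [hfour, hc3, hc5] at hpart
  exact class_equation_false hfac (hpos 3 Nat.prime_three x3 hx3 hx31) (hpos 5 (by norm_num) x5 hx5 hx51)
    hinv hpart hn3 hn5 hh3 hh5

end CfsgLib.OneToFive
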