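import Mathlib

/-!
A finite `2`-group with an inverted fixed-point-free automorphism, all of whose elements times the
inverting involution have order at most four, is elementary abelian.
-/

set_option autoImplicit false
set_option linter.style.haveILetI false

open scoped commutatorElement

namespace CfsgLib.OneToFive

variable {N : Type*} [Group N] [Finite N]

/-- A fixed coset of a stable subgroup meets the fixed points. -/
theorem fpf_coset (K : Subgroup N) (σ : N ≃* N) (hK : ∀ k ∈ K, σ k ∈ K)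
    (hfpf : ∀ g, σ g = g → g = 1) {x : N} (hx : x⁻¹ * σ x ∈ K) : x ∈ K := by
  have hinj : Function.Injective
      (fun v : K => (⟨(v : N)⁻¹ * σ v, mul_mem (inv_mem v.2) (hK _ v.2)⟩ : K)) := by
    intro a b hab
    have hab' : (a : N)⁻¹ * σ a = (b : N)⁻¹ * σ b := congrArg Subtype.val hab
    have : σ ((b : N) * (a : N)⁻¹) = (b : N) * (a : N)⁻¹ := by
      rw [map_mul, map_inv, show σ (a : N) = a * ((b : N)⁻¹ * σ b) by rw [← hab', mul_inv_cancel_left]]
      group
    exact Subtype.ext (mul_inv_eq_one.mp (hfpf _ this)).symm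
  obtain ⟨w, hw⟩ := Finite.injective_iff_surjective.mp hinj ⟨_, hx⟩
  have hw' : (w : N)⁻¹ * σ w = x⁻¹ * σ x := congrArg Subtype.val hw
  have : σ (x * (w : N)⁻¹) = x * (w : N)⁻¹ := by
    rw [map_mul, map_inv, show σ (w : N) = w * (x⁻¹ * σ x) by rw [← hw', mul_inv_cancel_left]]
    group
  rw [mul_inv_eq_one.mp (hfpf _ this)]
  exact w.2

/-- The main lemma, by induction on the order. -/
theorem elementary_aux : ∀ (n : ℕ) {N : Type*} [Group N] [Finite N], Nat.card N = n → IsPGroup 2 N →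
    ∀ (σ τ : N ≃* N), (∀ g, σ g = g → g = 1) → (∀ g, σ (σ g) = g → g = 1) →
    (∀ g, τ (σ g) = σ.symm (τ g)) → (∀ g, τ (τ g) = g) → (∀ x, (x * τ x) ^ 2 = 1) →
    (∀ x y : N, x * y = y * x) ∧ ∀ x : N, x ^ 2 = 1 := by
  intro n
  induction n using Nat.strong_induction_on with
  | _ n ih =>
  intro N _ _ hn hN σ τ hfpf hfpf2 hts hτ hq
  rcases subsingleton_or_nontrivial N with h | h
  · exact ⟨fun _ _ => Subsingleton.elim _ _, fun _ => Subsingleton.elim _ _⟩
  haveI : Fact (Nat.Prime 2) := ⟨Nat.prime_two⟩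
  set Z := Subgroup.center N
  have hZc : ∀ z ∈ Z, ∀ r : N, r * z = z * r := fun z hz => Subgroup.mem_center_iff.mp hz
  let K : Subgroup N :=
    { carrier := {z | z ∈ Z ∧ z * z = 1}
      one_mem' := ⟨one_mem _, one_mul 1⟩
      mul_mem' := fun {a b} ha hb => ⟨mul_mem ha.1 hb.1, by
        rw [show a * b * (a * b) = a * (b * a) * b by group, ← hZc b hb.1 a,
          show a * (a * b) * b = (a * a) * (b * b) by group, ha.2, hb.2, one_mul]⟩
      inv_mem' := fun {a} ha => ⟨inv_mem ha.1, by rw [← mul_inv_rev, ha.2, inv_one]⟩ }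
  haveI hKn : K.Normal := ⟨fun z hz g => by rw [hZc z hz.1 g, mul_inv_cancel_right]; exact hz⟩
  have hKmem : ∀ (e : N ≃* N), ∀ z ∈ K, e z ∈ K := fun e z hz =>
    ⟨Subgroup.mem_center_iff.mpr fun r => by
      obtain ⟨r, rfl⟩ := e.surjective r
      rw [← map_mul, ← map_mul, hZc z hz.1 r], by rw [← map_mul, hz.2, map_one]⟩
  have hK1 : K ≠ ⊥ := by
    haveI := hN.center_nontrivial
    obtain ⟨z, hz⟩ := exists_prime_orderOf_dvd_card' 2 (G := Z) (by
      obtain ⟨k, hk⟩ := (hN.to_subgroup Z).exists_card_eq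
      rcases Nat.eq_zero_or_pos k with rfl | hk0
      · exact absurd (hk.trans (pow_zero 2)) (Finite.one_lt_card (α := Z)).ne'
      · exact hk ▸ dvd_pow_self 2 hk0.ne')
    intro h
    have h1 : (z : N) ∈ K := ⟨z.2, by
      rw [← Subgroup.coe_mul, ← pow_two, ← hz, pow_orderOf_eq_one]; rfl⟩
    rw [h, Subgroup.mem_bot] at h1
    rw [show z = 1 from Subtype.ext h1, orderOf_one] at hz
    simp at hz
  set π := QuotientGroup.mk' K
  have hcong : ∀ e : N ≃* N, K.map e.toMonoidHom = K := fun e => by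
    refine le_antisymm ?_ fun z hz => ⟨e.symm z, hKmem _ _ hz, e.apply_symm_apply z⟩
    rintro _ ⟨z, hz, rfl⟩; exact hKmem e z hz
  set σq := QuotientGroup.congr K K σ (hcong σ) with hσq
  set τq := QuotientGroup.congr K K τ (hcong τ) with hτq
  have eσ : ∀ x, σq (π x) = π (σ x) := fun x => rfl
  have eσ' : ∀ x, σq.symm (π x) = π (σ.symm x) := fun x => by
    rw [MulEquiv.symm_apply_eq, eσ, σ.apply_symm_apply]
  have eτ : ∀ x, τq (π x) = π (τ x) := fun x => rfl
  have hfq : ∀ g, σq g = g → g = 1 := fun g hg => by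
    obtain ⟨x, rfl⟩ := QuotientGroup.mk'_surjective K g
    rw [eσ] at hg
    exact (QuotientGroup.eq_one_iff x).2 (fpf_coset K σ (hKmem σ) hfpf (QuotientGroup.eq.1 hg.symm))
  have hf2q : ∀ g, σq (σq g) = g → g = 1 := fun g hg => by
    obtain ⟨x, rfl⟩ := QuotientGroup.mk'_surjective K g
    rw [eσ, eσ] at hg
    exact (QuotientGroup.eq_one_iff x).2
      (fpf_coset K (σ.trans σ) (hKmem _) hfpf2 (QuotientGroup.eq.1 hg.symm))
  have hlt : Nat.card (N ⧸ K) < n := by
    rw [← hn, Subgroup.card_eq_card_quotient_mul_card_subgroup K]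
    exact lt_mul_of_one_lt_right Nat.card_pos
      (Finite.one_lt_card_iff_nontrivial.2 ((Subgroup.nontrivial_iff_ne_bot K).2 hK1))
  obtain ⟨hc, h2⟩ := ih _ hlt rfl (hN.to_quotient K) σq τq hfq hf2q
    (fun g => by
      obtain ⟨x, rfl⟩ := QuotientGroup.mk'_surjective K g
      rw [eσ, eτ, eτ, eσ', hts])
    (fun g => by
      obtain ⟨x, rfl⟩ := QuotientGroup.mk'_surjective K g
      rw [eτ, eτ, hτ])
    (fun g => by
      obtain ⟨x, rfl⟩ := QuotientGroup.mk'_surjective K g
      rw [eτ, ← map_mul, ← map_pow, hq, map_one])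
  letI : CommGroup (N ⧸ K) := { (inferInstance : Group (N ⧸ K)) with mul_comm := hc }
  have hQ : ∀ g : N ⧸ K, g * g = 1 := fun g => by rw [← pow_two]; exact h2 g
  have hQi : ∀ g : N ⧸ K, g⁻¹ = g := fun g => inv_eq_of_mul_eq_one_right (hQ g)
  have hmemK : ∀ z, π z = 1 → z ∈ K := fun z hz => (QuotientGroup.eq_one_iff z).1 hz
  have hz1 : ∀ z ∈ K, π z = 1 := fun z hz => (QuotientGroup.eq_one_iff z).2 hz
  have heq : ∀ a b, π a = π b → ∃ z ∈ K, a = b * z := fun a b e =>
    ⟨b⁻¹ * a, hmemK _ (by rw [map_mul, map_inv, e, inv_mul_cancel]), (mul_inv_cancel_left _ _).symm⟩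
  set f : N → N → N := fun a b => ⁅a, b⁆
  have hfK : ∀ a b, f a b ∈ K := fun a b => hmemK _ (by
    simp only [f, map_commutatorElement]
    exact commutatorElement_eq_one_iff_mul_comm.mpr (hc _ _))
  have hfc : ∀ a b r, r * f a b = f a b * r := fun a b r => hZc _ (hfK a b).1 r
  have hl : ∀ a a' b, f (a * a') b = f a b * f a' b := fun a a' b => by
    have e : f (a * a') b = a * f a' b * a⁻¹ * f a b := by simp only [f, commutatorElement_def]; group
    rw [e, hfc a' b a, mul_inv_cancel_right, hfc a b]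
  have hr : ∀ a b b', f a (b * b') = f a b * f a b' := fun a b b' => by
    have e : f a (b * b') = f a b * (b * f a b' * b⁻¹) := by simp only [f, commutatorElement_def]; group
    rw [e, hfc a b' b, mul_inv_cancel_right]
  have hzl : ∀ z ∈ K, ∀ b, f z b = 1 := fun z hz b =>
    commutatorElement_eq_one_iff_mul_comm.mpr (hZc z hz.1 b).symm
  have hzr : ∀ z ∈ K, ∀ b, f b z = 1 := fun z hz b =>
    commutatorElement_eq_one_iff_mul_comm.mpr (hZc z hz.1 b)
  have hsym : ∀ a b, f b a = f a b := fun a b => by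
    rw [show f b a = (f a b)⁻¹ from (commutatorElement_inv _ _).symm]
    exact inv_eq_of_mul_eq_one_right (hfK a b).2
  set U : N → N := fun x => x * τ x
  have hU : ∀ x, U x * U x = 1 := fun x => by rw [← pow_two]; exact hq x
  have hUi : ∀ x, (U x)⁻¹ = U x := fun x => inv_eq_of_mul_eq_one_right (hU x)
  have hUU : ∀ a b, f (U a) (U b) = 1 := fun a b => by
    obtain ⟨z, hz, he⟩ := heq (U (a * b)) (U a * U b) (by
      simp only [U, map_mul]; rw [mul_mul_mul_comm])
    have h := hU (a * b)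
    rw [he, show U a * U b * z * (U a * U b * z) = U a * U b * (z * (U a * U b)) * z by group,
      ← hZc z hz.1 (U a * U b), show U a * U b * (U a * U b * z) * z = U a * U b * (U a * U b) * (z * z) by
      group, hz.2, mul_one] at h
    show U a * U b * (U a)⁻¹ * (U b)⁻¹ = 1
    rw [hUi, hUi, mul_assoc (U a * U b)]
    exact h
  have hτU : ∀ a, π (τ (U a)) = π (U a) := fun a => by
    simp only [U, map_mul, hτ]; rw [mul_comm]
  have hdec : ∀ x, ∃ a b z, z ∈ K ∧ x = U a * σ (U b) * z := fun x => by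
    have hinj : Function.Injective (fun q : N ⧸ K => σq (τq q) * σq.symm (τq q)) := by
      intro q q' e
      simp only at e
      have h0 : σq (τq (q * q')) * σq.symm (τq (q * q')) = 1 := by
        simp only [map_mul]; rw [mul_mul_mul_comm, e, hQ]
      rw [mul_eq_one_iff_eq_inv, hQi] at h0
      have h1 := hf2q (τq (q * q')) (by rw [h0, σq.apply_symm_apply])
      rw [← map_one τq] at h1
      rw [← hQi q', ← mul_inv_eq_one.mp (show q * q'⁻¹ = 1 by rw [hQi]; exact τq.injective h1), hQi]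
    obtain ⟨q, hq'⟩ := Finite.injective_iff_surjective.mp hinj (π x)
    obtain ⟨y, rfl⟩ := QuotientGroup.mk'_surjective K q
    obtain ⟨z, hz, he⟩ := heq x (U (σ y) * σ (U y)) (by
      change σq (τq (π y)) * σq.symm (τq (π y)) = π x at hq'
      rw [← hq', eτ, eσ, eσ']
      simp only [U, map_mul, hts]
      calc π (σ (τ y)) * π (σ.symm (τ y))
          = π (σ (τ y)) * π (σ.symm (τ y)) * (π (σ y) * π (σ y)) := by rw [hQ, mul_one]
        _ = _ := by ac_rfl)
    exact ⟨_, _, z, hz, he⟩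
  have hτmap : ∀ a b, τ (f a b) = f (τ a) (τ b) := fun a b => map_commutatorElement _ _ _
  have hmod : ∀ a a' b b', π a = π a' → π b = π b' → f a b = f a' b' := fun a a' b b' ea eb => by
    obtain ⟨z, hz, rfl⟩ := heq a a' ea
    obtain ⟨w, hw, rfl⟩ := heq b b' eb
    rw [hl, hzl z hz, mul_one, hr, hzr w hw, mul_one]
  have hB : ∀ a d, τ (f (U a) (σ (U d))) = f (U a) (σ (U d)) := fun a d => by
    rw [hτmap, hts, hmod _ (U a) _ (σ.symm (U d)) (hτU a)
      (by rw [← eσ', hτU, eσ'])]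
    have e : π (σ.symm (U d)) = π (U (σ d * σ.symm d) * σ (U d)) := by
      have e1 : τ (σ.symm d) = σ (τ d) := by
        have := hts (σ.symm d)
        rw [σ.apply_symm_apply] at this
        rw [this, σ.apply_symm_apply]
      simp only [U, map_mul, hts, e1]
      calc π (σ.symm d) * π (σ.symm (τ d))
          = π (σ.symm d) * π (σ.symm (τ d)) * ((π (σ d) * π (σ d)) * (π (σ (τ d)) * π (σ (τ d)))) := by
            rw [hQ, hQ, one_mul, mul_one]
        _ = _ := by ac_rfl
    rw [hmod _ (U a) _ _ rfl e, hr, hUU, one_mul]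
  have hall : ∀ x y, τ (f x y) = f x y := fun x y => by
    obtain ⟨a, b, z, hz, rfl⟩ := hdec x
    obtain ⟨c, d, z', hz', rfl⟩ := hdec y
    have h1 : f (σ (U b)) (σ (U d)) = 1 := by
      show ⁅σ (U b), σ (U d)⁆ = 1
      rw [← map_commutatorElement, show ⁅U b, U d⁆ = 1 from hUU b d, map_one]
    simp only [hl, hr, hzl z hz, hzr z' hz', mul_one, one_mul, hUU, h1, hsym (U c), map_mul, map_one, hB]
  have hfix : ∀ u, τ u = u → τ (σ u) = σ u → u = 1 := fun u h1 h2 => by
    rw [hts, h1] at h2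
    exact hfpf2 u (by rw [← h2, σ.apply_symm_apply])
  have hab : ∀ x y : N, x * y = y * x := fun x y => by
    refine commutatorElement_eq_one_iff_mul_comm.mp (hfix _ (hall x y) ?_)
    rw [show σ ⁅x, y⁆ = f (σ x) (σ y) from map_commutatorElement _ _ _]
    exact hall _ _
  refine ⟨hab, fun x => ?_⟩
  have hsq : ∀ x, τ (x ^ 2) = x ^ 2 := fun x => by
    have h := hq x
    rw [(show Commute x (τ x) from hab _ _).mul_pow] at h
    have hK : x ^ 2 ∈ K := hmemK _ (by rw [map_pow]; exact h2 _)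
    rw [map_pow, eq_inv_of_mul_eq_one_right h]
    exact inv_eq_of_mul_eq_one_right hK.2
  exact hfix _ (hsq x) (by rw [map_pow σ]; exact hsq _)

/-- Conjugation on an invariant subgroup. -/
def conjOn {G : Type*} [Group G] (D : Subgroup G) (g : G)
    (h : ∀ d ∈ D, g * d * g⁻¹ ∈ D) (h' : ∀ d ∈ D, g⁻¹ * d * g ∈ D) : D ≃* D where
  toFun d := ⟨g * d * g⁻¹, h _ d.2⟩
  invFun d := ⟨g⁻¹ * d * g, h' _ d.2⟩
  left_inv d := Subtype.ext (by simp [mul_assoc])
  right_inv d := Subtype.ext (by simp [mul_assoc])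
  map_mul' a b := Subtype.ext (by simp [mul_assoc])

/-- An inverted fixed-point-free element forces an elementary abelian subgroup. -/
theorem elementary_of_inverted {G : Type*} [Group G] [Finite G] {D : Subgroup G} (hD : IsPGroup 2 D)
    {y t : G} (hy : y ∈ Subgroup.normalizer (D : Set G)) (ht : t ∈ Subgroup.normalizer (D : Set G))
    (hfpf : ∀ d ∈ D, y * d = d * y → d = 1) (hfpf2 : ∀ d ∈ D, y * y * d = d * (y * y) → d = 1)
    (ht2 : t * t = 1) (hinv : t * y * t = y⁻¹) (hexp : ∀ d ∈ D, (d * t) ^ 4 = 1) :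
    (∀ a ∈ D, ∀ b ∈ D, a * b = b * a) ∧ ∀ a ∈ D, a * a = 1 := by
  have hmem : ∀ g ∈ Subgroup.normalizer (D : Set G), ∀ d ∈ D, g * d * g⁻¹ ∈ D :=
    fun g hg d hd => (Subgroup.mem_normalizer_iff.1 hg d).1 hd
  have hmem' : ∀ g ∈ Subgroup.normalizer (D : Set G), ∀ d ∈ D, g⁻¹ * d * g ∈ D :=
    fun g hg d hd => by simpa using hmem g⁻¹ (inv_mem hg) d hd
  have hti : t⁻¹ = t := inv_eq_of_mul_eq_one_right ht2
  obtain ⟨h1, h2⟩ := elementary_aux _ rfl hD (conjOn D y (hmem y hy) (hmem' y hy))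
    (conjOn D t (hmem t ht) (hmem' t ht))
    (fun g hg => Subtype.ext (hfpf _ g.2 (mul_inv_eq_iff_eq_mul.1 (congrArg Subtype.val hg))))
    (fun g hg => Subtype.ext (hfpf2 _ g.2 (mul_inv_eq_iff_eq_mul.1 (by
      have := congrArg Subtype.val hg
      simpa [conjOn, mul_assoc] using this))))
    (fun g => Subtype.ext (by
      show t * (y * g * y⁻¹) * t⁻¹ = y⁻¹ * (t * g * t⁻¹) * y
      have e : t * y = y⁻¹ * t := by
        rw [← mul_left_inj t, mul_assoc _ t t, ht2, mul_one, hinv]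
      have e' : y⁻¹ * t⁻¹ = t⁻¹ * y := by
        rw [← mul_inv_rev, ← inv_inj, inv_inv, mul_inv_rev, inv_inv, e]
      calc t * (y * g * y⁻¹) * t⁻¹ = (t * y) * g * (y⁻¹ * t⁻¹) := by group
        _ = _ := by rw [e, e']; group))
    (fun g => Subtype.ext (by
      show t * (t * g * t⁻¹) * t⁻¹ = g
      rw [hti, show t * (t * g * t) * t = t * t * g * (t * t) by group, ht2, one_mul, mul_one]))
    (fun g => Subtype.ext (by
      show ((g : G) * (t * g * t⁻¹)) ^ 2 = 1
      rw [hti, show ((g : G) * (t * g * t)) = (g * t) ^ 2 by rw [pow_two]; group, ← pow_mul]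
      exact hexp _ g.2))
  exact ⟨fun a ha b hb => congrArg Subtype.val (h1 ⟨a, ha⟩ ⟨b, hb⟩),
    fun a ha => by have := congrArg Subtype.val (h2 ⟨a, ha⟩); simpa [pow_two] using this⟩

end CfsgLib.OneToFive
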