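import Cfsg.Agent.Lib.OneToFive.Fpf
import Cfsg.Agent.Lib.OneToFive.Basic
import Cfsg.Agent.Lib.Invol.Dihedral
import Cfsg.Agent.Lib.Transfer.Sylow

/-!
A maximal intersection of two Sylow `2`-subgroups in a group with element orders at most five: it is
elementary abelian, its own centralizer, and the quotient of its normalizer either has Sylow
`2`-subgroups of order two or is the alternating group of degree five.
-/

set_option autoImplicit false
set_option linter.style.haveILetI false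

namespace CfsgLib.OneToFive

variable {G : Type*} [Group G] [Finite G]

/-- A maximal nontrivial intersection of two Sylow `2`-subgroups. -/
structure MaxInt (D : Subgroup G) : Prop where
  ne_bot : D ≠ ⊥
  pair : ∃ S R : Sylow 2 G, S ≠ R ∧ D = (S : Subgroup G) ⊓ R
  max : ∀ P Q : Sylow 2 G, P ≠ Q → Nat.card ((P : Subgroup G) ⊓ Q : Subgroup G) ≤ Nat.card D

theorem exists_maxInt (h : ∃ S R : Sylow 2 G, S ≠ R ∧ (S : Subgroup G) ⊓ R ≠ ⊥) :
    ∃ D : Subgroup G, MaxInt D := by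
  classical
  haveI := Fintype.ofFinite (Sylow 2 G)
  obtain ⟨S, R, hSR, hne⟩ := h
  obtain ⟨⟨P, Q⟩, hPQ, hmax⟩ := Finset.exists_max_image
    (Finset.univ.filter fun p : Sylow 2 G × Sylow 2 G => p.1 ≠ p.2)
    (fun p => Nat.card ((p.1 : Subgroup G) ⊓ p.2 : Subgroup G)) ⟨(S, R), by simp [hSR]⟩
  simp only [Finset.mem_filter, Finset.mem_univ, true_and] at hPQ hmax
  refine ⟨(P : Subgroup G) ⊓ Q, fun e => hne ?_, ⟨P, Q, hPQ, rfl⟩,
    fun P' Q' hne' => hmax (P', Q') hne'⟩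
  have := hmax (S, R) hSR
  dsimp only at this
  rw [e, Subgroup.card_bot] at this
  exact Subgroup.card_eq_one.1 (le_antisymm this Nat.card_pos)

/-- A `2`-element normalizing a Sylow `2`-subgroup lies in it. -/
theorem mem_sylow_of_normalizes (h : Spec G) (Q : Sylow 2 G) {x : G} (hx : x ^ 4 = 1)
    (hn : x ∈ Subgroup.normalizer ((Q : Subgroup G) : Set G)) : x ∈ (Q : Subgroup G) := by
  have hp : IsPGroup 2 (Subgroup.zpowers x) := fun z => ⟨2, Subtype.ext (by
    obtain ⟨k, hk⟩ := z.2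
    rw [Subgroup.coe_pow, Subgroup.coe_one, ← hk, show (2 : ℕ) ^ 2 = 4 by norm_num, ← zpow_natCast,
      ← zpow_mul, mul_comm, zpow_mul, zpow_natCast, hx, one_zpow])⟩
  have hle : Subgroup.zpowers x ≤ Subgroup.zpowers x ⊓ Subgroup.normalizer ((Q : Subgroup G) : Set G) :=
    le_inf le_rfl ((Subgroup.zpowers_le).2 hn)
  exact ((hp.inf_normalizer_sylow Q).le (hle (Subgroup.mem_zpowers x))).2

variable {D : Subgroup G} (hG : Spec G) (M : MaxInt D)
include hG M

theorem isPGroup_int : IsPGroup 2 D := by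
  obtain ⟨S, R, -, e⟩ := M.pair
  exact e ▸ S.2.to_le inf_le_left

omit hG in
theorem sylow_eq {P Q : Sylow 2 G} (hP : D ≤ P) (hQ : D ≤ Q) {x : G} (hxD : x ∉ D)
    (hxP : x ∈ (P : Subgroup G)) (hxQ : x ∈ (Q : Subgroup G)) : P = Q := by
  by_contra hne
  refine hxD ?_
  rw [Subgroup.eq_of_le_of_card_ge (le_inf hP hQ) (M.max P Q hne)]
  exact ⟨hxP, hxQ⟩

omit hG in
theorem exists_other (S : Sylow 2 G) : ∃ R : Sylow 2 G, R ≠ S ∧ D ≤ R := by
  obtain ⟨P, Q, hPQ, e⟩ := M.pair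
  rcases eq_or_ne P S with rfl | hP
  · exact ⟨Q, hPQ.symm, e ▸ inf_le_right⟩
  · exact ⟨P, hP, e ▸ inf_le_left⟩

omit hG in
theorem ne_sylow {S : Sylow 2 G} (hS : D ≤ S) : D < (S : Subgroup G) := by
  refine lt_of_le_of_ne hS fun e => ?_
  obtain ⟨P, Q, hPQ, hD⟩ := M.pair
  have hP : (S : Subgroup G) ≤ P := e ▸ hD ▸ inf_le_left
  have hQ : (S : Subgroup G) ≤ Q := e ▸ hD ▸ inf_le_right
  exact hPQ (Sylow.ext ((S.3 P.2 hP).trans (S.3 Q.2 hQ).symm))

/-- Every Sylow subgroup over `D` contains an involution modulo `D` normalizing `D`. -/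
theorem exists_sq_mem {R : Sylow 2 G} (hR : D ≤ R) :
    ∃ b : G, b ∈ (R : Subgroup G) ∧ b ∈ Subgroup.normalizer (D : Set G) ∧ b ∉ D ∧ b * b ∈ D := by
  obtain ⟨x, hx, hxD⟩ := SetLike.exists_of_lt (Transfer.lt_inf_normalizer R.2 (ne_sylow M hR))
  by_cases h2 : x * x ∈ D
  · exact ⟨x, hx.1, hx.2, hxD, h2⟩
  refine ⟨x * x, mul_mem hx.1 hx.1, mul_mem hx.2 hx.2, h2, ?_⟩
  rw [show x * x * (x * x) = x ^ 4 by simp [pow_succ, mul_assoc], pow_four_of_two_group hG R.2 hx.1]
  exact one_mem D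

theorem two_fpf {g d : G} (hg : g ^ 3 = 1 ∨ g ^ 5 = 1) (hg1 : g ≠ 1) (hd : d ∈ D)
    (hc : g * d = d * g) : d = 1 :=
  (hG.not_commute (show Commute d g from hc.symm) (pow_four_of_two_group hG (isPGroup_int hG M) hd) hg).resolve_right hg1

omit M in
theorem sq_ne_one {g : G} (hg : g ^ 3 = 1 ∨ g ^ 5 = 1) (hg1 : g ≠ 1) :
    ((g * g) ^ 3 = 1 ∨ (g * g) ^ 5 = 1) ∧ g * g ≠ 1 := by
  refine ⟨hg.imp (fun e => ?_) (fun e => ?_), fun e => hg1 ?_⟩
  · rw [(Commute.refl g).mul_pow, e, one_mul]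
  · rw [(Commute.refl g).mul_pow, e, one_mul]
  · rcases hg with h | h
    · rwa [show g ^ 3 = g * g * g by simp [pow_succ, mul_assoc], e, one_mul] at h
    · rwa [show g ^ 5 = g * g * (g * g) * g by simp [pow_succ, mul_assoc], e, one_mul, one_mul] at h

/-- An involution modulo `D` inverting an element of order three or five modulo `D` can be chosen an
involution inverting it. -/
theorem exists_inverter {a g : G} (ha : a ∈ Subgroup.normalizer (D : Set G)) (ha2 : a * a ∈ D)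
    (hgN : g ∈ Subgroup.normalizer (D : Set G)) (hg : g ^ 3 = 1 ∨ g ^ 5 = 1) (hg1 : g ≠ 1)
    (hag : g * (a * g * a⁻¹) ∈ D) :
    ∃ d ∈ D, d * a * (d * a) = 1 ∧ d * a * g * (d * a) = g⁻¹ := by
  have hgi : g⁻¹ ≠ 1 := fun e => hg1 (inv_eq_one.1 e)
  have hg' : g⁻¹ ^ 3 = 1 ∨ g⁻¹ ^ 5 = 1 := hg.imp (fun e => by rw [inv_pow, e, inv_one]) (fun e => by rw [inv_pow, e, inv_one])
  have hinj : Function.Injective (fun d : D => (⟨g * ((d : G) * g⁻¹ * (d : G)⁻¹), by
      have h := (Subgroup.mem_normalizer_iff.1 hgN (d : G)).1 d.2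
      rw [show g * ((d : G) * g⁻¹ * (d : G)⁻¹) = g * (d : G) * g⁻¹ * (d : G)⁻¹ by group]
      exact mul_mem h (inv_mem d.2)⟩ : D)) := by
    intro d e h
    have h' := congrArg Subtype.val h
    simp only [mul_right_inj] at h'
    have hc : g⁻¹ * ((e : G)⁻¹ * d) = ((e : G)⁻¹ * d) * g⁻¹ := by
      calc g⁻¹ * ((e : G)⁻¹ * d) = (e : G)⁻¹ * ((e : G) * g⁻¹ * (e : G)⁻¹) * d := by group
        _ = _ := by rw [← h']; group
    exact Subtype.ext (inv_mul_eq_one.1 (two_fpf hG M hg' hgi (mul_mem (inv_mem e.2) d.2) hc)).symm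
  obtain ⟨d, hd⟩ := (Finite.injective_iff_surjective.1 hinj) ⟨_, hag⟩
  have hd' : (d : G) * g⁻¹ * (d : G)⁻¹ = a * g * a⁻¹ := mul_left_cancel (congrArg Subtype.val hd)
  set u := (d : G)⁻¹ * a with hu
  have hinv : u * g * u⁻¹ = g⁻¹ := by
    rw [hu, show (d : G)⁻¹ * a * g * ((d : G)⁻¹ * a)⁻¹ = (d : G)⁻¹ * (a * g * a⁻¹) * d by group, ← hd']
    group
  have hu2D : u * u ∈ D := by
    rw [show u * u = (d : G)⁻¹ * (a * (d : G)⁻¹ * a⁻¹) * (a * a) by rw [hu]; group]
    exact mul_mem (mul_mem (inv_mem d.2) ((Subgroup.mem_normalizer_iff.1 ha _).1 (inv_mem d.2))) ha2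
  have hu2 : u * u = 1 := two_fpf hG M hg hg1 hu2D (by
    have e : u * u * g * (u * u)⁻¹ = g := by
      rw [show u * u * g * (u * u)⁻¹ = u * (u * g * u⁻¹) * u⁻¹ by group, hinv, ← conj_inv, hinv, inv_inv]
    exact (mul_inv_eq_iff_eq_mul.1 e).symm)
  refine ⟨(d : G)⁻¹, inv_mem d.2, hu2, ?_⟩
  have := hinv
  rwa [inv_eq_of_mul_eq_one_right hu2] at this

/-- The group generated by `D` and a `2`-element normalizing it lies in a Sylow subgroup. -/
theorem exists_sylow {w : G} (hw : w ∈ Subgroup.normalizer (D : Set G)) {k : ℕ} (hk : w ^ (2 ^ k) = 1) :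
    ∃ Q : Sylow 2 G, D ≤ Q ∧ w ∈ (Q : Subgroup G) := by
  have hp : IsPGroup 2 (Subgroup.zpowers w) := fun z => ⟨k, Subtype.ext (by
    obtain ⟨i, hi⟩ := z.2
    rw [Subgroup.coe_pow, Subgroup.coe_one, ← hi, ← zpow_natCast, ← zpow_mul, mul_comm, zpow_mul, zpow_natCast,
      hk, one_zpow])⟩
  obtain ⟨Q, hQ⟩ := (hp.to_sup_of_normal_right' (isPGroup_int hG M) ((Subgroup.zpowers_le).2 hw)).exists_le_sylow
  exact ⟨Q, le_sup_right.trans hQ, hQ (le_sup_left (a := Subgroup.zpowers w) (Subgroup.mem_zpowers w))⟩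

/-- An involution modulo `D` inverts an element of order three or five. -/
theorem exists_inverted {S : Sylow 2 G} (hS : D ≤ S) {a : G} (haS : a ∈ (S : Subgroup G))
    (haN : a ∈ Subgroup.normalizer (D : Set G)) (haD : a ∉ D) (ha2 : a * a ∈ D) :
    ∃ d ∈ D, ∃ g ∈ Subgroup.normalizer (D : Set G), (g ^ 3 = 1 ∨ g ^ 5 = 1) ∧ g ≠ 1 ∧
      d * a * (d * a) = 1 ∧ d * a * g * (d * a) = g⁻¹ := by
  set N := Subgroup.normalizer (D : Set G) with hN
  obtain ⟨R, hRS, hR⟩ := exists_other M S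
  obtain ⟨b, hbR, hbN, hbD, hb2⟩ := exists_sq_mem hG M hR
  haveI : (D.subgroupOf N).Normal := Subgroup.normal_in_normalizer
  set π := QuotientGroup.mk' (D.subgroupOf N) with hπ
  have hmem : ∀ x : N, π x = 1 ↔ (x : G) ∈ D := fun x => by
    rw [hπ, QuotientGroup.mk'_apply, QuotientGroup.eq_one_iff]; rfl
  set A : N := ⟨a, haN⟩
  set B : N := ⟨b, hbN⟩
  have hA : orderOf (π A) = 2 := orderOf_eq_two_of (by rw [← map_mul, hmem]; exact ha2)
    (fun e => haD ((hmem A).1 e))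
  have hB : orderOf (π B) = 2 := orderOf_eq_two_of (by rw [← map_mul, hmem]; exact hb2)
    (fun e => hbD ((hmem B).1 e))
  have hpow : ∀ x : N, π x ^ 4 = 1 → ∃ k : ℕ, (x : G) ^ (2 ^ k) = 1 := fun x hx => by
    rw [← map_pow, hmem] at hx
    refine ⟨4, ?_⟩
    rw [show (2 : ℕ) ^ 4 = 4 * 4 by norm_num, pow_mul]
    exact pow_four_of_two_group hG (isPGroup_int hG M) hx
  have key : ∀ (P : Sylow 2 G), D ≤ P → ∀ X : N, (X : G) ∈ (P : Subgroup G) → (X : G) ∉ D →
      ∀ W : N, π W ≠ 1 → π W * π W = 1 → Commute (π W) (π X) → π X * π X = 1 →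
      (W : G) ∈ (P : Subgroup G) := by
    intro P hP X hXP hXD W hW1 hW hc hX
    have hcl : IsPGroup 2 ((Subgroup.zpowers (π X) ⊔ Subgroup.zpowers (π W)).comap π : Subgroup N) := by
      have hle : Subgroup.zpowers (π W) ≤ Subgroup.normalizer (Subgroup.zpowers (π X) : Set (N ⧸ _)) := by
        refine (Subgroup.zpowers_le).2 ?_
        rw [Subgroup.mem_normalizer_iff]
        intro z
        have hz : ∀ z ∈ Subgroup.zpowers (π X), π W * z * (π W)⁻¹ = z := by
          rintro _ ⟨i, rfl⟩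
          rw [(hc.zpow_right i).eq, mul_inv_cancel_right]
        refine ⟨fun h => by rw [hz z h]; exact h, fun h => ?_⟩
        have := hz _ h
        rw [mul_left_inj, mul_right_inj] at this
        exact this ▸ h
      have hp : ∀ v : N ⧸ D.subgroupOf N, v * v = 1 → IsPGroup 2 (Subgroup.zpowers v) :=
        fun v hv z => ⟨1, Subtype.ext (by
          obtain ⟨i, hi⟩ := z.2
          rw [Subgroup.coe_pow, Subgroup.coe_one, ← hi, pow_one, pow_two, ← (Commute.refl v).mul_zpow, hv, one_zpow])⟩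
      refine IsPGroup.comap_of_ker_isPGroup (IsPGroup.to_sup_of_normal_left' (hp _ hX) (hp _ hW) hle) π ?_
      rw [hπ, QuotientGroup.ker_mk']
      exact (isPGroup_int hG M).comap_of_injective N.subtype Subtype.coe_injective
    obtain ⟨Q, hQ⟩ := (hcl.map N.subtype).exists_le_sylow
    have hQX : (X : G) ∈ (Q : Subgroup G) :=
      hQ ⟨X, Subgroup.mem_sup_left (Subgroup.mem_zpowers _), rfl⟩
    have hQW : (W : G) ∈ (Q : Subgroup G) :=
      hQ ⟨W, Subgroup.mem_sup_right (Subgroup.mem_zpowers _), rfl⟩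
    have hQD : D ≤ Q := fun x hx => hQ ⟨⟨x, Subgroup.le_normalizer hx⟩, by
      show π ⟨x, _⟩ ∈ Subgroup.zpowers (π X) ⊔ Subgroup.zpowers (π W)
      rw [(hmem ⟨x, Subgroup.le_normalizer hx⟩).2 hx]; exact one_mem _, rfl⟩
    exact sylow_eq M hP hQD hXD hXP hQX ▸ hQW
  have hodd : Odd (orderOf (π A * π B)) := by
    rw [← Nat.not_even_iff_odd]
    intro he
    obtain ⟨w, hw, hwA, hwB⟩ := Invol.exists_common_commuting_invol hA hB he
    obtain ⟨W, rfl⟩ := QuotientGroup.mk'_surjective _ w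
    have hw2 : π W * π W = 1 := by rw [← pow_two, ← hw, pow_orderOf_eq_one]
    have hW1 : π W ≠ 1 := fun e => by
      rw [show QuotientGroup.mk' (D.subgroupOf N) W = π W from rfl, e, orderOf_one] at hw
      norm_num at hw
    have hWD : (W : G) ∉ D := fun e => hW1 ((hmem W).2 e)
    have h1 := key S hS A haS haD W hW1 hw2 hwA (Invol.mul_self_of_orderOf_two hA)
    have h2 := key R hR B hbR hbD W hW1 hw2 hwB (Invol.mul_self_of_orderOf_two hB)
    exact hRS (sylow_eq M hR hS hWD h2 h1)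
  have hne : π A * π B ≠ 1 := fun e => by
    rw [← map_mul, hmem] at e
    have : b ∈ (S : Subgroup G) := by
      have := mul_mem (inv_mem haS) (hS e)
      simpa [A, B] using this
    exact hRS (sylow_eq M hR hS hbD hbR this)
  have hg : (a * b) ^ 3 = 1 ∨ (a * b) ^ 5 = 1 := by
    rcases hG (a * b) with e | e | e
    · exact Or.inl e
    · exfalso
      have h4 : (π A * π B) ^ 4 = 1 := by
        rw [← map_mul, ← map_pow, hmem]
        show (a * b) ^ 4 ∈ D
        rw [e]; exact one_mem D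
      refine hne (orderOf_eq_one_iff.1 (Nat.eq_one_of_dvd_coprimes ?_ dvd_rfl (orderOf_dvd_of_pow_eq_one h4)))
      exact (Nat.Coprime.pow_right 2 (Nat.coprime_two_right.2 hodd) : Nat.Coprime _ (2 ^ 2))
    · exact Or.inr e
  have hg1 : a * b ≠ 1 := fun e => hne (by
    rw [← map_mul, hmem]; show a * b ∈ D; rw [e]; exact one_mem D)
  obtain ⟨d, hd, h1, h2⟩ := exists_inverter hG M haN ha2 (mul_mem haN hbN) hg hg1 (by
    rw [show a * b * (a * (a * b) * a⁻¹) = a * (b * (a * a) * b⁻¹ * (b * b)) * a⁻¹ by group]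
    exact (Subgroup.mem_normalizer_iff.1 haN _).1 (mul_mem ((Subgroup.mem_normalizer_iff.1 hbN _).1 ha2) hb2))
  exact ⟨d, hd, _, mul_mem haN hbN, hg, hg1, h1, h2⟩

/-- The intersection is elementary abelian. -/
theorem elementary : (∀ x ∈ D, ∀ y ∈ D, x * y = y * x) ∧ ∀ x ∈ D, x * x = 1 := by
  obtain ⟨S, R, -, e⟩ := M.pair
  have hS : D ≤ S := e ▸ inf_le_left
  obtain ⟨a, haS, haN, haD, ha2⟩ := exists_sq_mem hG M hS
  obtain ⟨d, hd, g, hgN, hg, hg1, h1, h2⟩ := exists_inverted hG M hS haS haN haD ha2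
  obtain ⟨hg2, hg21⟩ := sq_ne_one hG hg hg1
  exact elementary_of_inverted (isPGroup_int hG M) hgN (mul_mem (Subgroup.le_normalizer hd) haN)
    (fun x hx => two_fpf hG M hg hg1 hx) (fun x hx => two_fpf hG M hg2 hg21 hx) h1 h2
    (fun x hx => pow_four_of_two_group hG S.2 (mul_mem (hS hx) (mul_mem (hS hd) haS)))

theorem cent_le : Subgroup.centralizer (D : Set G) ≤ D := by
  obtain ⟨z, hz, hz1⟩ := D.ne_bot_iff_exists_ne_one.1 M.ne_bot |> fun ⟨⟨z, hz⟩, h⟩ =>
    (⟨z, hz, fun e => h (Subtype.ext e)⟩ : ∃ z, z ∈ D ∧ z ≠ 1)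
  intro c hc
  have hc' : ∀ d ∈ D, d * c = c * d := Subgroup.mem_centralizer_iff.1 hc
  have h4 : c ^ 4 = 1 := by
    have h1 := pow_four_of_two_group hG (hG.cent_two (pow_four_of_two_group hG (isPGroup_int hG M) hz) hz1)
      (x := c) (Subgroup.mem_centralizer_singleton_iff.2 (hc' z hz).symm)
    exact h1
  have hcN : c ∈ Subgroup.normalizer (D : Set G) := Subgroup.mem_normalizer_iff.2 fun d =>
    ⟨fun hd => by rw [← hc' d hd, mul_inv_cancel_right]; exact hd, fun hd => by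
      have e := hc' _ hd
      have e' : d = c * d * c⁻¹ := mul_left_cancel (a := c) (by
        calc c * d = c * d * c⁻¹ * c := by group
          _ = _ := e)
      have this : c * d * c⁻¹ = d := e'.symm
      rwa [this] at hd⟩
  by_contra hcD
  have hp : IsPGroup 2 (Subgroup.centralizer (D : Set G)) :=
    (hG.cent_two (pow_four_of_two_group hG (isPGroup_int hG M) hz) hz1).to_le
      (Subgroup.centralizer_le (Set.singleton_subset_iff.2 hz))
  obtain ⟨P, R, hPR, hD⟩ := M.pair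
  have hall : ∀ Q : Sylow 2 G, D ≤ Q → c ∈ (Q : Subgroup G) := by
    intro Q hQ
    obtain ⟨x, hxQ, hxN, hxD, -⟩ := exists_sq_mem hG M hQ
    have hT : IsPGroup 2 ((Q : Subgroup G) ⊓ Subgroup.normalizer (D : Set G) : Subgroup G) := Q.2.to_le inf_le_left
    have hle : ((Q : Subgroup G) ⊓ Subgroup.normalizer (D : Set G)) ≤
        Subgroup.normalizer (Subgroup.centralizer (D : Set G) : Set G) := by
      have key : ∀ y ∈ Subgroup.normalizer (D : Set G), ∀ k ∈ Subgroup.centralizer (D : Set G),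
          y * k * y⁻¹ ∈ Subgroup.centralizer (D : Set G) := fun y hy k hk =>
        Subgroup.mem_centralizer_iff.2 fun d hd => by
          have h1 := Subgroup.mem_centralizer_iff.1 hk _
            ((Subgroup.mem_normalizer_iff.1 (inv_mem hy) d).1 hd)
          rw [inv_inv] at h1
          calc d * (y * k * y⁻¹) = y * ((y⁻¹ * d * y) * k) * y⁻¹ := by group
            _ = _ := by rw [h1]; group
      intro y hy
      refine Subgroup.mem_normalizer_iff.2 fun k => ⟨key y hy.2 k, fun hk => ?_⟩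
      have := key y⁻¹ (inv_mem hy.2) _ hk
      simpa [mul_assoc] using this
    obtain ⟨Q', hQ'⟩ := (hT.to_sup_of_normal_right' hp hle).exists_le_sylow
    have := sylow_eq M hQ ((le_inf hQ Subgroup.le_normalizer).trans (le_sup_left.trans hQ')) hxD hxQ
      (hQ' (Subgroup.mem_sup_left ⟨hxQ, hxN⟩))
    rw [this]
    exact hQ' (Subgroup.mem_sup_right hc)
  exact hcD (hD ▸ ⟨hall P (hD ▸ inf_le_left), hall R (hD ▸ inf_le_right)⟩)

/-- An involution modulo `D` centralizes a subgroup of order the square root of that of `D`. -/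
theorem half {S : Sylow 2 G} (hS : D ≤ S) {a : G} (haS : a ∈ (S : Subgroup G))
    (haN : a ∈ Subgroup.normalizer (D : Set G)) (haD : a ∉ D) (ha2 : a * a ∈ D) :
    Nat.card (D ⊓ Subgroup.centralizer ({a} : Set G) : Subgroup G) ^ 2 = Nat.card D := by
  obtain ⟨hcomm, hsq⟩ := elementary hG M
  obtain ⟨d, hd, g, hgN, hg, hg1, h1, h2⟩ := exists_inverted hG M hS haS haN haD ha2
  obtain ⟨hg2, hg21⟩ := sq_ne_one hG hg hg1
  have huN : d * a ∈ Subgroup.normalizer (D : Set G) := mul_mem (Subgroup.le_normalizer hd) haN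
  have hmem : ∀ x ∈ D, a * x * a⁻¹ ∈ D := fun x hx => (Subgroup.mem_normalizer_iff.1 haN x).1 hx
  have heq : ∀ x ∈ D, d * a * x * (d * a)⁻¹ = a * x * a⁻¹ := fun x hx => by
    rw [show d * a * x * (d * a)⁻¹ = d * (a * x * a⁻¹) * d⁻¹ by group, hcomm d hd _ (hmem x hx),
      mul_inv_cancel_right]
  set C := D ⊓ Subgroup.centralizer ({a} : Set G) with hC
  have hCmem : ∀ {x}, x ∈ C ↔ x ∈ D ∧ a * x * a⁻¹ = x := fun {x} => by
    rw [hC, Subgroup.mem_inf, Subgroup.mem_centralizer_singleton_iff]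
    exact and_congr_right fun _ => ⟨fun e => by rw [← e, mul_inv_cancel_right], fun e =>
      (mul_inv_eq_iff_eq_mul.1 e).symm⟩
  have hCg : ∀ x ∈ C, g * x * g⁻¹ ∈ C → x = 1 := fun x hx hx' => by
    obtain ⟨hxD, e1⟩ := hCmem.1 hx
    obtain ⟨hxD', e2⟩ := hCmem.1 hx'
    rw [← heq x hxD] at e1
    rw [← heq _ hxD', inv_eq_of_mul_eq_one_right h1] at e2
    rw [inv_eq_of_mul_eq_one_right h1] at e1
    refine two_fpf hG M hg2 hg21 hxD ?_
    have e3 : g⁻¹ * x * g = g * x * g⁻¹ := by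
      calc g⁻¹ * x * g = (d * a * g * (d * a)) * (d * a * x * (d * a)) * (d * a * g * (d * a))⁻¹ := by
            rw [h2, e1, inv_inv]
        _ = d * a * g * (d * a * (d * a)) * x * g⁻¹ * (d * a)⁻¹ := by group
        _ = _ := by rw [h1, mul_one, inv_eq_of_mul_eq_one_right h1]; conv_rhs => rw [← e2]
                    group
    calc g * g * x = g * (g * x * g⁻¹) * g := by group
      _ = g * (g⁻¹ * x * g) * g := by rw [e3]
      _ = _ := by group
  have hle : Nat.card C * Nat.card C ≤ Nat.card D := by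
    rw [← Nat.card_prod]
    refine Nat.card_le_card_of_injective (fun p : C × C =>
      (⟨(p.1 : G) * (g * p.2 * g⁻¹), mul_mem p.1.2.1 ((Subgroup.mem_normalizer_iff.1 hgN _).1 p.2.2.1)⟩ : D)) ?_
    rintro ⟨x, y⟩ ⟨x', y'⟩ e
    have e' : (x : G) * (g * y * g⁻¹) = x' * (g * y' * g⁻¹) := congrArg Subtype.val e
    have e'' : g * ((y : G) * (y' : G)⁻¹) * g⁻¹ = (x : G)⁻¹ * x' := by
      calc g * ((y : G) * (y' : G)⁻¹) * g⁻¹ = (x : G)⁻¹ * ((x : G) * (g * y * g⁻¹)) * (g * y' * g⁻¹)⁻¹ := by group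
        _ = _ := by rw [e']; group
    have hy := hCg _ (mul_mem y.2 (inv_mem y'.2)) (e'' ▸ mul_mem (inv_mem x.2) x'.2)
    rw [hy, mul_one, mul_inv_cancel] at e''
    exact Prod.ext (Subtype.ext (inv_mul_eq_one.1 e''.symm)) (Subtype.ext (mul_inv_eq_one.1 hy))
  let φ : D →* D :=
    { toFun := fun x => ⟨(x : G) * (a * x * a⁻¹), mul_mem x.2 (hmem x x.2)⟩
      map_one' := Subtype.ext (by simp)
      map_mul' := fun x y => Subtype.ext (by
        show (x : G) * y * (a * (x * y) * a⁻¹) = x * (a * x * a⁻¹) * (y * (a * y * a⁻¹))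
        rw [show a * ((x : G) * y) * a⁻¹ = (a * x * a⁻¹) * (a * y * a⁻¹) by group, mul_assoc (x : G) (y : G),
          ← mul_assoc (y : G), hcomm y y.2 _ (hmem x x.2)]
        group) }
  have hker : φ.ker = C.subgroupOf D := by
    ext x
    rw [MonoidHom.mem_ker, Subgroup.mem_subgroupOf, hCmem]
    refine ⟨fun e => ⟨x.2, ?_⟩, fun e => Subtype.ext ?_⟩
    · rw [← inv_eq_of_mul_eq_one_right (congrArg Subtype.val e : (x : G) * (a * x * a⁻¹) = 1)]
      exact inv_eq_of_mul_eq_one_right (hsq x x.2)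
    · show (x : G) * (a * x * a⁻¹) = 1
      rw [e.2, hsq x x.2]
  have hrange : φ.range ≤ C.subgroupOf D := by
    rintro _ ⟨x, rfl⟩
    refine Subgroup.mem_subgroupOf.2 (hCmem.2 ⟨(φ x).2, ?_⟩)
    show a * ((x : G) * (a * x * a⁻¹)) * a⁻¹ = x * (a * x * a⁻¹)
    have e : a * a * (x : G) * (a * a)⁻¹ = x := by rw [hcomm _ ha2 _ x.2, mul_inv_cancel_right]
    calc a * ((x : G) * (a * x * a⁻¹)) * a⁻¹ = (a * x * a⁻¹) * (a * a * x * (a * a)⁻¹) := by group
      _ = _ := by rw [e, hcomm _ (hmem x x.2) x x.2]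
  have hge : Nat.card D ≤ Nat.card C * Nat.card C := by
    have hcard : Nat.card (C.subgroupOf D) = Nat.card C :=
      Nat.card_congr (Subgroup.subgroupOfEquivOfLe inf_le_left).toEquiv
    rw [Subgroup.card_eq_card_quotient_mul_card_subgroup φ.ker,
      Nat.card_congr (QuotientGroup.quotientKerEquivRange φ).toEquiv, hker, hcard]
    exact Nat.mul_le_mul_right _ (hcard ▸ Subgroup.card_le_of_le hrange)
  rw [pow_two]; exact le_antisymm hle hge

/-- Every element of a Sylow subgroup normalizing `D` squares into `D`. -/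
theorem sq_mem {S : Sylow 2 G} (hS : D ≤ S) {x : G} (hxS : x ∈ (S : Subgroup G))
    (hxN : x ∈ Subgroup.normalizer (D : Set G)) : x * x ∈ D := by
  by_contra ha
  obtain ⟨hcomm, hsq⟩ := elementary hG M
  have hx4 := pow_four_of_two_group hG S.2 hxS
  have hhalf := half hG M hS (mul_mem hxS hxS) (mul_mem hxN hxN) ha (by
    rw [show x * x * (x * x) = x ^ 4 by simp [pow_succ, mul_assoc], hx4]; exact one_mem D)
  have hmem : ∀ e ∈ D, x * e * x⁻¹ ∈ D := fun e he => (Subgroup.mem_normalizer_iff.1 hxN e).1 he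
  let f : D →* D :=
    { toFun := fun d => ⟨(d : G) * (x * d * x⁻¹), mul_mem d.2 (hmem d d.2)⟩
      map_one' := Subtype.ext (by simp)
      map_mul' := fun d e => Subtype.ext (by
        show (d : G) * e * (x * (d * e) * x⁻¹) = d * (x * d * x⁻¹) * (e * (x * e * x⁻¹))
        rw [show x * ((d : G) * e) * x⁻¹ = (x * d * x⁻¹) * (x * e * x⁻¹) by group, mul_assoc (d : G) (e : G),
          ← mul_assoc (e : G), hcomm e e.2 _ (hmem d d.2)]
        group) }
  set a := x * x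
  have hff : ∀ d : D, ((f (f d) : D) : G) = d * (a * d * a⁻¹) := fun d => by
    show (d : G) * (x * d * x⁻¹) * (x * (d * (x * d * x⁻¹)) * x⁻¹) = _
    rw [show (d : G) * (x * d * x⁻¹) * (x * (d * (x * d * x⁻¹)) * x⁻¹) =
      d * ((x * d * x⁻¹) * (x * d * x⁻¹)) * (a * d * a⁻¹) by simp only [a]; group, hsq _ (hmem d d.2), mul_one]
  have hfff : ∀ d : D, f (f (f d)) = 1 := fun d => Subtype.ext (by
    have e := pow_four_of_two_group hG S.2 (mul_mem (hS d.2) hxS)
    rw [show ((d : G) * x) ^ 4 = d * (x * d * x⁻¹) * (x * (x * d * x⁻¹) * x⁻¹) *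
      (x * (x * (x * d * x⁻¹) * x⁻¹) * x⁻¹) * x ^ 4 by simp [pow_succ, mul_assoc], hx4, mul_one] at e
    show ((f (f (f d)) : D) : G) = 1
    rw [hff (f d)]
    show (d : G) * (x * d * x⁻¹) * (a * ((d : G) * (x * d * x⁻¹)) * a⁻¹) = 1
    rw [show (d : G) * (x * d * x⁻¹) * (a * ((d : G) * (x * d * x⁻¹)) * a⁻¹) =
      d * (x * d * x⁻¹) * (x * (x * d * x⁻¹) * x⁻¹) * (x * (x * (x * d * x⁻¹) * x⁻¹) * x⁻¹) by
      simp only [a]; group]
    exact e)
  set g := f.comp f
  have hgker : Nat.card g.ker = Nat.card (D ⊓ Subgroup.centralizer ({a} : Set G) : Subgroup G) := by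
    refine Nat.card_congr ⟨fun d => ⟨((d : D) : G), ⟨(d : D).2, ?_⟩⟩, fun c => ⟨⟨c.1, c.2.1⟩, ?_⟩, fun _ => rfl,
      fun _ => rfl⟩
    · have e : ((d : D) : G) * (a * ((d : D) : G) * a⁻¹) = 1 := by
        rw [← hff]; exact congrArg Subtype.val (MonoidHom.mem_ker.1 d.2)
      refine Subgroup.mem_centralizer_singleton_iff.2 (mul_inv_eq_iff_eq_mul.1 ?_).symm
      rw [← inv_eq_of_mul_eq_one_right e, inv_eq_of_mul_eq_one_right (hsq _ (d : D).2)]
    · refine MonoidHom.mem_ker.2 (Subtype.ext ?_)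
      show ((f (f _) : D) : G) = 1
      rw [hff]
      show (c : G) * (a * c * a⁻¹) = 1
      rw [← Subgroup.mem_centralizer_singleton_iff.1 c.2.2, mul_inv_cancel_right, hsq _ c.2.1]
  set q := Nat.card (D ⊓ Subgroup.centralizer ({a} : Set G) : Subgroup G) with hq
  have hgr : Nat.card g.range = q := by
    have e := Subgroup.card_eq_card_quotient_mul_card_subgroup g.ker
    rw [Nat.card_congr (QuotientGroup.quotientKerEquivRange g).toEquiv, hgker, ← hhalf, pow_two] at e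
    exact (Nat.eq_of_mul_eq_mul_right Nat.card_pos e).symm
  set R := f.range
  have hR : Nat.card R ≤ q := by
    rw [← hgker]
    refine Subgroup.card_le_of_le ?_
    rintro _ ⟨d, rfl⟩
    exact MonoidHom.mem_ker.2 (hfff d)
  set f' := f.comp R.subtype
  have hr' : f'.range = g.range := by
    ext y
    constructor
    · rintro ⟨⟨_, d, rfl⟩, rfl⟩; exact ⟨d, rfl⟩
    · rintro ⟨d, rfl⟩; exact ⟨⟨_, d, rfl⟩, rfl⟩
  have hk : q ≤ Nat.card f'.ker := by
    rw [← hgr]
    refine Nat.card_le_card_of_injective (fun y : g.range => (⟨⟨y.1, ?_⟩, ?_⟩ : f'.ker)) ?_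
    · obtain ⟨d, hd⟩ := y.2; exact ⟨f d, hd⟩
    · obtain ⟨d, hd⟩ := y.2
      refine MonoidHom.mem_ker.2 ?_
      show f y.1 = 1
      rw [← hd]; exact hfff d
    · intro y y' e; exact Subtype.ext (congrArg (fun z : f'.ker => ((z : R) : D)) e)
  have e := Subgroup.card_eq_card_quotient_mul_card_subgroup f'.ker
  rw [Nat.card_congr (QuotientGroup.quotientKerEquivRange f').toEquiv, hr', hgr] at e
  have hq1 : q ≤ 1 := by
    have h1 : q * q ≤ q := by
      calc q * q ≤ q * Nat.card f'.ker := Nat.mul_le_mul_left _ hk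
        _ ≤ q := e ▸ hR
    exact Nat.le_of_mul_le_mul_left (by rw [mul_one]; exact h1) (hq ▸ Nat.card_pos)
  refine M.ne_bot (Subgroup.eq_bot_of_card_eq _ ?_)
  rw [← hhalf, le_antisymm hq1 (hq ▸ Nat.card_pos), one_pow]

end CfsgLib.OneToFive
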