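import Cfsg.Agent.Lib.OneToFive.Structure
import Cfsg.Agent.Lib.Gaschutz.Split

/-!
The extension of an irreducible elementary abelian two-group by the alternating group of degree five with element
orders at most five is unique: the nontrivial elements of the kernel correspond to the cosets of a four-group and
the addition is read off from the elements of order three.
-/

set_option autoImplicit false
set_option linter.style.haveILetI false

namespace CfsgLib.OneToFive

theorem cover_dec : ∀ p : Alt5, ¬ InV p → ∃ g : Alt5, g ^ 3 = 1 ∧ g ≠ 1 ∧ InV (g * p) := by decide +kernel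

theorem stab_dec : ∀ p : Alt5,
    (∀ v ∈ [1, aV, aS * aV * aS⁻¹, aV * (aS * aV * aS⁻¹)], (p * v) ^ 4 = 1) → InV p := by decide +kernel

theorem aS_prod : ∃ h k : Alt5, aS = h * aV * h⁻¹ * (k * aV * k⁻¹) := by decide +kernel

/-- A split extension of the module on the cosets of the four-group. -/
structure Model (G : Type*) [Group G] where
  R : Subgroup G
  normal : R.Normal
  comm : ∀ a ∈ R, ∀ b ∈ R, a * b = b * a
  sq : ∀ a ∈ R, a * a = 1
  ι : Alt5 →* G
  disj : ∀ p, ι p ∈ R → p = 1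
  gen : ∀ g, ∃ p, g * (ι p)⁻¹ ∈ R
  z : G
  zmem : z ∈ R
  zne : z ≠ 1
  zfix : ∀ v, InV v → ι v * z * (ι v)⁻¹ = z
  cover : ∀ r ∈ R, r ≠ 1 → ∃ p, ι p * z * (ι p)⁻¹ = r

namespace Model

variable {G : Type*} [Group G] [Finite G] (hG : Spec G) (m : Model G)

/-- The conjugate of the chosen element. -/
def act (p : Alt5) : G := m.ι p * m.z * (m.ι p)⁻¹

omit [Finite G] in
theorem act_mem (p : Alt5) : m.act p ∈ m.R := m.normal.conj_mem _ m.zmem _

omit [Finite G] in
theorem act_ne (p : Alt5) : m.act p ≠ 1 := fun e => m.zne (conj_eq_one_iff.1 e)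

omit [Finite G] in
theorem act_mul (p q : Alt5) : m.act (p * q) = m.ι p * m.act q * (m.ι p)⁻¹ := by
  simp only [act, map_mul]; group

omit [Finite G] in
theorem isPGroup (_hR : ∀ a ∈ m.R, a * a = 1) : IsPGroup 2 m.R := fun a => ⟨1, Subtype.ext (by
  rw [pow_one, pow_two]; exact _hR a a.2)⟩

include hG

/-- The stabilizer is the four-group. -/
theorem act_eq_iff (p q : Alt5) : m.act p = m.act q ↔ InV (q⁻¹ * p) := by
  have key : ∀ w : Alt5, m.act w = m.z ↔ InV w := fun w => by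
    refine ⟨fun e => stab_dec w fun v hv => ?_, fun h => m.zfix w h⟩
    have hv' : InV v := by
      simp only [List.mem_cons, List.not_mem_nil, or_false] at hv
      have hV := aS_basic.2.2.1
      rcases hv with rfl | rfl | rfl | rfl
      · exact vSub.one_mem
      · exact hV
      · exact inV_conj _ hV
      · exact inV_mul _ _ hV (inV_conj _ hV)
    have hC := hG.cent_invol (orderOf_eq_two_of (m.sq _ m.zmem) m.zne)
    have hmem : ∀ u, m.act u = m.z → m.ι u ∈ Subgroup.centralizer ({m.z} : Set G) := fun u hu =>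
      Subgroup.mem_centralizer_singleton_iff.2 (mul_inv_eq_iff_eq_mul.1 hu)
    have h4 := pow_four_of_two_group hG hC (mul_mem (hmem w e) (hmem v (m.zfix v hv')))
    rw [← map_mul, ← map_pow] at h4
    exact m.disj _ (h4 ▸ one_mem m.R)
  rw [← key, act_mul, map_inv, inv_inv]
  constructor
  · intro e
    rw [e]
    simp only [act]
    group
  · intro e
    calc m.act p = m.ι q * ((m.ι q)⁻¹ * m.act p * m.ι q) * (m.ι q)⁻¹ := by group
      _ = _ := by rw [e, act]

/-- Elements of order three give the addition. -/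
theorem act_add {p q g : Alt5} (hg3 : g ^ 3 = 1) (hg1 : g ≠ 1) (h : InV (q⁻¹ * (g * p))) :
    m.act p * m.act q = m.act (g * q) := by
  have hq : m.act q = m.ι g * m.act p * (m.ι g)⁻¹ := by
    rw [← act_mul]; exact ((m.act_eq_iff hG (g * p) q).2 h).symm
  set a := m.act p
  set b := m.act q
  set c := m.ι g * b * (m.ι g)⁻¹ with hc
  rw [act_mul]
  change a * b = c
  have ha := m.act_mem p
  have hb := m.act_mem q
  have hcR : c ∈ m.R := m.normal.conj_mem _ hb _
  have hg : m.ι g ^ 3 = 1 := by rw [← map_pow, hg3, map_one]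
  have hfix : m.ι g * (a * b * c) = a * b * c * m.ι g := by
    refine mul_inv_eq_iff_eq_mul.1 ?_
    have e : m.ι g * c * (m.ι g)⁻¹ = a := by
      rw [hc, hq, show m.ι g * (m.ι g * (m.ι g * a * (m.ι g)⁻¹) * (m.ι g)⁻¹) * (m.ι g)⁻¹ =
        m.ι g ^ 3 * a * (m.ι g ^ 3)⁻¹ by simp [pow_succ, mul_assoc], hg, one_mul, inv_one, mul_one]
    rw [show m.ι g * (a * b * c) * (m.ι g)⁻¹ =
      (m.ι g * a * (m.ι g)⁻¹) * (m.ι g * b * (m.ι g)⁻¹) * (m.ι g * c * (m.ι g)⁻¹) by group, e, ← hq, ← hc,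
      mul_assoc, m.comm c hcR a ha, ← mul_assoc, m.comm b hb a ha]
  have h1 : a * b * c = 1 := (hG.not_commute (show Commute (a * b * c) (m.ι g) from hfix.symm)
    (pow_four_of_two_group hG (m.isPGroup m.sq) (mul_mem (mul_mem ha hb) hcR)) (Or.inl hg)).resolve_right
    fun e => hg1 (m.disj g (e ▸ one_mem m.R))
  rw [eq_inv_of_mul_eq_one_left h1, inv_eq_of_mul_eq_one_right (m.sq c hcR)]

omit hG in
theorem decomp_bijective : Function.Bijective (fun x : m.R × Alt5 => (x.1 : G) * m.ι x.2) := by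
  refine ⟨?_, fun g => ?_⟩
  · rintro ⟨r, p⟩ ⟨s, q⟩ e
    have e' : (r : G) * m.ι p = s * m.ι q := e
    have h : (s : G)⁻¹ * r = m.ι (q * p⁻¹) := by
      rw [map_mul, map_inv, eq_mul_inv_iff_mul_eq, mul_assoc, e', inv_mul_cancel_left]
    have h1 := m.disj _ (h ▸ mul_mem (inv_mem s.2) r.2)
    obtain rfl : q = p := mul_inv_eq_one.1 h1
    exact Prod.ext (Subtype.ext (mul_right_cancel e')) rfl
  · obtain ⟨p, hp⟩ := m.gen g
    exact ⟨(⟨_, hp⟩, p), inv_mul_cancel_right g (m.ι p)⟩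

end Model

theorem act_add_exists (p q : Alt5) (h : ¬ InV (q⁻¹ * p)) :
    ∃ g : Alt5, g ^ 3 = 1 ∧ g ≠ 1 ∧ InV (q⁻¹ * (g * p)) := by
  obtain ⟨g, h3, h1, hV⟩ := cover_dec _ h
  refine ⟨q * g * q⁻¹, by rw [conj_pow, h3, mul_one, mul_inv_cancel], fun e => h1 (conj_eq_one_iff.1 e), ?_⟩
  rwa [show q⁻¹ * (q * g * q⁻¹ * p) = g * (q⁻¹ * p) by group]


variable {G : Type*} [Group G] [Finite G] {G' : Type*} [Group G'] [Finite G']

/-- Two such extensions are isomorphic. -/
theorem model_iso (hG : Spec G) (hG' : Spec G') (m : Model G) (m' : Model G') : Nonempty (G ≃* G') := by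
  classical
  -- the map on the kernels
  have hΦ : ∀ r : m.R, ∃ r' : m'.R, (r = 1 → r' = 1) ∧ ∀ p, m.act p = r → m'.act p = r' := fun r => by
    rcases eq_or_ne r 1 with rfl | hr
    · exact ⟨1, fun _ => rfl, fun p e => absurd e (m.act_ne p)⟩
    · obtain ⟨p, hp⟩ := m.cover r r.2 fun e => hr (Subtype.ext e)
      refine ⟨⟨m'.act p, m'.act_mem p⟩, fun e => absurd e hr, fun q hq => ?_⟩
      exact (m'.act_eq_iff hG' q p).2 ((m.act_eq_iff hG q p).1 (hq.trans hp.symm))
  choose Φ hΦ1 hΦp using hΦ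
  have hΦone : Φ 1 = 1 := hΦ1 1 rfl
  have hact : ∀ p, Φ ⟨m.act p, m.act_mem p⟩ = ⟨m'.act p, m'.act_mem p⟩ := fun p =>
    Subtype.ext (hΦp ⟨_, m.act_mem p⟩ p rfl).symm
  have hrep : ∀ r : m.R, r = 1 ∨ ∃ p, r = ⟨m.act p, m.act_mem p⟩ := fun r => by
    rcases eq_or_ne r 1 with rfl | hr
    · exact Or.inl rfl
    · obtain ⟨p, hp⟩ := m.cover r r.2 fun e => hr (Subtype.ext e)
      exact Or.inr ⟨p, Subtype.ext hp.symm⟩
  have hΦmul : ∀ r s : m.R, Φ (r * s) = Φ r * Φ s := fun r s => by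
    rcases hrep r with rfl | ⟨p, rfl⟩
    · rw [one_mul, hΦone, one_mul]
    rcases hrep s with rfl | ⟨q, rfl⟩
    · rw [mul_one, hΦone, mul_one]
    rw [hact, hact]
    by_cases hV : InV (q⁻¹ * p)
    · have e := (m.act_eq_iff hG p q).2 hV
      have e' := (m'.act_eq_iff hG' p q).2 hV
      rw [show (⟨m.act p, m.act_mem p⟩ : m.R) * ⟨m.act q, m.act_mem q⟩ = 1 from Subtype.ext (by
        show m.act p * m.act q = 1
        rw [e, m.sq _ (m.act_mem q)]), hΦone]
      exact (Subtype.ext (by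
        show m'.act p * m'.act q = 1
        rw [e', m'.sq _ (m'.act_mem q)]) : (⟨m'.act p, m'.act_mem p⟩ : m'.R) * ⟨m'.act q, m'.act_mem q⟩ = 1).symm
    · obtain ⟨g, h3, h1, hgV⟩ := act_add_exists p q hV
      rw [show (⟨m.act p, m.act_mem p⟩ : m.R) * ⟨m.act q, m.act_mem q⟩ = ⟨m.act (g * q), m.act_mem _⟩ from
        Subtype.ext (m.act_add hG h3 h1 hgV), hact]
      exact Subtype.ext (m'.act_add hG' h3 h1 hgV).symm
  have hΦequiv : ∀ (w : Alt5) (r : m.R), ((Φ ⟨m.ι w * r * (m.ι w)⁻¹, m.normal.conj_mem r r.2 _⟩ : m'.R) : G') =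
      m'.ι w * Φ r * (m'.ι w)⁻¹ := fun w r => by
    rcases hrep r with rfl | ⟨p, rfl⟩
    · rw [hΦone, show (⟨m.ι w * ((1 : m.R) : G) * (m.ι w)⁻¹, m.normal.conj_mem _ (1 : m.R).2 _⟩ : m.R) = 1 from
        Subtype.ext (by simp), hΦone]
      simp
    · rw [hact, show (⟨m.ι w * ((⟨m.act p, m.act_mem p⟩ : m.R) : G) * (m.ι w)⁻¹,
        m.normal.conj_mem _ (⟨m.act p, m.act_mem p⟩ : m.R).2 _⟩ : m.R) = ⟨m.act (w * p), m.act_mem _⟩ from
        Subtype.ext (m.act_mul w p).symm, hact]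
      exact m'.act_mul w p
  have hΦinj : Function.Injective Φ := fun r s e => by
    rcases hrep r with rfl | ⟨p, rfl⟩ <;> rcases hrep s with rfl | ⟨q, rfl⟩
    · rfl
    · rw [hΦone, hact] at e
      exact absurd (congrArg Subtype.val e).symm (m'.act_ne q)
    · rw [hΦone, hact] at e
      exact absurd (congrArg Subtype.val e) (m'.act_ne p)
    · rw [hact, hact] at e
      exact Subtype.ext ((m.act_eq_iff hG p q).2 ((m'.act_eq_iff hG' p q).1 (congrArg Subtype.val e)))
  have hΦsurj : Function.Surjective Φ := fun r' => by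
    rcases eq_or_ne r' 1 with rfl | hr
    · exact ⟨1, hΦone⟩
    · obtain ⟨p, hp⟩ := m'.cover r' r'.2 fun e => hr (Subtype.ext e)
      exact ⟨⟨_, m.act_mem p⟩, (hact p).trans (Subtype.ext hp)⟩
  -- the decompositions
  let E : m.R × Alt5 ≃ G := Equiv.ofBijective _ m.decomp_bijective
  let E' : m'.R × Alt5 ≃ G' := Equiv.ofBijective _ m'.decomp_bijective
  let F : G ≃ G' := E.symm.trans (((Equiv.ofBijective Φ ⟨hΦinj, hΦsurj⟩).prodCongr (Equiv.refl _)).trans E')
  refine ⟨⟨F, fun x y => ?_⟩⟩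
  obtain ⟨⟨r, p⟩, rfl⟩ := E.surjective x
  obtain ⟨⟨s, q⟩, rfl⟩ := E.surjective y
  have hE : ∀ a : m.R × Alt5, F (E a) = (Φ a.1 : G') * m'.ι a.2 := fun a => by
    show E' _ = _
    rw [E.symm_apply_apply]
    rfl
  have hprod : E (r, p) * E (s, q) =
      E (r * ⟨m.ι p * s * (m.ι p)⁻¹, m.normal.conj_mem s s.2 _⟩, p * q) := by
    show (r : G) * m.ι p * ((s : G) * m.ι q) = (r : G) * (m.ι p * s * (m.ι p)⁻¹) * m.ι (p * q)
    rw [map_mul]; group
  show F (E (r, p) * E (s, q)) = F (E (r, p)) * F (E (s, q))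
  rw [hprod, hE, hE, hE, hΦmul, Subgroup.coe_mul, hΦequiv, map_mul]
  group

/-- A model exists when small normal subgroups of the kernel fill it. -/
theorem exists_model (hG : Spec G) {R : Subgroup G} [R.Normal] (hcomm : ∀ a ∈ R, ∀ b ∈ R, a * b = b * a)
    (hsq : ∀ a ∈ R, a * a = 1) (hR : R ≠ ⊥) (e : G ⧸ R ≃* Alt5)
    (hfill : ∀ X : Subgroup G, X.Normal → X ≤ R → Nat.card X = 16 → X = R) : Nonempty (Model G) := by
  classical
  haveI : Fact (Nat.Prime 2) := ⟨Nat.prime_two⟩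
  haveI : IsMulCommutative R := ⟨⟨fun a b => Subtype.ext (hcomm a a.2 b b.2)⟩⟩
  have hR2 : IsPGroup 2 R := fun a => ⟨1, Subtype.ext (by rw [pow_one, pow_two]; exact hsq a a.2)⟩
  set ψ : G →* Alt5 := e.toMonoidHom.comp (QuotientGroup.mk' R) with hψdef
  have hψ : Function.Surjective ψ := e.surjective.comp (QuotientGroup.mk'_surjective R)
  have hker : ∀ c, ψ c = 1 ↔ c ∈ R := fun c =>
    ⟨fun h => (QuotientGroup.eq_one_iff c).1 (e.injective (h.trans e.map_one.symm)), fun h => by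
      show e (c : G ⧸ R) = 1
      rw [(QuotientGroup.eq_one_iff c).2 h, map_one]⟩
  obtain ⟨g, t, -, -, -, -, -, ht2, -, hdt⟩ := exists_inverting_lift hG hR2 e
  have hψt : ψ t = aV := by have := hdt 1 (one_mem R); rwa [one_mul] at this
  obtain ⟨σ, hσ⟩ := hψ aS
  obtain ⟨hs3, hs1, hvV, hv1, hv2, hv3⟩ := aS_basic
  have hσ3 : σ ^ 3 = 1 := by
    have key : ∀ n, σ ^ n = 1 → Nat.Coprime n 3 → False := fun n hn hco => hs1 (orderOf_eq_one_iff.1
      (Nat.eq_one_of_dvd_coprimes hco (orderOf_dvd_of_pow_eq_one (by rw [← hσ, ← map_pow, hn, map_one]))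
        (orderOf_dvd_of_pow_eq_one hs3)))
    rcases hG σ with h | h | h
    · exact h
    · exact (key 4 h (by norm_num)).elim
    · exact (key 5 h (by norm_num)).elim
  have hσ1 : σ ≠ 1 := fun h => hs1 (by rw [← hσ, h, map_one])
  set U := vSub.comap ψ with hU
  have hU2 : IsPGroup 2 U := by
    refine IsPGroup.comap_of_ker_isPGroup (IsPGroup.of_card (n := 2) card_vSub) ψ ?_
    exact hR2.to_le fun c hc => (hker c).1 hc
  have hconj : ∀ u ∈ U, σ * u * σ⁻¹ ∈ U := fun u hu => by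
    show InV (ψ (σ * u * σ⁻¹))
    rw [map_mul, map_mul, map_inv, hσ]
    exact inV_conj _ hu
  have hσi : σ⁻¹ = σ * σ := inv_eq_of_mul_eq_one_right (by rw [← hσ3]; simp [pow_succ, mul_assoc])
  have hconj' : ∀ u ∈ U, σ⁻¹ * u * σ ∈ U := fun u hu => by
    have h := hconj _ (hconj u hu)
    rwa [show σ * (σ * u * σ⁻¹) * σ⁻¹ = (σ * σ) * u * (σ * σ)⁻¹ by group, ← hσi, inv_inv] at h
  have htU : t ∈ U := by show InV (ψ t); rw [hψt]; exact hvV
  have hcm : Commute t (σ * t * σ⁻¹) := congrArg Subtype.val (OneToFour.commute_map (conjOn U σ hconj hconj')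
    (fun x => Subtype.ext (by
      show σ * (σ * (σ * x * σ⁻¹) * σ⁻¹) * σ⁻¹ = x
      rw [show σ * (σ * (σ * (x : G) * σ⁻¹) * σ⁻¹) * σ⁻¹ = σ ^ 3 * x * (σ ^ 3)⁻¹ by simp [pow_succ, mul_assoc],
        hσ3, one_mul, inv_one, mul_one]))
    (fun x hx => Subtype.ext ((hG.not_commute (show Commute (x : G) σ from
      (mul_inv_eq_iff_eq_mul.1 (congrArg Subtype.val hx)).symm) (pow_four_of_two_group hG hU2 x.2)
      (Or.inl hσ3)).resolve_right hσ1)) ⟨t, htU⟩).eq
  set t' := σ * t * σ⁻¹ with ht'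
  have ht'2 : t' * t' = 1 := by
    rw [ht', show σ * t * σ⁻¹ * (σ * t * σ⁻¹) = σ * (t * t) * σ⁻¹ by group, ht2]; group
  let A : Subgroup G :=
    { carrier := {x | x = 1 ∨ x = t ∨ x = t' ∨ x = t * t'}
      one_mem' := Or.inl rfl
      mul_mem' := by
        have hba : t' * t = t * t' := hcm.eq.symm
        have r1 : t * (t * t') = t' := by rw [← mul_assoc, ht2, one_mul]
        have r2 : t' * (t * t') = t := by rw [← mul_assoc, hba, mul_assoc, ht'2, mul_one]
        have r3 : t * t' * t = t' := by rw [mul_assoc, hba, r1]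
        have r4 : t * t' * t' = t := by rw [mul_assoc, ht'2, mul_one]
        have r5 : t * t' * (t * t') = 1 := by rw [← mul_assoc, r3, ht'2]
        rintro x y (rfl | rfl | rfl | rfl) (rfl | rfl | rfl | rfl) <;>
          simp [ht2, ht'2, hba, r1, r2, r3, r4, r5]
      inv_mem' := by
        rintro x (rfl | rfl | rfl | rfl)
        · exact Or.inl inv_one
        · exact Or.inr (Or.inl (inv_eq_of_mul_eq_one_right ht2))
        · exact Or.inr (Or.inr (Or.inl (inv_eq_of_mul_eq_one_right ht'2)))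
        · refine Or.inr (Or.inr (Or.inr ?_))
          rw [mul_inv_rev, inv_eq_of_mul_eq_one_right ht2, inv_eq_of_mul_eq_one_right ht'2, hcm.eq] }
  have hψt' : ψ t' = aS * aV * aS⁻¹ := by rw [ht', map_mul, map_mul, map_inv, hσ, hψt]
  have hψA : ∀ x ∈ A, ψ x = 1 → x = 1 := by
    rintro x (rfl | rfl | rfl | rfl) h
    · rfl
    · exact absurd (hψt ▸ h) hv1
    · exact absurd (hψt' ▸ h) hv2
    · rw [map_mul, hψt, hψt'] at h; exact absurd h hv3
  have hRU : R ≤ U := fun c hc => by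
    show InV (ψ c)
    rw [(hker c).2 hc]; exact vSub.one_mem
  have hAU : A ≤ U := by
    rintro x (rfl | rfl | rfl | rfl)
    · exact one_mem U
    · exact htU
    · exact hconj t htU
    · exact mul_mem htU (hconj t htU)
  obtain ⟨H, hH⟩ := Gaschutz.exists_complement (K := R) (U := U) (A := A) hRU (by
      rw [hU, Subgroup.index_comap_of_surjective _ hψ]
      have h15 := Subgroup.card_mul_index vSub
      rw [card_vSub, card_alt5] at h15
      obtain ⟨k, hk⟩ := hR2.exists_card_eq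
      rw [hk, show vSub.index = 15 by omega]
      exact Nat.Coprime.pow_left k (by norm_num))
    ((Subgroup.eq_bot_iff_forall _).2 fun x hx => hψA x hx.1 ((hker x).2 hx.2))
    (le_antisymm (sup_le hRU hAU) fun u hu => by
      obtain ⟨a, ha, hψa⟩ : ∃ a ∈ A, ψ a = ψ u := by
        rcases inV_elems _ hu with h | h | h | h
        · exact ⟨1, one_mem A, by rw [map_one, h]⟩
        · exact ⟨t, Or.inr (Or.inl rfl), by rw [hψt, h]⟩
        · exact ⟨t', Or.inr (Or.inr (Or.inl rfl)), by rw [hψt', h]⟩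
        · exact ⟨t * t', Or.inr (Or.inr (Or.inr rfl)), by rw [map_mul, hψt, hψt', h]⟩
      rw [← inv_mul_cancel_right u a]
      exact mul_mem (Subgroup.mem_sup_left ((hker _).1 (by rw [map_mul, map_inv, hψa, mul_inv_cancel])))
        (Subgroup.mem_sup_right ha))
  let ψH : H →* Alt5 := ψ.comp H.subtype
  have hψH : Function.Bijective ψH := by
    refine ⟨(injective_iff_map_eq_one ψH).2 fun c hc => Subtype.ext ?_, fun p => ?_⟩
    · exact Subgroup.mem_bot.1 (hH.disjoint.le_bot ⟨(hker _).1 hc, c.2⟩)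
    · obtain ⟨c, rfl⟩ := hψ p
      obtain ⟨⟨r, h⟩, rfl⟩ := hH.2 c
      refine ⟨h, ?_⟩
      show ψ (h : G) = ψ ((r : G) * h)
      rw [map_mul, (hker _).2 r.2, one_mul]
  let Ψ : H ≃* Alt5 := MulEquiv.ofBijective ψH hψH
  let ι : Alt5 →* G := H.subtype.comp Ψ.symm.toMonoidHom
  have hι : ∀ p, ψ (ι p) = p := fun p => Ψ.apply_symm_apply p
  have hdisj : ∀ p, ι p ∈ R → p = 1 := fun p hp => by rw [← hι p]; exact (hker _).2 hp
  -- a fixed point of the four-group
  obtain ⟨r, hr, hr1⟩ : ∃ r ∈ R, r ≠ 1 := by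
    by_contra h
    push Not at h
    exact hR ((Subgroup.eq_bot_iff_forall R).2 h)
  have hfp : ∀ (a : G), a * a = 1 → ∀ x ∈ R, x ≠ 1 → ∃ y ∈ R, y ≠ 1 ∧ a * y * a⁻¹ = y ∧
      ∀ b : G, Commute a b → b * x * b⁻¹ = x → b * y * b⁻¹ = y := by
    intro a ha x hx hx1
    have hai : a⁻¹ = a := inv_eq_of_mul_eq_one_right ha
    have hax := ‹R.Normal›.conj_mem x hx a
    by_cases hxa : x * (a * x * a⁻¹) = 1
    · refine ⟨x, hx, hx1, ?_, fun b _ h => h⟩
      exact (inv_eq_of_mul_eq_one_right hxa).symm.trans (inv_eq_of_mul_eq_one_right (hsq x hx))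
    · refine ⟨x * (a * x * a⁻¹), mul_mem hx hax, hxa, ?_, fun b hab hbx => ?_⟩
      · calc a * (x * (a * x * a⁻¹)) * a⁻¹ = (a * x * a⁻¹) * ((a * a) * x * (a * a)⁻¹) := by group
          _ = _ := by rw [ha, one_mul, inv_one, mul_one, hcomm _ hax x hx]
      · calc b * (x * (a * x * a⁻¹)) * b⁻¹ = (b * x * b⁻¹) * ((b * a) * x * (b * a)⁻¹) := by group
          _ = (b * x * b⁻¹) * (a * (b * x * b⁻¹) * a⁻¹) := by rw [← hab.eq]; group
          _ = _ := by rw [hbx]
  have hι2 : ∀ v, InV v → ι v * ι v = 1 := fun v hv => by rw [← map_mul, hv.1, map_one]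
  obtain ⟨y, hy, hy1, hya, -⟩ := hfp (ι aV) (hι2 _ hvV) r hr hr1
  obtain ⟨z, hz, hz1, hzb, hza⟩ := hfp (ι (aS * aV * aS⁻¹)) (hι2 _ (inV_conj _ hvV)) y hy hy1
  have hcmm : Commute (ι (aS * aV * aS⁻¹)) (ι aV) :=
    (show Commute (aS * aV * aS⁻¹) aV by
      show aS * aV * aS⁻¹ * aV = aV * (aS * aV * aS⁻¹)
      decide +kernel).map ι
  have hza' := hza _ hcmm hya
  have hzfix : ∀ v, InV v → ι v * z * (ι v)⁻¹ = z := fun v hv => by
    rcases inV_elems v hv with rfl | rfl | rfl | rfl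
    · simp
    · exact hza'
    · exact hzb
    · rw [map_mul ι aV, show ι aV * ι (aS * aV * aS⁻¹) * z * (ι aV * ι (aS * aV * aS⁻¹))⁻¹ =
        ι aV * (ι (aS * aV * aS⁻¹) * z * (ι (aS * aV * aS⁻¹))⁻¹) * (ι aV)⁻¹ by group, hzb, hza']
  have hgen : ∀ c : G, ∃ p, c * (ι p)⁻¹ ∈ R := fun c =>
    ⟨ψ c, (hker _).1 (by rw [map_mul, map_inv, hι, mul_inv_cancel])⟩
  -- a provisional model on the conjugates
  let act : Alt5 → G := fun p => ι p * z * (ι p)⁻¹
  have hactR : ∀ p, act p ∈ R := fun p => ‹R.Normal›.conj_mem z hz _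
  have hstab : ∀ p q, act p = act q → InV (q⁻¹ * p) := by
    intro p q hpq
    refine stab_dec _ fun v hv => ?_
    have hv' : InV v := by
      simp only [List.mem_cons, List.not_mem_nil, or_false] at hv
      rcases hv with rfl | rfl | rfl | rfl
      · exact vSub.one_mem
      · exact hvV
      · exact inV_conj _ hvV
      · exact inV_mul _ _ hvV (inV_conj _ hvV)
    have hC := hG.cent_invol (orderOf_eq_two_of (hsq z hz) hz1)
    have h1 : ι (q⁻¹ * p) ∈ Subgroup.centralizer ({z} : Set G) := by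
      refine Subgroup.mem_centralizer_singleton_iff.2 (mul_inv_eq_iff_eq_mul.1 ?_)
      rw [map_mul, map_inv, show (ι q)⁻¹ * ι p * z * ((ι q)⁻¹ * ι p)⁻¹ = (ι q)⁻¹ * (ι p * z * (ι p)⁻¹) * ι q by group,
        show ι p * z * (ι p)⁻¹ = ι q * z * (ι q)⁻¹ from hpq]
      group
    have h4 := pow_four_of_two_group hG hC
      (mul_mem h1 (Subgroup.mem_centralizer_singleton_iff.2 (mul_inv_eq_iff_eq_mul.1 (hzfix v hv'))))
    rw [← map_mul, ← map_pow] at h4
    exact hdisj _ (h4 ▸ one_mem R)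
  have hadd : ∀ p q, act p ≠ act q → ∃ w, act p * act q = act w := by
    intro p q hne
    have hnV : ¬ InV (q⁻¹ * p) := fun hV => hne (by
      show ι p * z * (ι p)⁻¹ = ι q * z * (ι q)⁻¹
      rw [show p = q * (q⁻¹ * p) by group, map_mul,
        show ι q * ι (q⁻¹ * p) * z * (ι q * ι (q⁻¹ * p))⁻¹ = ι q * (ι (q⁻¹ * p) * z * (ι (q⁻¹ * p))⁻¹) * (ι q)⁻¹ by
          group, hzfix _ hV])
    obtain ⟨g, h3, h1, hV⟩ := cover_dec _ hnV
    set g' := q * g * q⁻¹ with hg'
    have hg'3 : g' ^ 3 = 1 := by rw [hg', conj_pow, h3, mul_one, mul_inv_cancel]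
    refine ⟨g' * q, ?_⟩
    have hqp : ι g' * act p * (ι g')⁻¹ = act q := by
      show ι g' * (ι p * z * (ι p)⁻¹) * (ι g')⁻¹ = ι q * z * (ι q)⁻¹
      have hgp : g' * p = q * (g * (q⁻¹ * p)) := by rw [hg']; group
      rw [show ι g' * (ι p * z * (ι p)⁻¹) * (ι g')⁻¹ = ι g' * ι p * z * (ι g' * ι p)⁻¹ by group, ← map_mul, hgp,
        map_mul, show ι q * ι (g * (q⁻¹ * p)) * z * (ι q * ι (g * (q⁻¹ * p)))⁻¹ =
          ι q * (ι (g * (q⁻¹ * p)) * z * (ι (g * (q⁻¹ * p)))⁻¹) * (ι q)⁻¹ by group, hzfix _ hV]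
    have hc : act (g' * q) = ι g' * act q * (ι g')⁻¹ := by
      show ι (g' * q) * z * (ι (g' * q))⁻¹ = ι g' * (ι q * z * (ι q)⁻¹) * (ι g')⁻¹
      rw [map_mul]; group
    set a := act p
    set b := act q
    set c := act (g' * q)
    have ha := hactR p
    have hb := hactR q
    have hcR := hactR (g' * q)
    have hg : ι g' ^ 3 = 1 := by rw [← map_pow, hg'3, map_one]
    have he : ι g' * c * (ι g')⁻¹ = a := by
      rw [hc, ← hqp, show ι g' * (ι g' * (ι g' * a * (ι g')⁻¹) * (ι g')⁻¹) * (ι g')⁻¹ =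
        ι g' ^ 3 * a * (ι g' ^ 3)⁻¹ by simp [pow_succ, mul_assoc], hg, one_mul, inv_one, mul_one]
    have hfix : ι g' * (a * b * c) = a * b * c * ι g' := by
      refine mul_inv_eq_iff_eq_mul.1 ?_
      rw [show ι g' * (a * b * c) * (ι g')⁻¹ =
        (ι g' * a * (ι g')⁻¹) * (ι g' * b * (ι g')⁻¹) * (ι g' * c * (ι g')⁻¹) by group, he, hqp, ← hc,
        mul_assoc, hcomm c hcR a ha, ← mul_assoc, hcomm b hb a ha]
    have h1' : a * b * c = 1 := (hG.not_commute (show Commute (a * b * c) (ι g') from hfix.symm)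
      (pow_four_of_two_group hG hR2 (mul_mem (mul_mem ha hb) hcR)) (Or.inl hg)).resolve_right
      fun h => h1 (conj_eq_one_iff.1 (hdisj g' (h ▸ one_mem R)))
    rw [eq_inv_of_mul_eq_one_left h1', inv_eq_of_mul_eq_one_right (hsq c hcR)]
  let X : Subgroup G :=
    { carrier := {x | x = 1 ∨ ∃ p, act p = x}
      one_mem' := Or.inl rfl
      mul_mem' := by
        rintro x y (rfl | ⟨p, rfl⟩) (rfl | ⟨q, rfl⟩)
        · exact Or.inl (one_mul 1)
        · exact Or.inr ⟨q, (one_mul _).symm⟩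
        · exact Or.inr ⟨p, (mul_one _).symm⟩
        · by_cases h : act p = act q
          · exact Or.inl (by rw [h, hsq _ (hactR q)])
          · obtain ⟨w, hw⟩ := hadd p q h
            exact Or.inr ⟨w, hw.symm⟩
      inv_mem' := by
        rintro x (rfl | ⟨p, rfl⟩)
        · exact Or.inl inv_one
        · exact Or.inr ⟨p, (inv_eq_of_mul_eq_one_right (hsq _ (hactR p))).symm⟩ }
  have hXR : X ≤ R := by
    rintro x (rfl | ⟨p, rfl⟩)
    · exact one_mem R
    · exact hactR p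
  have hXn : X.Normal := ⟨by
    rintro x (rfl | ⟨p, rfl⟩) c
    · exact Or.inl (by simp)
    · obtain ⟨w, hw⟩ := hgen c
      refine Or.inr ⟨w * p, ?_⟩
      set d := c * (ι w)⁻¹
      have hd : d * act (w * p) * d⁻¹ = act (w * p) := by
        rw [hcomm d hw _ (hactR _), mul_inv_cancel_right]
      rw [← hd]
      show d * (ι (w * p) * z * (ι (w * p))⁻¹) * d⁻¹ = c * (ι p * z * (ι p)⁻¹) * c⁻¹
      rw [map_mul, show c = d * ι w from (inv_mul_cancel_right c (ι w)).symm]
      group⟩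
  have hX16 : Nat.card X = 16 := by
    have hidx : vSub.index = 15 := by
      have h15 := Subgroup.card_mul_index vSub
      rw [card_vSub, card_alt5] at h15
      omega
    have hactV : ∀ p q, InV (q⁻¹ * p) → act p = act q := fun p q hV => by
      show ι p * z * (ι p)⁻¹ = ι q * z * (ι q)⁻¹
      rw [show p = q * (q⁻¹ * p) by group, map_mul,
        show ι q * ι (q⁻¹ * p) * z * (ι q * ι (q⁻¹ * p))⁻¹ = ι q * (ι (q⁻¹ * p) * z * (ι (q⁻¹ * p))⁻¹) * (ι q)⁻¹ by
          group, hzfix _ hV]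
    let f : Option (Alt5 ⧸ vSub) → X := fun o =>
      match o with
      | none => 1
      | some q => ⟨act q.out, Or.inr ⟨_, rfl⟩⟩
    have hbij : Function.Bijective f := by
      refine ⟨?_, ?_⟩
      · rintro (_ | a) (_ | b) h
        · rfl
        · exact absurd (congrArg Subtype.val h).symm fun h => hz1 (conj_eq_one_iff.1 h)
        · exact absurd (congrArg Subtype.val h) fun h => hz1 (conj_eq_one_iff.1 h)
        · rw [← QuotientGroup.out_eq' a, ← QuotientGroup.out_eq' b]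
          exact congrArg some (QuotientGroup.eq.2 (by
            have := hstab _ _ (congrArg Subtype.val h).symm
            exact this))
      · rintro ⟨x, rfl | ⟨p, rfl⟩⟩
        · exact ⟨none, rfl⟩
        · refine ⟨some (p : Alt5 ⧸ vSub), Subtype.ext (hactV _ _ ?_)⟩
          exact QuotientGroup.eq.1 (QuotientGroup.out_eq' (p : Alt5 ⧸ vSub)).symm
    rw [← Nat.card_eq_of_bijective f hbij, Finite.card_option, ← Subgroup.index_eq_card, hidx]
  refine ⟨⟨R, inferInstance, hcomm, hsq, ι, hdisj, hgen, z, hz, hz1, hzfix, fun x hx hx1 => ?_⟩⟩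
  rw [← hfill X hXn hXR hX16] at hx
  exact hx.resolve_left hx1

end CfsgLib.OneToFive
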