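import Cfsg.Agent.Lib.OneToFive.Simple
import Cfsg.Agent.Lib.OneToFive.AltFacts
import Cfsg.Agent.Lib.IsolatedMin.Basic
import Cfsg.Agent.Lib.OneToFive.Fpf

/-!
A group with element orders at most five containing a normal alternating subgroup of degree five or six with
trivial centralizer is that subgroup.
-/

set_option autoImplicit false
set_option linter.style.haveILetI false
set_option linter.unusedSectionVars false

namespace CfsgLib.OneToFive

variable {G : Type*} [Group G] [Finite G]

/-- A group of order sixteen and exponent four has no self-centralizing four-group. -/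
theorem no_sixteen {P A : Subgroup G} (hP : Nat.card P = 16) (hexp : ∀ x ∈ P, x ^ 4 = 1) (hAP : A ≤ P)
    (hA : Nat.card A = 4) (hc : ∀ x ∈ A, ∀ y ∈ A, x * y = y * x) (h2 : ∀ x ∈ A, x * x = 1)
    (hcent : ∀ x ∈ P, (∀ a ∈ A, x * a = a * x) → x ∈ A) : False := by
  classical
  haveI : Fact (Nat.Prime 2) := ⟨Nat.prime_two⟩
  have hP2 : IsPGroup 2 P := IsPGroup.of_card (n := 4) (by rw [hP]; norm_num)
  have hlt : A < P := lt_of_le_of_ne hAP fun e => by rw [e, hP] at hA; norm_num at hA
  set T := P ⊓ Subgroup.normalizer (A : Set G) with hT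
  have hAT : A < T := Transfer.lt_inf_normalizer hP2 hlt
  -- the order of `T`
  haveI : (A.subgroupOf T).Normal := (Subgroup.normal_subgroupOf_iff_le_normalizer hAT.le).2 inf_le_right
  have hT8 : Nat.card T = 8 := by
    obtain ⟨k, hk⟩ := (hP2.to_le (inf_le_left : T ≤ P)).exists_card_eq
    have hd : Nat.card T ∣ 16 := hP ▸ Subgroup.card_dvd_of_le inf_le_left
    rw [hk, show (16 : ℕ) = 2 ^ 4 by norm_num] at hd
    have hk4 : k ≤ 4 := (Nat.pow_dvd_pow_iff_le_right (by norm_num)).1 hd
    let ι := {a : A // a ≠ 1}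
    have hmem : ∀ g : T, ∀ a ∈ A, (g : G) * a * (g : G)⁻¹ ∈ A := fun g a ha =>
      (Subgroup.mem_normalizer_iff.1 g.2.2 a).1 ha
    letI : MulAction T ι :=
      { smul := fun g a => ⟨⟨(g : G) * a.1 * (g : G)⁻¹, hmem g a.1 a.1.2⟩, fun e =>
          a.2 (Subtype.ext (conj_eq_one_iff.1 (congrArg Subtype.val e)))⟩
        one_smul := fun a => Subtype.ext (Subtype.ext (show (1 : G) * (a.1 : G) * (1 : G)⁻¹ = a.1 by simp))
        mul_smul := fun g g' a => Subtype.ext (Subtype.ext (show ((g : G) * g') * (a.1 : G) * ((g : G) * g')⁻¹ =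
          g * (g' * a.1 * (g' : G)⁻¹) * (g : G)⁻¹ by group)) }
    set χ := MulAction.toPermHom T ι
    have hker : χ.ker ≤ A.subgroupOf T := fun g hg => by
      refine hcent g g.2.1 fun a ha => ?_
      rcases eq_or_ne a 1 with rfl | ha1
      · simp
      · have := congrArg (fun q : Equiv.Perm ι => ((q ⟨⟨a, ha⟩, fun e => ha1 (congrArg Subtype.val e)⟩).1 : G))
          (MonoidHom.mem_ker.1 hg)
        exact mul_inv_eq_iff_eq_mul.1 this
    have hcardι : Nat.card ι = 3 := by
      haveI := Fintype.ofFinite A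
      rw [Nat.card_eq_fintype_card, Fintype.card_subtype_compl, Fintype.card_subtype_eq, ← Nat.card_eq_fintype_card, hA]
    have h6 : Nat.card χ.range ∣ 6 := by
      have := Subgroup.card_subgroup_dvd_card χ.range
      rwa [Nat.card_perm, hcardι] at this
    have hrk : Nat.card χ.range ∣ 2 ^ k := hk ▸ Subgroup.card_range_dvd χ
    have h2r : Nat.card χ.range ≤ 2 := by
      refine Nat.le_of_dvd (by norm_num) ?_
      have := Nat.dvd_gcd h6 hrk
      refine this.trans ?_
      rw [show (6 : ℕ) = 2 * 3 by norm_num, (Nat.Coprime.pow_right k (by norm_num : Nat.Coprime 3 2)).gcd_mul_right_cancel]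
      exact Nat.gcd_dvd_left 2 _
    have h1 : Nat.card T ≤ 8 := by
      rw [Subgroup.card_eq_card_quotient_mul_card_subgroup χ.ker,
        Nat.card_congr (QuotientGroup.quotientKerEquivRange χ).toEquiv, show (8 : ℕ) = 2 * 4 from rfl]
      refine Nat.mul_le_mul h2r ?_
      refine (Subgroup.card_le_of_le hker).trans ?_
      rw [Nat.card_congr (Subgroup.subgroupOfEquivOfLe hAT.le).toEquiv, hA]
    have h4 : Nat.card A < Nat.card T := by
      rcases lt_or_ge (Nat.card A) (Nat.card T) with h | h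
      · exact h
      · exact absurd (Subgroup.eq_of_le_of_card_ge hAT.le h) hAT.ne
    rw [hA, hk] at h4
    rw [hk] at h1 ⊢
    interval_cases k <;> simp_all
  have hTP : T < P := lt_of_le_of_ne inf_le_left fun e => by rw [e, hP] at hT8; norm_num at hT8
  obtain ⟨g, hg, hgT⟩ := SetLike.exists_of_lt (Transfer.lt_inf_normalizer hP2 hTP)
  have hgN : g ∉ Subgroup.normalizer (A : Set G) := fun h => hgT ⟨hg.1, h⟩
  have hgm : ∀ x ∈ T, g * x * g⁻¹ ∈ T := fun x hx => (Subgroup.mem_normalizer_iff.1 hg.2 x).1 hx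
  obtain ⟨a, ha, hgaA⟩ : ∃ a ∈ A, g * a * g⁻¹ ∉ A := by
    by_contra h
    push Not at h
    refine hgN (Transfer.map_conj_eq_self_iff.1 (Subgroup.eq_of_le_of_card_ge ?_ ?_))
    · rintro _ ⟨x, hx, rfl⟩; exact h x hx
    · rw [← Nat.card_congr (Subgroup.equivMapOfInjective A _ (MulEquiv.injective (MulAut.conj g))).toEquiv]
  set t := g * a * g⁻¹ with ht
  have htT : t ∈ T := hgm a (hAT.le ha)
  have ht2 : t * t = 1 := by
    rw [ht, show g * a * g⁻¹ * (g * a * g⁻¹) = g * (a * a) * g⁻¹ by group, h2 a ha]; group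
  have hti : t⁻¹ = t := inv_eq_of_mul_eq_one_right ht2
  have hai : a⁻¹ = a := inv_eq_of_mul_eq_one_right (h2 a ha)
  have hrel : A.relIndex T = 2 := by
    have := Subgroup.card_mul_index (A.subgroupOf T)
    rw [Nat.card_congr (Subgroup.subgroupOfEquivOfLe hAT.le).toEquiv, hA, hT8] at this
    change 4 * A.relIndex T = 8 at this
    omega
  have hcos : ∀ x ∈ T, x ∉ A → x * t ∈ A := fun x hx hxA =>
    (Subgroup.mul_mem_iff_of_index_two (H := A.subgroupOf T) hrel (a := ⟨x, hx⟩) (b := ⟨t, htT⟩)).2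
      ⟨fun h => absurd h hxA, fun h => absurd h hgaA⟩
  have hat : a * t ≠ t * a := fun e => hgaA (by
    refine hcent t htT.1 fun b hb => ?_
    -- `a` is central in `T`, hence so is its image
    have hca : ∀ x ∈ T, x * a = a * x := fun x hx => by
      by_cases hxA : x ∈ A
      · exact hc x hxA a ha
      · have hxt := hcos x hx hxA
        calc x * a = x * t * (t * a) := by rw [show x * t * (t * a) = x * (t * t) * a by group, ht2, mul_one]
          _ = x * t * (a * t) := by rw [e]
          _ = (x * t * a) * t := by group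
          _ = a * (x * t) * t := by rw [hc _ hxt a ha]
          _ = a * x * (t * t) := by group
          _ = _ := by rw [ht2, mul_one]
    have h' := hca (g⁻¹ * b * g) (by
      have := (Subgroup.mem_normalizer_iff.1 (inv_mem hg.2) b).1 (hAT.le hb)
      rwa [inv_inv] at this)
    calc t * b = g * (a * (g⁻¹ * b * g)) * g⁻¹ := by rw [ht]; group
      _ = g * ((g⁻¹ * b * g) * a) * g⁻¹ := by rw [h']
      _ = _ := by rw [ht]; group)
  set z := a * t * (a * t) with hz
  have htA : ∀ y ∈ A, t * y * t ∈ A := fun y hy => by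
    have := (Subgroup.mem_normalizer_iff.1 htT.2 y).1 hy
    rwa [hti] at this
  have hzA : z ∈ A := by rw [hz, show a * t * (a * t) = a * (t * a * t) by group]; exact mul_mem ha (htA a ha)
  have hz1 : z ≠ 1 := fun e => hat (by
    have h1 := inv_eq_of_mul_eq_one_right e
    rw [mul_inv_rev, hti, hai] at h1
    exact h1.symm)
  have ha1 : a ≠ 1 := fun e => hat (by rw [e, one_mul, mul_one])
  have hza : z ≠ a := fun e => ha1 (by
    have h1 : t * a * t = 1 := mul_left_cancel (a := a) (by rw [mul_one]; rw [hz] at e; simpa [mul_assoc] using e)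
    calc a = t * (t * a * t) * t := by
          rw [show t * (t * a * t) * t = t * t * a * (t * t) by group, ht2, one_mul, mul_one]
      _ = 1 := by rw [h1, mul_one, ht2])
  have hall : ∀ x ∈ A, x = 1 ∨ x = z ∨ x = a ∨ x = a * z := by
    intro x hx
    haveI := Fintype.ofFinite A
    have haz : a * z ≠ 1 := fun e => hza ((inv_eq_of_mul_eq_one_right e).symm.trans hai)
    have hfin : ({⟨1, one_mem A⟩, ⟨z, hzA⟩, ⟨a, ha⟩, ⟨a * z, mul_mem ha hzA⟩} : Finset A) = Finset.univ := by
      refine Finset.eq_univ_of_card _ ?_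
      rw [← Nat.card_eq_fintype_card, hA]
      rw [Finset.card_insert_of_notMem, Finset.card_insert_of_notMem, Finset.card_insert_of_notMem,
        Finset.card_singleton]
      · simpa [Subtype.ext_iff] using fun h : a = a * z => hz1 (by simpa using h.symm)
      · simp only [Finset.mem_insert, Finset.mem_singleton, Subtype.ext_iff, not_or]
        exact ⟨hza, fun h => ha1 (by simpa using h.symm)⟩
      · simp only [Finset.mem_insert, Finset.mem_singleton, Subtype.ext_iff, not_or]
        exact ⟨Ne.symm hz1, Ne.symm ha1, Ne.symm haz⟩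
    have := hfin ▸ Finset.mem_univ (⟨x, hx⟩ : A)
    simpa [Subtype.ext_iff] using this
  have hzt : z * t = t * z := by
    calc z * t = a * (t * a * t) * t := by rw [hz]; group
      _ = (t * a * t) * a * t := by rw [hc a ha _ (htA a ha)]
      _ = _ := by rw [hz]; group
  have hfix : ∀ x ∈ A, x * t = t * x → x = 1 ∨ x = z := fun x hx hxt => by
    rcases hall x hx with e | e | e | e
    · exact Or.inl e
    · exact Or.inr e
    · exact absurd (e ▸ hxt) hat
    · refine absurd ?_ hat
      rw [e] at hxt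
      refine mul_right_cancel (b := z) ?_
      calc a * t * z = a * (t * z) := mul_assoc _ _ _
        _ = a * (z * t) := by rw [hzt]
        _ = a * z * t := (mul_assoc _ _ _).symm
        _ = t * (a * z) := hxt
        _ = _ := (mul_assoc _ _ _).symm
  have hgz : g * z * g⁻¹ = z := by
    have hzc : ∀ x ∈ T, x * z = z * x := fun x hx => by
      by_cases hxA : x ∈ A
      · exact hc x hxA z hzA
      · have hxt := hcos x hx hxA
        calc x * z = x * t * (t * z) := by rw [show x * t * (t * z) = x * (t * t) * z by group, ht2, mul_one]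
          _ = x * t * (z * t) := by rw [hzt]
          _ = (x * t * z) * t := by group
          _ = z * (x * t) * t := by rw [hc _ hxt z hzA]
          _ = z * x * (t * t) := by group
          _ = _ := by rw [ht2, mul_one]
    have hcomm : ∀ x ∈ T, x * (g * z * g⁻¹) = g * z * g⁻¹ * x := fun x hx => by
      have h' := hzc (g⁻¹ * x * g) (by
        have := (Subgroup.mem_normalizer_iff.1 (inv_mem hg.2) x).1 hx
        rwa [inv_inv] at this)
      calc x * (g * z * g⁻¹) = g * ((g⁻¹ * x * g) * z) * g⁻¹ := by group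
        _ = g * (z * (g⁻¹ * x * g)) * g⁻¹ := by rw [h']
        _ = _ := by group
    have hA' : g * z * g⁻¹ ∈ A :=
      hcent _ (hgm z (hAT.le hzA)).1 fun b hb => (hcomm b (hAT.le hb)).symm
    exact (hfix _ hA' (hcomm t htT).symm).resolve_left fun e => hz1 (conj_eq_one_iff.1 e)
  set w := g * t * g⁻¹ with hw
  have hwA : w ∈ A := by
    by_contra hwA
    have he := hcos w (hgm t htT) hwA
    have hw2 : w * w = 1 := by rw [hw, show g * t * g⁻¹ * (g * t * g⁻¹) = g * (t * t) * g⁻¹ by group, ht2]; group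
    have het : (w * t) * t = t * (w * t) := by
      have h1 : (w * t)⁻¹ = w * t := inv_eq_of_mul_eq_one_right (h2 _ he)
      rw [mul_inv_rev, hti, inv_eq_of_mul_eq_one_right hw2] at h1
      rw [mul_assoc, ht2, mul_one, ← mul_assoc, h1, mul_assoc, ht2, mul_one]
    -- `w` is `t` or `z t`
    refine hgaA ?_
    rcases hfix _ he het with e | e
    · have e1 : t = a := by
        have h3 : g * t * g⁻¹ = g * a * g⁻¹ := by
          rw [← hw, eq_inv_of_mul_eq_one_left e, hti]
        exact mul_left_cancel (mul_right_cancel h3)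
      rw [e1]; exact ha
    · have e1 : t = a * z := by
        have h3 : g * t * g⁻¹ = g * (a * z) * g⁻¹ := by
          rw [← hw, show g * (a * z) * g⁻¹ = (g * a * g⁻¹) * (g * z * g⁻¹) by group, ← ht, hgz, ← hzt, ← e,
            mul_assoc, ht2, mul_one]
        exact mul_left_cancel (mul_right_cancel h3)
      rw [e1]; exact mul_mem ha hzA
  set c := g * g with hc'
  have hcT : c ∈ P := mul_mem hg.1 hg.1
  have hca : c * a * c⁻¹ = w := by rw [hc', hw, ht]; group
  have hcz : c * z * c⁻¹ = z := by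
    rw [hc', show g * g * z * (g * g)⁻¹ = g * (g * z * g⁻¹) * g⁻¹ by group, hgz, hgz]
  rcases hall w hwA with e | e | e | e
  · exact hgaA (by
      have : t = 1 := conj_eq_one_iff.1 (hw ▸ e)
      rw [this]; exact one_mem A)
  · have : t = z := by
      have h3 : g * t * g⁻¹ = g * z * g⁻¹ := by rw [← hw, e, hgz]
      exact mul_left_cancel (mul_right_cancel h3)
    exact hgaA (by rw [this]; exact hzA)
  · have hct : c * t * c⁻¹ = t := by
      rw [hc', show g * g * t * (g * g)⁻¹ = g * (g * t * g⁻¹) * g⁻¹ by group, ← hw, e]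
    have hca' : c * a = a * c := mul_inv_eq_iff_eq_mul.1 (hca.trans e)
    have hct' : c * t = t * c := mul_inv_eq_iff_eq_mul.1 hct
    have hcA : c ∈ A := hcent c hcT fun b hb => by
      rcases hall b hb with h | h | h | h <;> rw [h]
      · simp
      · exact mul_inv_eq_iff_eq_mul.1 hcz
      · exact hca'
      · exact ((show Commute c a from hca').mul_right (mul_inv_eq_iff_eq_mul.1 hcz)).eq
    have h4 := hexp _ (mul_mem hg.1 (hAP ha))
    have e2 : g * a * (g * a) = c * (t * a) := by
      rw [← mul_assoc c, hct', hc', ht]; group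
    rw [show (g * a) ^ 4 = g * a * (g * a) * (g * a * (g * a)) by simp [pow_succ, mul_assoc], e2,
      ((show Commute (t * a) c from ((show Commute c t from hct').mul_right hca').symm)).mul_mul_mul_comm,
      h2 c hcA, one_mul] at h4
    refine hz1 ?_
    calc z = a * (t * a * (t * a)) * a⁻¹ := by rw [hz]; group
      _ = 1 := by rw [h4, mul_one, mul_inv_cancel]
  · have hct : c * t * c⁻¹ = t * z := by
      rw [hc', show g * g * t * (g * g)⁻¹ = g * (g * t * g⁻¹) * g⁻¹ by group, ← hw, e,
        show g * (a * z) * g⁻¹ = (g * a * g⁻¹) * (g * z * g⁻¹) by group, ← ht, hgz]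
    set r := a * t
    have hrt : r * t * r⁻¹ = t * z := by
      have hzz : z = t * (a * (t * a)) := by
        have h1 : z⁻¹ = z := inv_eq_of_mul_eq_one_right (h2 z hzA)
        rw [← h1, hz, mul_inv_rev, mul_inv_rev, hti, hai, mul_assoc]
      rw [show r * t * r⁻¹ = a * (t * (t * t⁻¹)) * a⁻¹ by simp only [r]; group, mul_inv_cancel, mul_one, hai,
        hzz, ← mul_assoc t t, ht2, one_mul]
      group
    have hra : r * a * r⁻¹ = a * z := by
      have h3 : r * a * r⁻¹ = a * (t * a * t⁻¹) * a⁻¹ := by simp only [r]; group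
      rw [h3, hti, hai, hc a ha _ (htA a ha), mul_assoc, h2 a ha, mul_one, hz,
        show a * (a * t * (a * t)) = (a * a) * (t * (a * t)) by group, h2 a ha, one_mul, mul_assoc]
    set k := r⁻¹ * c
    have hkk : ∀ x y : G, c * x * c⁻¹ = y → r * x * r⁻¹ = y → k * x = x * k := fun x y h1 h3 => by
      refine mul_inv_eq_iff_eq_mul.1 ?_
      rw [show k * x * k⁻¹ = r⁻¹ * (c * x * c⁻¹) * r by simp only [k]; group, h1, ← h3]
      group
    have hrz : r * z * r⁻¹ = z := by
      rw [show r * z * r⁻¹ = a * (t * z * t⁻¹) * a⁻¹ by simp only [r]; group, ← hzt, mul_inv_cancel_right,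
        hc a ha z hzA, mul_inv_cancel_right]
    have hka := hkk a _ (hca.trans e) hra
    have hkz := hkk z _ hcz hrz
    have hkA : k ∈ A := hcent k (mul_mem (inv_mem (mul_mem (hAP ha) htT.1)) hcT) fun b hb => by
      rcases hall b hb with h | h | h | h <;> rw [h]
      · simp
      · exact hkz
      · exact hka
      · exact ((show Commute k a from hka).mul_right hkz).eq
    have hkt := hkk t _ hct hrt
    have hcrk : c = r * k := by simp only [k]; group
    have h4 := hexp g hg.1
    rw [show g ^ 4 = g * g * (g * g) by simp [pow_succ, mul_assoc], ← hc', hcrk] at h4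
    have hkc : Commute k r := (show Commute k a from hka).mul_right hkt
    rw [hkc.mul_mul_mul_comm, h2 k hkA, mul_one] at h4
    exact hz1 h4

/-- An element of odd prime order outside a normal subgroup cannot centralize an inverted element inside. -/
theorem no_outer_prime (hG : Spec G) {M : Subgroup G} [M.Normal] {p : ℕ} [Fact p.Prime] (hp : p = 3 ∨ p = 5)
    (hd : p ∣ Nat.card M)
    (hinv : ∀ x ∈ M, (x ^ 3 = 1 ∨ x ^ 5 = 1) → x ≠ 1 → ∃ t ∈ M, orderOf t = 2 ∧ t * x * t = x⁻¹)
    {u : G} (hu : u ^ p = 1) : u ∈ M := by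
  by_contra huM
  have hexp : ∀ a : G, a ^ p = 1 → a ≠ 1 → ∀ c, Commute a c → c ^ p = 1 := fun a ha ha1 c hc => by
    rcases hp with rfl | rfl
    · exact hG.cent_three ha ha1 hc
    · exact hG.cent_five ha ha1 hc
  have hu1 : u ≠ 1 := fun e => huM (e ▸ one_mem M)
  obtain ⟨Q, hQ⟩ := (IsPGroup.of_card (G := Subgroup.zpowers u) (n := 1) (by
    rw [Nat.card_zpowers, orderOf_eq_prime hu hu1, pow_one]) : IsPGroup p _).exists_le_sylow
  have huQ : u ∈ (Q : Subgroup G) := hQ (Subgroup.mem_zpowers u)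
  haveI : Nontrivial (M.subgroupOf (Q : Subgroup G)) := by
    obtain ⟨⟨y, hyM⟩, hy⟩ := exists_prime_orderOf_dvd_card' (G := M) p hd
    rw [Subgroup.orderOf_mk] at hy
    obtain ⟨R, hR⟩ := (IsPGroup.of_card (G := Subgroup.zpowers y) (n := 1) (by
      rw [Nat.card_zpowers, hy, pow_one]) : IsPGroup p _).exists_le_sylow
    obtain ⟨g, rfl⟩ := MulAction.exists_smul_eq G Q R
    have hy' := Transfer.mem_smul_sylow.1 (hR (Subgroup.mem_zpowers y))
    refine ⟨⟨⟨_, hy'⟩, ?_⟩, 1, fun e => ?_⟩
    · have := ‹M.Normal›.conj_mem y hyM g⁻¹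
      rw [inv_inv] at this
      exact this
    · have h1 : g⁻¹ * y * g⁻¹⁻¹ = 1 := by
        rw [inv_inv]; exact congrArg (fun q : M.subgroupOf (Q : Subgroup G) => ((q : (Q : Subgroup G)) : G)) e
      rw [conj_eq_one_iff.1 h1, orderOf_one] at hy
      exact (Fact.out : p.Prime).ne_one hy.symm
  obtain ⟨⟨⟨x, hxQ⟩, hxM⟩, hxc, hx1⟩ :
      ∃ x : M.subgroupOf (Q : Subgroup G), (x : (Q : Subgroup G)) ∈ Subgroup.center (Q : Subgroup G) ∧ x ≠ 1 := by
    have h := IsolatedMin.inf_center_ne_bot Q.2 (M.subgroupOf (Q : Subgroup G)) ((Subgroup.nontrivial_iff_ne_bot _).1 inferInstance)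
    obtain ⟨⟨x, hx⟩, hx1⟩ := (Subgroup.ne_bot_iff_exists_ne_one.1 h)
    exact ⟨⟨x, hx.1⟩, hx.2, fun e => hx1 (Subtype.ext (congrArg Subtype.val e :))⟩
  have hx1' : x ≠ 1 := fun e => hx1 (Subtype.ext (Subtype.ext e))
  have hux : u * x = x * u := congrArg Subtype.val (Subgroup.mem_center_iff.1 hxc ⟨u, huQ⟩)
  have hxp : x ^ p = 1 := hexp u hu hu1 x hux
  obtain ⟨t, htM, ht, hti⟩ := hinv x hxM (by rcases hp with rfl | rfl; exacts [Or.inl hxp, Or.inr hxp]) hx1'
  have ht2 := Invol.mul_self_of_orderOf_two ht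
  have htinv := Invol.inv_of_orderOf_two ht
  have hC : ∀ c ∈ Subgroup.centralizer ({x} : Set G), t * c * t ∈ Subgroup.centralizer ({x} : Set G) := by
    intro c hc
    have hc' : Commute c x⁻¹ := (show Commute c x from Subgroup.mem_centralizer_singleton_iff.1 hc).inv_right
    have e : x = t * x⁻¹ * t := by
      rw [← hti, show t * (t * x * t) * t = t * t * x * (t * t) by group, ht2, one_mul, mul_one]
    refine Subgroup.mem_centralizer_singleton_iff.2 ?_
    calc t * c * t * x = t * c * t * (t * x⁻¹ * t) := by rw [← e]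
      _ = t * (c * (t * t) * x⁻¹) * t := by group
      _ = t * (x⁻¹ * (t * t) * c) * t := by rw [ht2, mul_one, mul_one, hc'.eq]
      _ = t * x⁻¹ * t * (t * c * t) := by group
      _ = _ := by rw [← e]
  have hfix : ∀ c ∈ Subgroup.centralizer ({x} : Set G), t * c = c * t → c = 1 := fun c hc hct => by
    refine (hG.not_commute (show Commute t c from hct) ?_ ?_).resolve_left (Invol.ne_one_of_orderOf_two ht)
    · rw [show 4 = 2 * 2 from rfl, pow_mul, pow_two t, ht2, one_pow]
    · have := hexp x hxp hx1' c (Subgroup.mem_centralizer_singleton_iff.1 hc).symm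
      rcases hp with rfl | rfl
      · exact Or.inl this
      · exact Or.inr this
  have hiu := inverts_of_fpf ht2 hC hfix u (Subgroup.mem_centralizer_singleton_iff.2 hux)
  have hu2 : u * u ∈ M := by
    have h1 : t * (u * t * u⁻¹) ∈ M := mul_mem htM (‹M.Normal›.conj_mem t htM u)
    rw [show t * (u * t * u⁻¹) = t * u * t * u⁻¹ by group, hiu, ← mul_inv_rev] at h1
    exact inv_mem_iff.1 h1
  refine huM ?_
  rcases hp with rfl | rfl
  · have := mul_mem hu2 hu2
    rwa [show u * u * (u * u) = u ^ 3 * u by simp [pow_succ, mul_assoc], hu, one_mul] at this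
  · have := mul_mem (mul_mem hu2 hu2) hu2
    rwa [show u * u * (u * u) * (u * u) = u ^ 5 * u by simp [pow_succ, mul_assoc], hu, one_mul] at this

/-- A normal alternating group of degree five is everything. -/
theorem no_outer_five (hG : Spec G) {M : Subgroup G} [M.Normal] (e : M ≃* alternatingGroup (Fin 5))
    (hinv : ∀ x ∈ M, (x ^ 3 = 1 ∨ x ^ 5 = 1) → x ≠ 1 → ∃ t ∈ M, orderOf t = 2 ∧ t * x * t = x⁻¹)
    (u : G) : u ∈ M := by
  haveI : Fact (Nat.Prime 3) := ⟨Nat.prime_three⟩
  obtain ⟨⟨x, hxM⟩, hx⟩ := exists_prime_orderOf_dvd_card' (G := M) 3 (by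
    rw [Nat.card_congr e.toEquiv, card_alt5]; norm_num)
  rw [Subgroup.orderOf_mk] at hx
  have hx3 : x ^ 3 = 1 := hx ▸ pow_orderOf_eq_one x
  have hx1 : x ≠ 1 := fun h => by rw [h, orderOf_one] at hx; norm_num at hx
  set y := u * x * u⁻¹
  have hy3 : y ^ 3 = 1 := by rw [conj_pow, hx3, mul_one, mul_inv_cancel]
  have hyM : y ∈ M := ‹M.Normal›.conj_mem x hxM u
  obtain ⟨m, hm⟩ := alt5_three_conj (e ⟨y, hyM⟩) (e ⟨x, hxM⟩)
    (by rw [← map_pow, show (⟨y, hyM⟩ : M) ^ 3 = 1 from Subtype.ext hy3, map_one])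
    (by rw [← map_pow, show (⟨x, hxM⟩ : M) ^ 3 = 1 from Subtype.ext hx3, map_one])
    (fun h => hx1 (conj_eq_one_iff.1 (congrArg Subtype.val (e.injective (h.trans e.map_one.symm)) : y = 1)))
    (fun h => hx1 (congrArg Subtype.val (e.injective (h.trans e.map_one.symm)) : x = 1))
  obtain ⟨⟨m', hm'⟩, rfl⟩ := e.surjective m
  have hmx : m' * y * m'⁻¹ = x := congrArg Subtype.val (e.injective (show
    e (⟨m', hm'⟩ * ⟨y, hyM⟩ * ⟨m', hm'⟩⁻¹) = e ⟨x, hxM⟩ by rw [map_mul, map_mul, map_inv]; exact hm))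
  have hc : Commute x (m' * u) := by
    refine Commute.symm (mul_inv_eq_iff_eq_mul.1 ?_)
    rw [show m' * u * x * (m' * u)⁻¹ = m' * (u * x * u⁻¹) * m'⁻¹ by group]
    exact hmx
  have hu3 := hG.cent_three hx3 hx1 hc
  have hmu : m' * u ∈ M := no_outer_prime hG (Or.inl rfl) (by rw [Nat.card_congr e.toEquiv, card_alt5]; norm_num)
    hinv hu3
  have := mul_mem (inv_mem hm') hmu
  rwa [inv_mul_cancel_left] at this

/-- No extension by an element of order two or four outside a normal alternating group of degree six. -/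
theorem no_outer_two_six (hG : Spec G) {M : Subgroup G} [M.Normal] (e : M ≃* alternatingGroup (Fin 6))
    {u : G} (hu : u * u ∈ M) : u ∈ M := by
  classical
  by_contra huM
  haveI : Fact (Nat.Prime 2) := ⟨Nat.prime_two⟩
  obtain ⟨a', b', s', ha2, hb2, hab, ha1, hb1, hne, hs3, hs1, hsa, hsb, hcent⟩ := alt6_four
  have tr : ∀ {p q : alternatingGroup (Fin 6)}, p = q → ((e.symm p : M) : G) = (e.symm q : M) :=
    fun h => by rw [h]
  set a : G := ((e.symm a' : M) : G) with ha
  set b : G := ((e.symm b' : M) : G) with hb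
  set σ : G := ((e.symm s' : M) : G) with hs
  have haa : a * a = 1 := by simpa [map_mul] using tr ha2
  have hbb : b * b = 1 := by simpa [map_mul] using tr hb2
  have hab' : a * b = b * a := by simpa [map_mul] using tr hab
  have hσ3 : σ ^ 3 = 1 := by simpa [map_pow] using tr hs3
  have hσa : σ * a * σ⁻¹ = b := by simpa [map_mul, map_inv] using tr hsa
  have hσb : σ * b * σ⁻¹ = a * b := by simpa [map_mul, map_inv] using tr hsb
  have hne1 : ∀ {p : alternatingGroup (Fin 6)}, p ≠ 1 → ((e.symm p : M) : G) ≠ 1 := fun h h' =>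
    h (e.symm.injective (Subtype.ext (h'.trans (by rw [map_one]; rfl))))
  have hσ1 : σ ≠ 1 := hne1 hs1
  have hanb : a ≠ b := fun h => hne (e.symm.injective (Subtype.ext h))
  let A : Subgroup G :=
    { carrier := {x | x = 1 ∨ x = a ∨ x = b ∨ x = a * b}
      one_mem' := Or.inl rfl
      mul_mem' := by
        have hba : b * a = a * b := hab'.symm
        have r1 : a * (a * b) = b := by rw [← mul_assoc, haa, one_mul]
        have r2 : b * (a * b) = a := by rw [← mul_assoc, hba, mul_assoc, hbb, mul_one]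
        have r3 : a * b * a = b := by rw [mul_assoc, hba, r1]
        have r4 : a * b * b = a := by rw [mul_assoc, hbb, mul_one]
        have r5 : a * b * (a * b) = 1 := by rw [← mul_assoc, r3, hbb]
        rintro x y (rfl | rfl | rfl | rfl) (rfl | rfl | rfl | rfl) <;>
          simp [haa, hbb, hba, r1, r2, r3, r4, r5]
      inv_mem' := by
        rintro x (rfl | rfl | rfl | rfl)
        · exact Or.inl inv_one
        · exact Or.inr (Or.inl (inv_eq_of_mul_eq_one_right haa))
        · exact Or.inr (Or.inr (Or.inl (inv_eq_of_mul_eq_one_right hbb)))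
        · refine Or.inr (Or.inr (Or.inr ?_))
          rw [mul_inv_rev, inv_eq_of_mul_eq_one_right haa, inv_eq_of_mul_eq_one_right hbb, hab'] }
  have haA : a ∈ A := Or.inr (Or.inl rfl)
  have hbA : b ∈ A := Or.inr (Or.inr (Or.inl rfl))
  have hcentA : ∀ x, x * a = a * x → x * b = b * x → x ∈ M → x ∈ A := by
    intro x hxa hxb hxM
    have h1 : ∀ p : alternatingGroup (Fin 6), x * (e.symm p : M) = (e.symm p : M) * x →
        e ⟨x, hxM⟩ * p = p * e ⟨x, hxM⟩ := fun p h => by
      have h2 : (⟨x, hxM⟩ : M) * e.symm p = e.symm p * ⟨x, hxM⟩ := Subtype.ext h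
      simpa using congrArg e h2
    rcases hcent _ (h1 a' hxa) (h1 b' hxb) with h | h | h | h
    · exact Or.inl (congrArg Subtype.val (e.injective (h.trans e.map_one.symm)) :)
    · refine Or.inr (Or.inl ?_); rw [ha, ← h, e.symm_apply_apply]
    · refine Or.inr (Or.inr (Or.inl ?_)); rw [hb, ← h, e.symm_apply_apply]
    · refine Or.inr (Or.inr (Or.inr ?_)); rw [ha, hb, ← Subgroup.coe_mul, ← map_mul, ← h, e.symm_apply_apply]
  have hAM : A ≤ M := by
    rintro x (rfl | rfl | rfl | rfl)
    · exact one_mem M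
    · exact (e.symm a').2
    · exact (e.symm b').2
    · exact mul_mem (e.symm a').2 (e.symm b').2
  have hA4 : Nat.card A = 4 := by
    have hne2 : a * b ≠ 1 := fun h => hanb ((inv_eq_of_mul_eq_one_right haa).symm.trans (inv_eq_of_mul_eq_one_right h))
    have ha0 : a ≠ 1 := hne1 ha1
    have hb0 : b ≠ 1 := hne1 hb1
    let f : Fin 4 → A := ![⟨1, one_mem A⟩, ⟨a, haA⟩, ⟨b, hbA⟩, ⟨a * b, mul_mem haA hbA⟩]
    have hbij : Function.Bijective f := by
      refine ⟨fun i j h => ?_, fun ⟨x, hx⟩ => ?_⟩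
      · have h' := congrArg Subtype.val h
        fin_cases i <;> fin_cases j <;> first
          | rfl
          | exact absurd h' (Ne.symm ha0)
          | exact absurd h' ha0
          | exact absurd h' (Ne.symm hb0)
          | exact absurd h' hb0
          | exact absurd h' hanb
          | exact absurd h'.symm hanb
          | exact absurd h' hne2
          | exact absurd h'.symm hne2
          | exact absurd (mul_eq_left.1 h'.symm) hb0
          | exact absurd (mul_eq_left.1 h') hb0
          | exact absurd (mul_eq_right.1 h'.symm) ha0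
          | exact absurd (mul_eq_right.1 h') ha0
      · rcases hx with rfl | rfl | rfl | rfl
        exacts [⟨0, rfl⟩, ⟨1, rfl⟩, ⟨2, rfl⟩, ⟨3, rfl⟩]
    rw [← Nat.card_eq_of_bijective f hbij, Nat.card_fin]
  set π := QuotientGroup.mk' M
  set Y := (Subgroup.zpowers (π u)).comap π with hY
  have hπu : orderOf (π u) = 2 := orderOf_eq_two_of
    (by rw [← map_mul]; exact (QuotientGroup.eq_one_iff _).2 hu) (fun h => huM ((QuotientGroup.eq_one_iff u).1 h))
  have hMY : M ≤ Y := fun x hx => by
    rw [hY, Subgroup.mem_comap]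
    rw [show π x = 1 from (QuotientGroup.eq_one_iff x).2 hx]; exact one_mem _
  have hYcard : Nat.card Y = 720 := by
    have h1 := Subgroup.card_mul_index Y
    have h2 := Subgroup.card_mul_index (Subgroup.zpowers (π u))
    have h3 := Subgroup.card_eq_card_quotient_mul_card_subgroup M
    rw [Nat.card_zpowers, hπu] at h2
    rw [hY, Subgroup.index_comap_of_surjective _ (QuotientGroup.mk'_surjective M)] at h1
    rw [← hY] at h1
    have hM : Nat.card M = 360 := by
      rw [Nat.card_congr e.toEquiv, nat_card_alternatingGroup, Nat.card_fin]; decide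
    rw [hM, ← h2, ← h1] at h3
    exact Nat.eq_of_mul_eq_mul_right Subgroup.index_ne_zero_of_finite.bot_lt (by rw [h3]; ring)
  -- the centralizer of the four-group in `Y`
  set K := Y ⊓ (Subgroup.centralizer ({a} : Set G) ⊓ Subgroup.centralizer ({b} : Set G))
  have hK : ∀ {x}, x ∈ K ↔ x ∈ Y ∧ x * a = a * x ∧ x * b = b * x := fun {x} => by
    simp only [K, Subgroup.mem_inf, Subgroup.mem_centralizer_singleton_iff]
  have hσY : σ ∈ Y := hMY (e.symm s').2
  have hKσ : ∀ x ∈ K, σ * x * σ⁻¹ ∈ K := fun x hx => by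
    obtain ⟨hxY, hxa, hxb⟩ := hK.1 hx
    have h1 : ∀ y, x * y = y * x → σ * x * σ⁻¹ * (σ * y * σ⁻¹) = σ * y * σ⁻¹ * (σ * x * σ⁻¹) := fun y hy => by
      rw [show σ * x * σ⁻¹ * (σ * y * σ⁻¹) = σ * (x * y) * σ⁻¹ by group, hy]; group
    refine hK.2 ⟨mul_mem (mul_mem hσY hxY) (inv_mem hσY), ?_, ?_⟩
    · have h2 := h1 (a * b) ((show Commute x a from hxa).mul_right hxb).eq
      rwa [show σ * (a * b) * σ⁻¹ = a by
        rw [show σ * (a * b) * σ⁻¹ = σ * a * σ⁻¹ * (σ * b * σ⁻¹) by group, hσa, hσb, hab', ← mul_assoc, hbb,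
          one_mul]] at h2
    · have h2 := h1 a hxa
      rwa [hσa] at h2
  have hKA : ∀ x ∈ K, x ∈ A := by
    intro x hx
    obtain ⟨hxY, hxa, hxb⟩ := hK.1 hx
    have hKσ' : ∀ x ∈ K, σ⁻¹ * x * σ ∈ K := fun x hx => by
      have h := hKσ _ (hKσ x hx)
      rwa [show σ * (σ * x * σ⁻¹) * σ⁻¹ = (σ * σ) * x * (σ * σ)⁻¹ by group,
        ← inv_eq_of_mul_eq_one_right (show σ * (σ * σ) = 1 by rw [← hσ3]; simp [pow_succ, mul_assoc]), inv_inv] at h
    have hAK : A ≤ K := by
      rintro y (rfl | rfl | rfl | rfl) <;> refine hK.2 ⟨hMY (hAM ?_), ?_, ?_⟩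
      all_goals first
        | exact Or.inl rfl
        | exact haA
        | exact hbA
        | exact mul_mem haA hbA
        | simp
        | exact hab'
        | exact hab'.symm
        | (rw [mul_assoc, hab'.symm, ← mul_assoc])
        | (rw [← mul_assoc, hab', mul_assoc])
    have h : (⟨x, hx⟩ : K) ∈ A.subgroupOf K := by
      refine fpf_coset (A.subgroupOf K) (conjOn K σ hKσ hKσ') ?_ ?_ ?_
      · intro k hk
        show σ * (k : G) * σ⁻¹ ∈ A
        rcases (show (k : G) = 1 ∨ (k : G) = a ∨ (k : G) = b ∨ (k : G) = a * b from hk) with h | h | h | h <;> rw [h]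
        · simp
        · rw [hσa]; exact hbA
        · rw [hσb]; exact mul_mem haA hbA
        · rw [show σ * (a * b) * σ⁻¹ = σ * a * σ⁻¹ * (σ * b * σ⁻¹) by group, hσa, hσb]
          exact mul_mem hbA (mul_mem haA hbA)
      · intro k hk
        refine Subtype.ext ((hG.not_commute (show Commute (k : G) σ from
          (mul_inv_eq_iff_eq_mul.1 (congrArg Subtype.val hk)).symm) ?_ (Or.inl hσ3)).resolve_right hσ1)
        exact pow_four_of_two_group hG (hG.cent_invol (orderOf_eq_two_of haa (hne1 ha1)))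
          (Subgroup.mem_centralizer_singleton_iff.2 (hK.1 k.2).2.1)
      · show x⁻¹ * (σ * x * σ⁻¹) ∈ A
        obtain ⟨h1, h2, h3⟩ := hK.1 (mul_mem (inv_mem hx) (hKσ x hx))
        refine hcentA _ h2 h3 ?_
        rw [show x⁻¹ * (σ * x * σ⁻¹) = (x⁻¹ * σ * x) * σ⁻¹ by group]
        have := ‹M.Normal›.conj_mem σ (e.symm s').2 x⁻¹
        rw [inv_inv] at this
        exact mul_mem this (inv_mem (e.symm s').2)
    exact h
  -- a Sylow subgroup of `Y`
  have hAY : IsPGroup 2 (A.subgroupOf Y) :=
    (IsPGroup.of_card (n := 2) hA4 : IsPGroup 2 A).comap_of_injective Y.subtype Subtype.coe_injective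
  obtain ⟨P, hP⟩ := hAY.exists_le_sylow
  set P' := (P : Subgroup Y).map Y.subtype
  have hP2 : IsPGroup 2 P' := P.2.map _
  refine no_sixteen (P := P') (A := A) ?_ (fun x hx => pow_four_of_two_group hG hP2 hx) ?_ hA4 ?_ ?_ ?_
  · rw [← Nat.card_congr (Subgroup.equivMapOfInjective _ _ Y.subtype_injective).toEquiv, P.card_eq_multiplicity,
      hYcard, show (720 : ℕ) = 2 ^ 4 * 45 by norm_num, Nat.factorization_mul (by norm_num) (by norm_num),
      Finsupp.add_apply, Nat.Prime.factorization_pow Nat.prime_two, Finsupp.single_eq_same,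
      Nat.factorization_eq_zero_of_not_dvd (by norm_num : ¬ 2 ∣ 45), add_zero]
    norm_num
  · exact fun x hx => ⟨⟨x, hMY (hAM hx)⟩, hP hx, rfl⟩
  · rintro x (rfl | rfl | rfl | rfl) y (rfl | rfl | rfl | rfl) <;>
      first
        | simp
        | exact hab'
        | exact hab'.symm
        | (rw [mul_assoc, hab'.symm, ← mul_assoc])
        | (rw [← mul_assoc, hab', mul_assoc])
  · rintro x (rfl | rfl | rfl | rfl)
    · simp
    · exact haa
    · exact hbb
    · rw [(show Commute b a from hab'.symm).mul_mul_mul_comm, haa, hbb, one_mul]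
  · intro x hx hxc
    obtain ⟨y, hy, rfl⟩ := hx
    exact hKA _ (hK.2 ⟨y.2, hxc a haA, hxc b hbA⟩)

end CfsgLib.OneToFive
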