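import Cfsg.Agent.Lib.OneToFive.Inter

/-!
The group induced on the Sylow `2`-subgroups over a maximal intersection is `2:odd` or the alternating
group of degree five.
-/

set_option autoImplicit false
set_option linter.style.haveILetI false
set_option linter.unusedSectionVars false

namespace CfsgLib.OneToFive

theorem perm_five_sign : ∀ p : Equiv.Perm (Fin 5), p * p = 1 →
    (∃ i, ∀ j, p j = j → j = i) → Equiv.Perm.sign p = 1 := by
  decide +kernel

theorem zmod_three_pow_five : ∀ u : ZMod 3, u ^ 5 = 1 → u = 1 := by decide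

theorem no_index_three {H : Subgroup (alternatingGroup (Fin 5))} : H.index ≠ 3 := by
  intro h
  haveI := alternatingGroup.isSimpleGroup (α := Fin 5) (by simp)
  have h60 : Nat.card (alternatingGroup (Fin 5)) = 60 := by
    rw [nat_card_alternatingGroup, Nat.card_fin]; decide
  rcases Subgroup.Normal.eq_bot_or_eq_top (H := H.normalCore) inferInstance with e | e
  · have hinj : Function.Injective (MulAction.toPermHom (alternatingGroup (Fin 5)) (alternatingGroup (Fin 5) ⧸ H)) := by
      rw [← MonoidHom.ker_eq_bot_iff, ← Subgroup.normalCore_eq_ker, e]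
    have := Nat.card_le_card_of_injective _ hinj
    rw [Nat.card_perm, ← Subgroup.index_eq_card, h, h60] at this
    norm_num [Nat.factorial] at this
  · have : H = ⊤ := top_le_iff.1 (e ▸ H.normalCore_le)
    rw [this, Subgroup.index_top] at h
    norm_num at h

variable {G : Type*} [Group G] [Finite G] {D : Subgroup G} (hG : Spec G) (M : MaxInt D)
include hG M

/-- The Sylow subgroups over `D`. -/
abbrev Over (D : Subgroup G) := {Q : Sylow 2 G // D ≤ Q}

omit hG M in
theorem conj_over {D : Subgroup G} (g : Subgroup.normalizer (D : Set G)) (Q : Over D) :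
    D ≤ ((g : G) • Q.1 : Sylow 2 G) := fun x hx => by
  rw [Transfer.mem_smul_sylow]
  have := (Subgroup.mem_normalizer_iff.1 (inv_mem g.2) x).1 hx
  rw [inv_inv] at this
  exact Q.2 this

omit hG M in
instance overAction {D : Subgroup G} : MulAction (Subgroup.normalizer (D : Set G)) (Over D) where
  smul g Q := ⟨(g : G) • Q.1, conj_over g Q⟩
  one_smul Q := Subtype.ext (one_smul G Q.1)
  mul_smul g g' Q := Subtype.ext (mul_smul (g : G) (g' : G) Q.1)

theorem no_prime_sq {p : ℕ} [Fact p.Prime] (hp : p = 3 ∨ p = 5) :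
    ¬ p ^ 2 ∣ Nat.card (Subgroup.normalizer (D : Set G)) := by
  intro hd
  set N := Subgroup.normalizer (D : Set G)
  obtain ⟨hcomm, hsq⟩ := elementary hG M
  obtain ⟨P, hP⟩ := Sylow.exists_subgroup_card_pow_prime p hd
  have hPp : IsPGroup p P := IsPGroup.of_card hP
  have hexp : ∀ x : P, x ^ p = 1 := fun x => by
    obtain ⟨k, hk⟩ := hPp x
    have hd1 := orderOf_dvd_of_pow_eq_one hk
    have hx : orderOf ((x : N) : G) = orderOf x := by
      rw [Subgroup.orderOf_coe, Subgroup.orderOf_coe]
    obtain ⟨i, -, hi⟩ := (Nat.dvd_prime_pow Fact.out).1 hd1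
    rcases hG.order ((x : N) : G) with e | e | e <;> rw [hx] at e
    all_goals
      refine orderOf_dvd_iff_pow_eq_one.1 ?_
      rw [hi] at e ⊢
      rcases Nat.eq_zero_or_pos i with rfl | hi0
      · simp
      have h1 : p ∣ _ := (dvd_pow_self p hi0.ne').trans e
      rcases hp with rfl | rfl <;> first
        | exact e
        | norm_num at h1
  haveI : Fact (Nat.Prime p) := inferInstance
  obtain ⟨a, ha⟩ : ∃ a : P, a ≠ 1 := by
    haveI : Nontrivial P := Finite.one_lt_card_iff_nontrivial.1 (by
      rw [hP]; exact Nat.one_lt_pow two_ne_zero (Fact.out : p.Prime).one_lt)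
    exact exists_ne 1
  have hoa : orderOf a = p := orderOf_eq_prime (hexp a) ha
  obtain ⟨b, hb⟩ : ∃ b : P, b ∉ Subgroup.zpowers a := by
    by_contra hne
    push_neg at hne
    have := Subgroup.card_le_of_le (show (⊤ : Subgroup P) ≤ Subgroup.zpowers a from fun x _ => hne x)
    rw [Subgroup.card_top, hP, Nat.card_zpowers, hoa] at this
    have := (Fact.out : p.Prime).two_le
    nlinarith
  haveI : (D.subgroupOf N).Normal := Subgroup.normal_in_normalizer
  letI : CommGroup (D.subgroupOf N) :=
    { (inferInstance : Group (D.subgroupOf N)) with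
      mul_comm := fun x y => Subtype.ext (Subtype.ext (hcomm _ x.2 _ y.2)) }
  let φ : N →* MulAut (D.subgroupOf N) := MulAut.conjNormal
  have hfpf : ∀ x : P, x ≠ 1 → ∀ d, φ (x : N) d = d → d = 1 := fun x hx d hd => by
    refine Subtype.ext (Subtype.ext (two_fpf hG M (g := ((x : N) : G)) ?_ (fun e => hx (Subtype.ext (Subtype.ext e))) d.2 ?_))
    · rcases hp with rfl | rfl
      · exact Or.inl (congrArg (fun z : P => ((z : N) : G)) (hexp x))
      · exact Or.inr (congrArg (fun z : P => ((z : N) : G)) (hexp x))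
    · exact mul_inv_eq_iff_eq_mul.1 (congrArg (fun z : D.subgroupOf N => ((z : N) : G)) hd)
  refine M.ne_bot ((Subgroup.eq_bot_iff_forall _).2 fun d hd => ?_)
  have h := pow_eq_one_of_fpf_sq φ (p := p) (a := ((b : P) : N)) (b := ((a : P) : N))
    (show ((b : N) * a = a * b) from congrArg Subtype.val (IsPGroup.commutative_of_card_eq_prime_sq hP b a))
    (congrArg Subtype.val (hexp b)) (congrArg Subtype.val (hexp a)) (hfpf a ha)
    (fun i d => by
      rw [← Subgroup.coe_pow, ← Subgroup.coe_mul]
      refine hfpf _ (fun e => hb ?_) d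
      rw [eq_inv_of_mul_eq_one_left e]
      exact inv_mem (Subgroup.npow_mem_zpowers a i))
    (⟨⟨d, Subgroup.le_normalizer hd⟩, hd⟩ : D.subgroupOf N)
  have h' : d ^ p = 1 := congrArg (fun z : D.subgroupOf N => ((z : N) : G)) h
  have h2 : d ^ 2 = 1 := by rw [pow_two]; exact hsq d hd
  rcases hp with rfl | rfl
  · rw [pow_succ, h2, one_mul] at h'; exact h'
  · rw [show 5 = 2 * 2 + 1 from rfl, pow_succ, pow_mul, h2, one_pow, one_mul] at h'; exact h'

/-- The Sylow `2`-subgroup of the normalizer inside a Sylow subgroup over `D`. -/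
def localSylow {S : Sylow 2 G} (hS : D ≤ S) : Sylow 2 (Subgroup.normalizer (D : Set G)) where
  toSubgroup := (S : Subgroup G).subgroupOf (Subgroup.normalizer (D : Set G))
  isPGroup' := S.2.comap_of_injective _ Subtype.coe_injective
  is_maximal' := fun {Q} hQ hle => by
    refine le_antisymm ?_ hle
    obtain ⟨R, hR⟩ := (hQ.map (Subgroup.normalizer (D : Set G)).subtype).exists_le_sylow
    obtain ⟨x, hxS, hxN, hxD, -⟩ := exists_sq_mem hG M hS
    have hDR : D ≤ R := fun d hd => hR ⟨⟨d, Subgroup.le_normalizer hd⟩, hle (hS hd), rfl⟩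
    have hRS : S = R := sylow_eq M hS hDR hxD hxS (hR ⟨⟨x, hxN⟩, hle hxS, rfl⟩)
    intro y hy
    show (y : G) ∈ (S : Subgroup G)
    rw [hRS]
    exact hR ⟨y, hy, rfl⟩

theorem over_pretransitive : MulAction.IsPretransitive (Subgroup.normalizer (D : Set G)) (Over D) :=
  ⟨fun P Q => by
    obtain ⟨g, hg⟩ := MulAction.exists_smul_eq (Subgroup.normalizer (D : Set G))
      (localSylow hG M P.2) (localSylow hG M Q.2)
    refine ⟨g, Subtype.ext ?_⟩
    obtain ⟨x, hxQ, hxN, hxD, -⟩ := exists_sq_mem hG M Q.2
    refine sylow_eq M (conj_over g P) Q.2 hxD ?_ hxQ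
    show x ∈ (((g : G) • P.1 : Sylow 2 G) : Subgroup G)
    rw [Transfer.mem_smul_sylow]
    have : (⟨x, hxN⟩ : Subgroup.normalizer (D : Set G)) ∈
        ((g • localSylow hG M P.2 : Sylow 2 _) : Subgroup (Subgroup.normalizer (D : Set G))) := by
      rw [hg]; exact hxQ
    rw [Transfer.mem_smul_sylow] at this
    exact this⟩

/-- An element outside `D` of a Sylow subgroup over `D` fixes no other. -/
theorem over_free {S : Sylow 2 G} (hS : D ≤ S) {x : Subgroup.normalizer (D : Set G)}
    (hx : (x : G) ∈ (S : Subgroup G)) (hxD : (x : G) ∉ D) {Q : Over D} (hQ : x • Q = Q) : Q.1 = S := by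
  have h : (x : G) • Q.1 = Q.1 := congrArg Subtype.val hQ
  exact sylow_eq M Q.2 hS hxD (mem_sylow_of_normalizes hG _ (pow_four_of_two_group hG S.2 hx)
    (Sylow.smul_eq_iff_mem_normalizer.1 h)) hx

/-- The action on the Sylow subgroups over `D`. -/
theorem local_cases {S : Sylow 2 G} (hS : D ≤ S) :
    Nat.card ((S : Subgroup G) ⊓ Subgroup.normalizer (D : Set G) : Subgroup G) = 2 * Nat.card D ∨
      ∃ ψ : Subgroup.normalizer (D : Set G) →* alternatingGroup (Fin 5),
        Function.Surjective ψ ∧ ψ.ker = D.subgroupOf (Subgroup.normalizer (D : Set G)) := by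
  classical
  set N := Subgroup.normalizer (D : Set G) with hN
  haveI := over_pretransitive hG M
  haveI : (D.subgroupOf N).Normal := Subgroup.normal_in_normalizer
  set T := localSylow hG M hS
  set S' : Over D := ⟨S, hS⟩
  obtain ⟨R, hRS, hR⟩ := exists_other M S
  set R' : Over D := ⟨R, hR⟩
  have hcardT : Nat.card (T : Subgroup N) = Nat.card ((S : Subgroup G) ⊓ N : Subgroup G) := by
    show Nat.card ((S : Subgroup G).subgroupOf N) = _
    rw [← Subgroup.inf_subgroupOf_right]
    exact Nat.card_congr (Subgroup.subgroupOfEquivOfLe inf_le_right).toEquiv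
  set DN := D.subgroupOf N
  have hcardD : Nat.card DN = Nat.card D :=
    Nat.card_congr (Subgroup.subgroupOfEquivOfLe Subgroup.le_normalizer).toEquiv
  have hDT : DN ≤ (T : Subgroup N) := fun x hx => hS hx
  set c := DN.relIndex (T : Subgroup N) with hc
  have hTc : Nat.card (T : Subgroup N) = c * Nat.card D := by
    rw [hc, Subgroup.relIndex, ← hcardD, ← Nat.card_congr (Subgroup.subgroupOfEquivOfLe hDT).toEquiv,
      Subgroup.index_mul_card]
  haveI : Fact (Nat.Prime 2) := ⟨Nat.prime_two⟩
  obtain ⟨k, hk⟩ : ∃ k, c = 2 ^ k := T.isPGroup'.index (DN.subgroupOf (T : Subgroup N))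
  rcases Nat.lt_or_ge k 2 with hk2 | hk2
  · left
    rw [← hcardT, hTc]
    rcases Nat.eq_zero_or_pos k with rfl | hk0
    · exfalso
      obtain ⟨x, hxS, hxN, hxD, -⟩ := exists_sq_mem hG M hS
      exact hxD ((Subgroup.relIndex_eq_one.1 (hk.trans (pow_zero 2)) (show (⟨x, hxN⟩ : N) ∈ (T : Subgroup N) from hxS)))
    · rw [hk, show k = 1 by omega, pow_one]
  right
  -- the count
  set n := Nat.card (Over D) with hn
  set m := (T : Subgroup N).index with hm
  have hnm : n ∣ m := by
    rw [hn, ← MulAction.index_stabilizer_of_transitive N S']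
    refine Subgroup.index_dvd_of_le fun x hx => MulAction.mem_stabilizer_iff.2 (Subtype.ext ?_)
    exact Sylow.smul_eq_iff_mem_normalizer.2 (Subgroup.le_normalizer hx)
  have hm15 : m ∣ 15 := by
    have hprime : ∀ p, p.Prime → p ∣ m → p = 3 ∨ p = 5 := fun p hp hd => by
      rcases hG.prime hp (((hd.trans (Subgroup.index_dvd_card _)).trans (Subgroup.card_subgroup_dvd_card N))) with rfl | h
      · exact absurd hd T.not_dvd_index
      · exact h
    have hsf : Squarefree m := Nat.squarefree_iff_prime_squarefree.2 fun p hp hd => by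
      haveI := Fact.mk hp
      refine no_prime_sq hG M (hprime p hp ((dvd_mul_right p p).trans hd)) ?_
      rw [pow_two]; exact hd.trans (Subgroup.index_dvd_card _)
    rw [← Nat.prod_primeFactors_of_squarefree hsf, show (15 : ℕ) = ∏ p ∈ ({3, 5} : Finset ℕ), p by simp]
    refine Finset.prod_dvd_prod_of_subset _ _ _ fun p hp => ?_
    rw [Nat.mem_primeFactors] at hp
    simpa using hprime p hp.1 hp.2.1
  have hn1 : 1 < n := by
    haveI : Nontrivial (Over D) := ⟨R', S', fun e => hRS (congrArg Subtype.val e)⟩
    exact Finite.one_lt_card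
  have h4 : 4 ∣ n - 1 := by
    let Oth := {Q : Over D // Q ≠ S'}
    letI : MulAction (T : Subgroup N) Oth :=
      { smul := fun t Q => ⟨(t : N) • Q.1, fun e => Q.2 (by
          have hfix : (t : N) • S' = S' := Subtype.ext
            (Sylow.smul_eq_iff_mem_normalizer.2 (Subgroup.le_normalizer t.2))
          exact smul_left_cancel (t : N) (e.trans hfix.symm))⟩
        one_smul := fun Q => Subtype.ext (one_smul N Q.1)
        mul_smul := fun t t' Q => Subtype.ext (mul_smul (t : N) (t' : N) Q.1) }
    have hstab : ∀ Q : Oth, MulAction.stabilizer (T : Subgroup N) Q = DN.subgroupOf (T : Subgroup N) := by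
      intro Q
      ext t
      rw [MulAction.mem_stabilizer_iff, Subgroup.mem_subgroupOf]
      refine ⟨fun e => ?_, fun e => Subtype.ext (Subtype.ext ?_)⟩
      · by_contra hD
        exact Q.2 (Subtype.ext (over_free hG M hS t.2 hD (congrArg Subtype.val e)))
      · exact Sylow.smul_eq_iff_mem_normalizer.2 (Subgroup.le_normalizer (Q.1.2 e))
    have hcard : Nat.card Oth = n - 1 := by
      haveI := Fintype.ofFinite (Over D)
      rw [hn, Nat.card_eq_fintype_card, Nat.card_eq_fintype_card, Fintype.card_subtype_compl,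
        Fintype.card_subtype_eq]
    haveI := Fintype.ofFinite (MulAction.orbitRel.Quotient (T : Subgroup N) Oth)
    rw [← hcard, Nat.card_congr (MulAction.selfEquivSigmaOrbitsQuotientStabilizer (T : Subgroup N) Oth),
      Nat.card_sigma]
    refine Finset.dvd_sum fun ω _ => ?_
    rw [hstab, ← Subgroup.index_eq_card]
    change 4 ∣ c
    rw [hk]
    exact pow_dvd_pow 2 hk2
  have hn5 : n = 5 := by
    have hd := hnm.trans hm15
    have := Nat.le_of_dvd (by norm_num) hd
    interval_cases n <;> omega
  -- the permutation representation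
  let e5 : Over D ≃ Fin 5 := Finite.equivFinOfCardEq hn5
  let χ : N →* Equiv.Perm (Fin 5) := (e5.permCongrHom.toMonoidHom).comp (MulAction.toPermHom N (Over D))
  have hχ : ∀ (x : N) (i : Fin 5), χ x i = e5 (x • e5.symm i) := fun x i => rfl
  have hfixD : ∀ x : N, (x : G) ∈ D → χ x = 1 := fun x hx => Equiv.ext fun i => by
    rw [hχ, Equiv.Perm.one_apply]
    have : x • e5.symm i = e5.symm i :=
      Subtype.ext (Sylow.smul_eq_iff_mem_normalizer.2 (Subgroup.le_normalizer ((e5.symm i).2 hx)))
    rw [this, e5.apply_symm_apply]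
  have htwo : ∀ x : N, x ^ 4 = 1 → (x : G) ∉ D →
      ∃ Q : Over D, (x : G) ∈ (Q.1 : Subgroup G) ∧ χ x * χ x = 1 ∧ ∀ j, χ x j = j → j = e5 Q := by
    intro x hx hxD
    obtain ⟨Q, hQ, hxQ⟩ := exists_sylow hG M x.2 (k := 2) (congrArg Subtype.val hx)
    refine ⟨⟨Q, hQ⟩, hxQ, ?_, fun j hj => ?_⟩
    · rw [← map_mul]
      exact hfixD _ (sq_mem hG M hQ hxQ x.2)
    · rw [hχ, ← e5.eq_symm_apply] at hj
      have := over_free hG M hQ hxQ hxD hj
      rw [← e5.apply_symm_apply j]
      exact congrArg e5 (Subtype.ext this)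
  have hev : ∀ x : N, χ x ∈ alternatingGroup (Fin 5) := fun x => by
    rw [Equiv.Perm.mem_alternatingGroup]
    rcases hG (x : G) with e | e | e
    · have := congrArg Equiv.Perm.sign (congrArg χ (show x ^ 3 = 1 from Subtype.ext e))
      rw [map_pow, map_one, map_pow, map_one, pow_succ, Int.units_sq, one_mul] at this
      exact this
    · by_cases hxD : (x : G) ∈ D
      · rw [hfixD x hxD, map_one]
      · obtain ⟨Q, -, h2, hf⟩ := htwo x (Subtype.ext e) hxD
        exact perm_five_sign _ h2 ⟨_, hf⟩
    · have := congrArg Equiv.Perm.sign (congrArg χ (show x ^ 5 = 1 from Subtype.ext e))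
      rw [map_pow, map_one, map_pow, map_one] at this
      rcases Int.units_eq_one_or (Equiv.Perm.sign (χ x)) with h | h
      · exact h
      · rw [h] at this
        exact absurd this (by decide)
  let ψ : N →* alternatingGroup (Fin 5) := χ.codRestrict _ hev
  have hψ : ∀ x : N, ψ x = 1 ↔ χ x = 1 := fun x => ⟨fun e => congrArg Subtype.val e, fun e => Subtype.ext e⟩
  haveI : Fact (Nat.Prime 5) := ⟨by norm_num⟩
  have h5m : 5 ∣ m := hn5 ▸ hnm
  have hker : ψ.ker = DN := by
    refine le_antisymm (fun x hx => ?_) fun x hx => (hψ x).2 (hfixD x hx)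
    rw [MonoidHom.mem_ker, hψ] at hx
    have key4 : ∀ z : N, χ z = 1 → z ^ 4 = 1 → (z : G) ∈ D := fun z hz h4 => by
      by_contra hzD
      obtain ⟨Q, -, -, hf⟩ := htwo z h4 hzD
      have h1 := hf (e5 S') (by rw [hz]; rfl)
      have h2 := hf (e5 R') (by rw [hz]; rfl)
      exact hRS (congrArg Subtype.val (e5.injective (h2.trans h1.symm)))
    by_contra hxD
    have hK : ∀ p, p.Prime → x ^ p = 1 → (p = 3 ∨ p = 5) → False := by
      intro p hp hxp hp35
      haveI := Fact.mk hp
      have hord : orderOf x = p := orderOf_eq_prime hxp fun e => hxD (e ▸ one_mem DN)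
      have hpK : p ∣ Nat.card χ.ker := by
        have := orderOf_dvd_natCard (⟨x, hx⟩ : χ.ker)
        rwa [← Subgroup.orderOf_coe, hord] at this
      have h5r : 5 ∣ Nat.card χ.range := by
        have horb : MulAction.orbit χ.range (e5 S') = Set.univ := Set.eq_univ_of_forall fun j => by
          obtain ⟨g, hg⟩ := MulAction.exists_smul_eq N S' (e5.symm j)
          exact ⟨⟨χ g, g, rfl⟩, by show χ g (e5 S') = j; rw [hχ, e5.symm_apply_apply, hg, e5.apply_symm_apply]⟩
        have := Subgroup.index_dvd_card (MulAction.stabilizer χ.range (e5 S'))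
        rwa [MulAction.index_stabilizer, horb, Set.ncard_univ, Nat.card_fin] at this
      have hcard : Nat.card N = Nat.card χ.range * Nat.card χ.ker := by
        rw [Subgroup.card_eq_card_quotient_mul_card_subgroup χ.ker,
          Nat.card_congr (QuotientGroup.quotientKerEquivRange χ).toEquiv]
      rcases hp35 with rfl | rfl
      · -- an element of order five would centralize the kernel
        obtain ⟨y, hy⟩ := exists_prime_orderOf_dvd_card' 5 (h5r.trans (Dvd.intro _ hcard.symm))
        set π := QuotientGroup.mk' DN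
        have hKp : IsPGroup 3 (χ.ker.map π : Subgroup (N ⧸ DN)) := fun z => by
          obtain ⟨z, hz, e⟩ := z.2
          refine ⟨1, Subtype.ext ?_⟩
          rw [Subgroup.coe_pow, ← e, pow_one, ← map_pow]
          refine (QuotientGroup.eq_one_iff _).2 ?_
          rcases hG (z : G) with h | h | h
          · rw [show z ^ 3 = 1 from Subtype.ext h]; exact one_mem DN
          · exact pow_mem (key4 z hz (Subtype.ext h)) 3
          · rcases (Nat.dvd_prime (by norm_num : Nat.Prime 5)).1
                (orderOf_dvd_of_pow_eq_one (show z ^ 5 = 1 from Subtype.ext h)) with h1 | h1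
            · rw [orderOf_eq_one_iff.1 h1, one_pow]
              exact one_mem DN
            · exfalso
              refine no_prime_sq hG M (Or.inr rfl) ?_
              rw [pow_two, hcard]
              refine Nat.mul_dvd_mul h5r ?_
              have := orderOf_dvd_natCard (⟨z, hz⟩ : χ.ker)
              rwa [← Subgroup.orderOf_coe, h1] at this
        haveI : Fact (Nat.Prime 3) := ⟨Nat.prime_three⟩
        obtain ⟨j, hj⟩ := hKp.exists_card_eq
        have hj3 : Nat.card (χ.ker.map π : Subgroup (N ⧸ DN)) ∣ 3 := by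
          rw [hj]
          rcases Nat.lt_or_ge j 2 with h | h
          · exact (pow_dvd_pow 3 (by omega : j ≤ 1)).trans (by simp)
          · exact absurd ((pow_dvd_pow 3 h).trans (hj ▸ ((Subgroup.card_subgroup_dvd_card _).trans
              (Subgroup.card_quotient_dvd_card DN)))) (no_prime_sq hG M (Or.inl rfl))
        have hx1 : π x ≠ 1 := fun e => hxD ((QuotientGroup.eq_one_iff x).1 e)
        have hxy : π y * π x * (π y)⁻¹ ∈ Subgroup.zpowers (π x) := by
          have hmem : π x ∈ χ.ker.map π := Subgroup.mem_map_of_mem π hx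
          have heq : Subgroup.zpowers (π x) = χ.ker.map π := by
            refine Subgroup.eq_of_le_of_card_ge ((Subgroup.zpowers_le).2 hmem) ?_
            rw [Nat.card_zpowers, orderOf_eq_prime (by rw [← map_pow, hxp, map_one]) hx1]
            exact Nat.le_of_dvd (by norm_num) hj3
          rw [heq, ← map_mul, ← map_inv, ← map_mul]
          exact Subgroup.mem_map_of_mem π (Subgroup.Normal.conj_mem inferInstance x hx y)
        obtain ⟨i, hi⟩ := hxy
        have hi' : π y * π x * (π y)⁻¹ = π x ^ i := hi.symm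
        have hiter : ∀ j : ℕ, π y ^ j * π x * (π y ^ j)⁻¹ = π x ^ (i ^ j) := fun j => by
          induction j with
          | zero => simp
          | succ j ih =>
            rw [pow_succ', show π y * π y ^ j * π x * (π y * π y ^ j)⁻¹ = π y * (π y ^ j * π x * (π y ^ j)⁻¹) * (π y)⁻¹ by group,
              ih, ← conj_zpow, hi', ← zpow_mul, ← pow_succ']
        have hy5 : π y ^ 5 = 1 := by rw [← map_pow, ← hy, pow_orderOf_eq_one, map_one]
        have hox : orderOf (π x) = 3 := orderOf_eq_prime (by rw [← map_pow, hxp, map_one]) hx1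
        have h5i := hiter 5
        rw [hy5, one_mul, inv_one, mul_one] at h5i
        have hmod : ((i : ZMod 3)) ^ 5 = 1 := by
          have : (1 : ℤ) ≡ i ^ 5 [ZMOD 3] := by
            have := (zpow_eq_zpow_iff_modEq (x := π x)).1 (show π x ^ (1 : ℤ) = π x ^ (i ^ 5) by rw [zpow_one]; exact h5i)
            rwa [hox] at this
          have h' := (ZMod.intCast_eq_intCast_iff _ _ 3).2 this
          push_cast at h'
          exact h'.symm
        have hi1 : (i : ZMod 3) = 1 := by
          exact zmod_three_pow_five _ hmod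
        have hcom : Commute (π x) (π y) := by
          have : π x ^ i = π x ^ (1 : ℤ) := zpow_eq_zpow_iff_modEq.2 (by
            rw [hox]; exact (ZMod.intCast_eq_intCast_iff _ _ 3).1 (by push_cast; exact hi1))
          rw [zpow_one] at this
          exact (mul_inv_eq_iff_eq_mul.1 (hi'.trans this)).symm
        rcases ((hG.subgroup N).quotient DN).commute_cases hcom (by
          rw [hox]
          refine Nat.Coprime.coprime_dvd_right (orderOf_dvd_of_pow_eq_one hy5) (by norm_num)) with h | h
        · exact hx1 h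
        · have := (QuotientGroup.eq_one_iff y).1 h
          have h4 := pow_four_of_two_group hG (isPGroup_int hG M) this
          have := orderOf_dvd_of_pow_eq_one (show y ^ 4 = 1 from Subtype.ext h4)
          rw [hy] at this
          norm_num at this
      · refine no_prime_sq hG M (Or.inr rfl) ?_
        rw [pow_two, hcard]
        exact Nat.mul_dvd_mul h5r hpK
    rcases hG (x : G) with e | e | e
    · exact hK 3 Nat.prime_three (Subtype.ext e) (Or.inl rfl)
    · exact hxD (key4 x hx (Subtype.ext e))
    · exact hK 5 (by norm_num) (Subtype.ext e) (Or.inr rfl)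
  refine ⟨ψ, ?_, hker⟩
  have h60 : Nat.card (alternatingGroup (Fin 5)) = 60 := by
    rw [nat_card_alternatingGroup, Nat.card_fin]; decide
  have hNcard : Nat.card N = Nat.card ψ.range * Nat.card D := by
    rw [Subgroup.card_eq_card_quotient_mul_card_subgroup ψ.ker,
      Nat.card_congr (QuotientGroup.quotientKerEquivRange ψ).toEquiv, hker, hcardD]
  have hr : Nat.card ψ.range = c * m := by
    have := (Subgroup.card_mul_index (T : Subgroup N)).symm
    rw [hNcard, hTc, mul_right_comm] at this
    exact Nat.eq_of_mul_eq_mul_right Nat.card_pos this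
  have h20 : 20 ∣ Nat.card ψ.range := by
    rw [hr]
    exact (Nat.mul_dvd_mul (show 4 ∣ c by rw [hk]; exact pow_dvd_pow 2 hk2) h5m : 4 * 5 ∣ c * m)
  have hidx := Subgroup.card_mul_index ψ.range
  rw [h60] at hidx
  have hi3 : ψ.range.index ∣ 3 := by
    obtain ⟨d, hd⟩ := h20
    refine ⟨d, ?_⟩
    rw [hd] at hidx
    nlinarith
  rcases (Nat.dvd_prime Nat.prime_three).1 hi3 with h | h
  · exact MonoidHom.range_eq_top.1 (Subgroup.index_eq_one.1 h)
  · exact absurd h no_index_three

end CfsgLib.OneToFive
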