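import Cfsg.Agent.Lib.OneToFive.Inter
import Cfsg.Agent.Lib.OneToFive.Count
import Cfsg.Agent.Lib.Invol.StronglyEmbedded
import Cfsg.Agent.Lib.Transfer.Sylow
import Cfsg.Agent.Lib.FrobCompl.Kernel

/-!
A simple group with element orders at most five whose Sylow `2`-subgroups meet trivially has order sixty.
-/

set_option autoImplicit false
set_option linter.style.haveILetI false
set_option linter.unusedSectionVars false

open scoped Pointwise

namespace CfsgLib.OneToFive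

variable {G : Type*} [Group G] [Finite G]

/-- An elementary abelian `2`-group admits no group of order `p²` of odd `p` acting without fixed points. -/
theorem no_sq_acting (hG : Spec G) {E H : Subgroup G} (hE : E ≠ ⊥) (hEc : ∀ x ∈ E, ∀ y ∈ E, x * y = y * x)
    (hE2 : ∀ x ∈ E, x * x = 1) (hHE : H ≤ Subgroup.normalizer (E : Set G)) {p : ℕ} [Fact p.Prime]
    (hp : p = 3 ∨ p = 5) : ¬ p ^ 2 ∣ Nat.card H := by
  intro hd
  obtain ⟨P, hP⟩ := Sylow.exists_subgroup_card_pow_prime p hd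
  have hPp : IsPGroup p P := IsPGroup.of_card hP
  have hexp : ∀ x : P, x ^ p = 1 := fun x => by
    obtain ⟨k, hk⟩ := hPp x
    obtain ⟨i, -, hi⟩ := (Nat.dvd_prime_pow Fact.out).1 (orderOf_dvd_of_pow_eq_one hk)
    have hx : orderOf ((x : H) : G) = orderOf x := by rw [Subgroup.orderOf_coe, Subgroup.orderOf_coe]
    refine orderOf_dvd_iff_pow_eq_one.1 ?_
    rw [hi]
    rcases Nat.eq_zero_or_pos i with rfl | hi0
    · simp
    rcases hG.order ((x : H) : G) with e | e | e <;> rw [hx, hi] at e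
    all_goals
      have h1 : p ∣ _ := (dvd_pow_self p hi0.ne').trans e
      rcases hp with rfl | rfl <;> first
        | exact e
        | norm_num at h1
  obtain ⟨a, ha⟩ : ∃ a : P, a ≠ 1 := by
    haveI : Nontrivial P := Finite.one_lt_card_iff_nontrivial.1 (by
      rw [hP]; exact Nat.one_lt_pow two_ne_zero (Fact.out : p.Prime).one_lt)
    exact exists_ne 1
  have hoa : orderOf a = p := orderOf_eq_prime (hexp a) ha
  obtain ⟨b, hb⟩ : ∃ b : P, b ∉ Subgroup.zpowers a := by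
    by_contra hne
    push Not at hne
    have := Subgroup.card_le_of_le (show (⊤ : Subgroup P) ≤ Subgroup.zpowers a from fun x _ => hne x)
    rw [Subgroup.card_top, hP, Nat.card_zpowers, hoa] at this
    have := (Fact.out : p.Prime).two_le
    nlinarith
  set N := Subgroup.normalizer (E : Set G)
  haveI : (E.subgroupOf N).Normal := Subgroup.normal_in_normalizer
  letI : CommGroup (E.subgroupOf N) :=
    { (inferInstance : Group (E.subgroupOf N)) with
      mul_comm := fun x y => Subtype.ext (Subtype.ext (hEc _ x.2 _ y.2)) }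
  let φ : N →* MulAut (E.subgroupOf N) := MulAut.conjNormal
  let ι : P →* N := (Subgroup.inclusion hHE).comp P.subtype
  have hfpf : ∀ x : P, x ≠ 1 → ∀ d, φ (ι x) d = d → d = 1 := fun x hx d hd => by
    refine Subtype.ext (Subtype.ext ?_)
    have hc : ((x : H) : G) * ((d : N) : G) = ((d : N) : G) * ((x : H) : G) :=
      mul_inv_eq_iff_eq_mul.1 (congrArg (fun z : E.subgroupOf N => ((z : N) : G)) hd)
    have hd2 : ((d : N) : G) ^ 4 = 1 := by
      rw [show 4 = 2 * 2 from rfl, pow_mul, pow_two ((d : N) : G), hE2 ((d : N) : G) d.2, one_pow]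
    refine (hG.not_commute (show Commute ((d : N) : G) _ from hc.symm) hd2 ?_).resolve_right
      (fun e => hx (Subtype.ext (Subtype.ext e)))
    rcases hp with rfl | rfl
    · exact Or.inl (congrArg (fun z : P => ((z : H) : G)) (hexp x))
    · exact Or.inr (congrArg (fun z : P => ((z : H) : G)) (hexp x))
  refine hE ((Subgroup.eq_bot_iff_forall _).2 fun d hd' => ?_)
  have h := pow_eq_one_of_fpf_sq φ (p := p) (a := ι b) (b := ι a)
    ((show Commute b a from IsPGroup.commutative_of_card_eq_prime_sq hP b a).map ι)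
    (by rw [← map_pow, hexp, map_one]) (by rw [← map_pow, hexp, map_one]) (hfpf a ha)
    (fun i d => by
      rw [← map_pow, ← map_mul]
      refine hfpf _ (fun e => hb ?_) d
      rw [eq_inv_of_mul_eq_one_left e]
      exact inv_mem (Subgroup.npow_mem_zpowers a i))
    (⟨⟨d, Subgroup.le_normalizer hd'⟩, hd'⟩ : E.subgroupOf N)
  have h' : d ^ p = 1 := congrArg (fun z : E.subgroupOf N => ((z : N) : G)) h
  have h2 : d ^ 2 = 1 := by rw [pow_two]; exact hE2 d hd'
  rcases hp with rfl | rfl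
  · rw [pow_succ, h2, one_mul] at h'; exact h'
  · rw [show 5 = 2 * 2 + 1 from rfl, pow_succ, pow_mul, h2, one_pow, one_mul] at h'; exact h'

theorem zmod_five_cube : ∀ u : ZMod 5, u ^ 3 = 1 → u = 1 := by decide

/-- No group of order fifteen has element orders at most five. -/
theorem card_ne_fifteen {Q : Type*} [Group Q] [Finite Q] (hQ : Spec Q) : Nat.card Q ≠ 15 := by
  intro h15
  haveI : Fact (Nat.Prime 5) := ⟨by norm_num⟩
  haveI : Fact (Nat.Prime 3) := ⟨Nat.prime_three⟩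
  obtain ⟨σ, hσ⟩ := exists_prime_orderOf_dvd_card' (G := Q) 3 (by rw [h15]; norm_num)
  obtain ⟨y, hy⟩ := exists_prime_orderOf_dvd_card' (G := Q) 5 (by rw [h15]; norm_num)
  set P := Subgroup.zpowers y
  have hP5 : Nat.card P = 5 := by rw [Nat.card_zpowers, hy]
  have hPn : P.Normal := by
    refine Subgroup.normal_of_index_eq_minFac_card ?_
    have := Subgroup.card_mul_index P
    rw [hP5, h15] at this
    rw [h15, show P.index = 3 by omega]
    norm_num
  obtain ⟨i, hi⟩ := hPn.conj_mem y (Subgroup.mem_zpowers y) σ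
  have hi' : σ * y * σ⁻¹ = y ^ i := hi.symm
  have hit : ∀ j : ℕ, σ ^ j * y * (σ ^ j)⁻¹ = y ^ (i ^ j) := fun j => by
    induction j with
    | zero => simp
    | succ j ih =>
      rw [pow_succ', show σ * σ ^ j * y * (σ * σ ^ j)⁻¹ = σ * (σ ^ j * y * (σ ^ j)⁻¹) * σ⁻¹ by group, ih,
        ← conj_zpow, hi', ← zpow_mul, ← pow_succ']
  have h3 := hit 3
  rw [← hσ, pow_orderOf_eq_one, one_mul, inv_one, mul_one] at h3
  have hmod : ((i : ZMod 5)) ^ 3 = 1 := by
    have h := (zpow_eq_zpow_iff_modEq (x := y)).1 (show y ^ (1 : ℤ) = y ^ (i ^ 3) by rw [zpow_one]; exact h3.trans (by rw [hσ]))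
    rw [hy] at h
    have h' := (ZMod.intCast_eq_intCast_iff _ _ 5).2 h
    push_cast at h'
    exact h'.symm
  have hi1 : (i : ZMod 5) = 1 := zmod_five_cube _ hmod
  have hcom : Commute y σ := by
    have : y ^ i = y ^ (1 : ℤ) := zpow_eq_zpow_iff_modEq.2 (by
      rw [hy]; exact (ZMod.intCast_eq_intCast_iff _ _ 5).1 (by push_cast; exact hi1))
    rw [zpow_one] at this
    exact (mul_inv_eq_iff_eq_mul.1 (hi'.trans this)).symm
  rcases hQ.commute_cases hcom (by rw [hσ, hy]; norm_num) with e | e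
  · rw [e, orderOf_one] at hy; norm_num at hy
  · rw [e, orderOf_one] at hσ; norm_num at hσ

/-- A number with one prime divisor is a power of it. -/
theorem eq_pow_of_primes {n p : ℕ} (hn : n ≠ 0) (h : ∀ q, q.Prime → q ∣ n → q = p) :
    n = p ^ n.factorization p :=
  Nat.eq_pow_of_factorization_eq_single hn (Finsupp.ext fun q => by
    rcases eq_or_ne q p with rfl | hq
    · rw [Finsupp.single_eq_same]
    · rw [Finsupp.single_eq_of_ne hq, Nat.factorization_eq_zero_iff]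
      by_cases hp : q.Prime
      · exact Or.inr (Or.inl fun hd => hq (h q hp hd))
      · exact Or.inl hp)

theorem two_pow_succ_five {a c : ℕ} (ha : 1 ≤ a) (hc : 1 ≤ c) (h : 2 ^ a + 1 = 5 ^ c) : 2 ^ a = 4 := by
  rcases Nat.lt_or_ge a 3 with h3 | h3
  · interval_cases a
    · have : 5 ≤ 5 ^ c := Nat.le_self_pow (by omega) 5
      omega
    · rfl
  exfalso
  rcases Nat.even_or_odd c with ⟨d, rfl⟩ | ⟨d, rfl⟩
  · have hd : 1 ≤ d := by omega
    have hm : 5 ^ d % 4 = 1 := by rw [Nat.pow_mod]; simp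
    have hdvd : 5 ^ d + 1 ∣ 2 ^ a := by
      refine ⟨5 ^ d - 1, ?_⟩
      have := Nat.sq_sub_sq (5 ^ d) 1
      rw [← pow_mul, one_pow, mul_two, ← h, Nat.add_sub_cancel] at this
      exact this
    obtain ⟨j, -, hj⟩ := (Nat.dvd_prime_pow Nat.prime_two).1 hdvd
    have h6 : 6 ≤ 5 ^ d + 1 := by
      have : 5 ≤ 5 ^ d := Nat.le_self_pow (by omega) 5
      omega
    rcases Nat.lt_or_ge j 2 with hj2 | hj2
    · have : 2 ^ j ≤ 2 ^ 1 := Nat.pow_le_pow_right (by norm_num) (by omega)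
      omega
    · have : 4 ∣ 2 ^ j := pow_dvd_pow 2 hj2
      omega
  · have h8 : 8 ∣ 2 ^ a := pow_dvd_pow 2 h3
    have hm : 5 ^ (2 * d + 1) % 8 = 5 := by
      rw [pow_succ, pow_mul, Nat.mul_mod, Nat.pow_mod]
      simp
    generalize 5 ^ (2 * d + 1) = A at *
    generalize 2 ^ a = B at *
    omega

/-- The case of three involutions. -/
theorem order_of_three [IsSimpleGroup G] (hG : Spec G) (S : Sylow 2 G)
    (hHtop : Subgroup.normalizer ((S : Subgroup G) : Set G) ≠ ⊤)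
    (hHcard : Nat.card (Subgroup.normalizer ((S : Subgroup G) : Set G)) = 3 * Nat.card (S : Subgroup G))
    (hodd : ∀ g : G, g ∉ Subgroup.normalizer ((S : Subgroup G) : Set G) → ∀ x ∈ (S : Subgroup G),
      x ∈ (Subgroup.normalizer ((S : Subgroup G) : Set G)).map (MulAut.conj g).toMonoidHom → x = 1)
    (h3inv : Nat.card {v : G // orderOf v = 2 ∧ v ∈ Subgroup.normalizer ((S : Subgroup G) : Set G)} = 3) :
    Nat.card G = 60 := by
  classical
  haveI : Fact (Nat.Prime 2) := ⟨Nat.prime_two⟩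
  haveI : Fact (Nat.Prime 3) := ⟨Nat.prime_three⟩
  set H := Subgroup.normalizer ((S : Subgroup G) : Set G) with hH
  have hSH : (S : Subgroup G) ≤ H := Subgroup.le_normalizer
  have hmemS : ∀ x ∈ H, x ^ 4 = 1 → x ∈ (S : Subgroup G) := fun x hx h4 => mem_sylow_of_normalizes hG S h4 hx
  have h4inv : ∀ {x : G}, orderOf x = 2 → x ^ 4 = 1 := fun {x} hx => by
    rw [show 4 = 2 * 2 from rfl, pow_mul, pow_two x, Invol.mul_self_of_orderOf_two hx, one_pow]
  obtain ⟨⟨v₀, hv₀, hv₀H⟩⟩ : Nonempty {v : G // orderOf v = 2 ∧ v ∈ H} :=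
    (Nat.card_pos_iff.1 (by rw [h3inv]; norm_num)).1
  have h2S : 2 ∣ Nat.card (S : Subgroup G) := by
    have := orderOf_dvd_natCard (⟨v₀, hmemS v₀ hv₀H (h4inv hv₀)⟩ : (S : Subgroup G))
    rwa [← Subgroup.orderOf_coe, hv₀] at this
  have hSE : Cfsg.IsStronglyEmbedded H := by
    refine ⟨hHtop, even_iff_two_dvd.2 (by rw [hHcard]; exact dvd_mul_of_dvd_right h2S 3), fun g hg => ?_⟩
    rw [← Nat.not_even_iff_odd, even_iff_two_dvd]
    intro hd
    obtain ⟨x, hx⟩ := exists_prime_orderOf_dvd_card' 2 hd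
    rw [← Subgroup.orderOf_coe] at hx
    exact Invol.ne_one_of_orderOf_two hx (hodd g hg x (hmemS x x.2.1 (h4inv hx)) x.2.2)
  obtain ⟨⟨σ, hσH⟩, hσo⟩ := exists_prime_orderOf_dvd_card' (G := H) 3 (by rw [hHcard]; exact dvd_mul_right 3 _)
  rw [Subgroup.orderOf_mk] at hσo
  have hσ3 : σ ^ 3 = 1 := by rw [← hσo]; exact pow_orderOf_eq_one σ
  have hσ1 : σ ≠ 1 := fun e => by rw [e, orderOf_one] at hσo; norm_num at hσo
  have hfpf : ∀ (τ : G), τ ^ 3 = 1 → τ ≠ 1 → ∀ x ∈ (S : Subgroup G), τ * x = x * τ → x = 1 :=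
    fun τ h3 h1 x hx hc =>
      (hG.not_commute (show Commute x τ from hc.symm) (pow_four_of_two_group hG S.2 hx) (Or.inl h3)).resolve_right h1
  have hconjS : ∀ h ∈ H, ∀ x ∈ (S : Subgroup G), h * x * h⁻¹ ∈ (S : Subgroup G) :=
    fun h hh x hx => (Subgroup.mem_normalizer_iff.1 hh x).1 hx
  have hnotS : ∀ i : ℕ, σ ^ i ∈ (S : Subgroup G) → σ ^ i = 1 := fun i hi => by
    refine orderOf_eq_one_iff.1 (Nat.eq_one_of_dvd_coprimes (show Nat.Coprime 4 3 by norm_num)
      (orderOf_dvd_of_pow_eq_one (pow_four_of_two_group hG S.2 hi)) (orderOf_dvd_of_pow_eq_one ?_))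
    rw [← pow_mul, mul_comm, pow_mul, hσ3, one_pow]
  -- the decomposition of `H`
  have hdec : ∀ h ∈ H, ∃ s ∈ (S : Subgroup G), ∃ i : Fin 3, h = s * σ ^ (i : ℕ) := by
    let f : ↥(S : Subgroup G) × Fin 3 → H := fun p => ⟨(p.1 : G) * σ ^ (p.2 : ℕ), mul_mem (hSH p.1.2) (pow_mem hσH _)⟩
    have hinj : Function.Injective f := by
      rintro ⟨s, i⟩ ⟨s', j⟩ e
      have e' : (s : G) * σ ^ (i : ℕ) = s' * σ ^ (j : ℕ) := congrArg Subtype.val e
      have hij : σ ^ ((i : ℕ) + (3 - (j : ℕ))) = 1 := hnotS _ (by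
        have : σ ^ ((i : ℕ) + (3 - (j : ℕ))) = (s : G)⁻¹ * s' := by
          calc σ ^ ((i : ℕ) + (3 - (j : ℕ))) = (s : G)⁻¹ * ((s : G) * σ ^ (i : ℕ)) * σ ^ (3 - (j : ℕ)) := by
                rw [pow_add]; group
            _ = (s : G)⁻¹ * s' * σ ^ ((j : ℕ) + (3 - (j : ℕ))) := by rw [e', pow_add]; group
            _ = _ := by rw [Nat.add_sub_cancel' (by omega), hσ3, mul_one]
        rw [this]; exact mul_mem (inv_mem s.2) s'.2)
      have h3 := orderOf_dvd_of_pow_eq_one hij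
      rw [hσo] at h3
      have : i = j := Fin.ext (by omega)
      subst this
      exact Prod.ext (Subtype.ext (mul_right_cancel e')) rfl
    have hbij : Function.Bijective f := (Nat.bijective_iff_injective_and_card f).2 ⟨hinj, by
      rw [Nat.card_prod, Nat.card_fin, hHcard, mul_comm]⟩
    intro h hh
    obtain ⟨⟨s, i⟩, e⟩ := hbij.2 ⟨h, hh⟩
    exact ⟨s, s.2, i, (congrArg Subtype.val e).symm⟩
  have hcentH : ∀ h ∈ H, h * σ = σ * h → ∃ i : Fin 3, h = σ ^ (i : ℕ) := fun h hh hc => by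
    obtain ⟨s, hs, i, rfl⟩ := hdec h hh
    have : σ * s = s * σ := mul_right_cancel (b := σ ^ (i : ℕ)) (by
      rw [mul_assoc, ← hc, mul_assoc, mul_assoc, (Commute.pow_self σ i).eq])
    exact ⟨i, by rw [hfpf σ hσ3 hσ1 s hs this, one_mul]⟩
  have hnoinv : ∀ h ∈ H, h * σ * h⁻¹ ≠ σ⁻¹ := fun h hh hc => by
    obtain ⟨s, hs, i, rfl⟩ := hdec h hh
    have e : s * σ * s⁻¹ * σ⁻¹ = σ ^ 1 := by
      rw [show s * σ ^ (i : ℕ) * σ * (s * σ ^ (i : ℕ))⁻¹ = s * (σ ^ (i : ℕ) * σ * (σ ^ (i : ℕ))⁻¹) * s⁻¹ by group,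
        (Commute.pow_self σ i).eq, mul_inv_cancel_right] at hc
      rw [hc, pow_one, ← mul_inv_rev]
      exact inv_eq_of_mul_eq_one_right (by rw [← hσ3]; simp [pow_succ, mul_assoc])
    have hmem : σ ^ 1 ∈ (S : Subgroup G) := by
      rw [← e, show s * σ * s⁻¹ * σ⁻¹ = s * (σ * s⁻¹ * σ⁻¹) by group]
      exact mul_mem hs (hconjS σ hσH _ (inv_mem hs))
    exact hσ1 (pow_one σ ▸ hnotS 1 hmem)
  set o : G ⧸ H := QuotientGroup.mk 1 with ho
  have hmk : ∀ (a g : G), a • (QuotientGroup.mk g : G ⧸ H) = QuotientGroup.mk g ↔ g⁻¹ * a * g ∈ H := fun a g => by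
    rw [MulAction.Quotient.smul_mk, smul_eq_mul, QuotientGroup.eq, ← inv_mem_iff]
    simp [mul_assoc]
  have hmko : ∀ a : G, a • o = o ↔ a ∈ H := fun a => by rw [ho, hmk]; simp
  have hfree : ∀ x : G ⧸ H, x ≠ o → ∀ r ∈ (S : Subgroup G), r • x = x → r = 1 := by
    intro x hx r hr hrx
    obtain ⟨g, rfl⟩ := QuotientGroup.mk_surjective x
    refine hodd g (fun hg => hx ?_) r hr ⟨g⁻¹ * r * g, (hmk r g).1 hrx, ?_⟩
    · rw [ho, QuotientGroup.eq, mul_one]; exact inv_mem hg
    · show g * (g⁻¹ * r * g) * g⁻¹ = r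
      group
  -- intersections with conjugates
  have hmeet : ∀ i : G, orderOf i = 2 → i ∉ H → ∀ a ∈ H, i * a * i⁻¹ ∈ H → a ∈ (S : Subgroup G) → a = 1 := by
    intro i hi hiH a ha hai haS
    refine hodd i hiH a haS ⟨i * a * i⁻¹, hai, ?_⟩
    show i * (i * a * i⁻¹) * i⁻¹ = a
    rw [Invol.inv_of_orderOf_two hi, show i * (i * a * i) * i = (i * i) * a * (i * i) by group,
      Invol.mul_self_of_orderOf_two hi, one_mul, mul_one]
  have hgen : ∀ i : G, orderOf i = 2 → i ∉ H → ∃ τ ∈ H, τ ^ 3 = 1 ∧ τ ≠ 1 ∧ i * τ * i⁻¹ ∈ H := by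
    intro i hi hiH
    obtain ⟨s, hs, t, ht, hst⟩ : ∃ s, (orderOf s = 2 ∧ s ∈ H) ∧ ∃ t, (orderOf t = 2 ∧ t ∈ H) ∧ s ≠ t := by
      haveI : Nontrivial {v : G // orderOf v = 2 ∧ v ∈ H} := Finite.one_lt_card_iff_nontrivial.1 (by rw [h3inv]; norm_num)
      obtain ⟨a, b, hab⟩ := exists_pair_ne {v : G // orderOf v = 2 ∧ v ∈ H}
      exact ⟨a, a.2, b, b.2, fun e => hab (Subtype.ext e)⟩
    obtain ⟨d, ⟨hdH, y, hy, hyd⟩, hd⟩ := Invol.strongly_inter_transitive hSE hi hiH hs.1 hs.2 ht.1 ht.2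
    have hyd' : i * y * i⁻¹ = d := hyd
    have hdi : i * d * i⁻¹ = y := by
      rw [← hyd', Invol.inv_of_orderOf_two hi, show i * (i * y * i) * i = (i * i) * y * (i * i) by group,
        Invol.mul_self_of_orderOf_two hi, one_mul, mul_one]
    have hd1 : d ≠ 1 := fun e => hst (by rw [← hd, e, one_mul, inv_one, mul_one])
    rcases hG d with h | h | h
    · exact ⟨d, hdH, h, hd1, hdi ▸ hy⟩
    · exact absurd (hmeet i hi hiH d hdH (hdi ▸ hy) (hmemS d hdH h)) hd1
    · exfalso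
      refine hd1 (orderOf_eq_one_iff.1 ?_)
      have h1 := (Subgroup.orderOf_coe (⟨d, hdH⟩ : H)).symm ▸ orderOf_dvd_natCard (⟨d, hdH⟩ : H)
      rw [hHcard] at h1
      obtain ⟨e, he⟩ := S.2.exists_card_eq
      rw [he] at h1
      refine Nat.eq_one_of_dvd_coprimes (Nat.Coprime.mul_left ?_ ?_) h1 (orderOf_dvd_of_pow_eq_one h)
      · norm_num
      · exact Nat.Coprime.pow_left e (by norm_num)
  have hsame : ∀ τ ∈ H, τ ^ 3 = 1 → τ ≠ 1 → ∃ s ∈ (S : Subgroup G), τ = s * σ * s⁻¹ ∨ τ = s * σ⁻¹ * s⁻¹ := by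
    intro τ hτ hτ3 hτ1
    obtain ⟨r, hr, i, hri⟩ := hdec τ hτ
    have key : ∀ ρ : G, ρ ∈ H → ρ ^ 3 = 1 → ρ ≠ 1 → τ = r * ρ → ∃ s ∈ (S : Subgroup G), τ = s * ρ * s⁻¹ := by
      intro ρ hρ hρ3 hρ1 e
      have hinj : Function.Injective (fun u : (S : Subgroup G) => (⟨(u : G) * (ρ * (u : G)⁻¹ * ρ⁻¹),
          mul_mem u.2 (hconjS ρ hρ _ (inv_mem u.2))⟩ : (S : Subgroup G))) := fun a b e => by
        have e' : (a : G) * (ρ * (a : G)⁻¹ * ρ⁻¹) = b * (ρ * (b : G)⁻¹ * ρ⁻¹) := congrArg Subtype.val e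
        refine Subtype.ext (inv_mul_eq_one.1 (hfpf ρ hρ3 hρ1 _ (mul_mem (inv_mem b.2) a.2) ?_)).symm
        calc ρ * ((b : G)⁻¹ * a) = (b : G)⁻¹ * ((b : G) * (ρ * (b : G)⁻¹ * ρ⁻¹)) * ρ * a := by group
          _ = _ := by rw [← e']; group
      obtain ⟨u, hu⟩ := (Finite.injective_iff_surjective.1 hinj) ⟨r, hr⟩
      refine ⟨u, u.2, ?_⟩
      have := congrArg (fun x : (S : Subgroup G) => (x : G) * ρ) hu
      rw [e]
      simpa [mul_assoc] using this.symm
    fin_cases i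
    · exfalso
      refine hτ1 (orderOf_eq_one_iff.1 (Nat.eq_one_of_dvd_coprimes (show Nat.Coprime 4 3 by norm_num)
        (orderOf_dvd_of_pow_eq_one (pow_four_of_two_group hG S.2 (x := τ) ?_)) (orderOf_dvd_of_pow_eq_one hτ3)))
      simpa [hri] using hr
    · obtain ⟨s, hs, e⟩ := key σ hσH hσ3 hσ1 (by simpa using hri)
      exact ⟨s, hs, Or.inl e⟩
    · have e2 : σ⁻¹ = σ ^ 2 := inv_eq_of_mul_eq_one_right (by rw [← pow_succ', hσ3])
      obtain ⟨s, hs, e⟩ := key σ⁻¹ (inv_mem hσH) (by rw [inv_pow, hσ3, inv_one]) (inv_ne_one.2 hσ1)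
        (by rw [e2]; simpa using hri)
      exact ⟨s, hs, Or.inr e⟩
  have hswap : ∀ x : G ⧸ H, x ≠ o → ∃ i : G, orderOf i = 2 ∧ i • o = x := fun x hx => by
    obtain ⟨⟨i, hi⟩⟩ : Nonempty {i : G // orderOf i = 2 ∧ i • o = x} :=
      (Nat.card_pos_iff.1 (by rw [Invol.strongly_card_swappers hSE o x hx.symm, h3inv]; norm_num)).1
    exact ⟨i, hi⟩
  have hswapH : ∀ x : G ⧸ H, x ≠ o → ∀ i : G, i • o = x → i ∉ H := fun x hx i e hi =>
    hx (by rw [← e, (hmko i).2 hi])
  -- fixed points of `σ`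
  set k := Nat.card {x : G ⧸ H // σ • x = x ∧ x ≠ o} with hk
  have hn : H.index = 1 + Nat.card (S : Subgroup G) * k := by
    have hcompl : Nat.card {x : G ⧸ H // x ≠ o} + 1 = H.index := by
      haveI := Fintype.ofFinite (G ⧸ H)
      rw [Subgroup.index_eq_card, Nat.card_eq_fintype_card, Nat.card_eq_fintype_card, Fintype.card_subtype_compl,
        Fintype.card_subtype_eq]
      have := Fintype.card_pos (α := G ⧸ H)
      omega
    rw [← hcompl, add_comm 1, hk, ← Nat.card_prod]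
    congr 1
    refine (Nat.card_eq_of_bijective (fun p : ↥(S : Subgroup G) × {x : G ⧸ H // σ • x = x ∧ x ≠ o} =>
      (⟨(p.1 : G) • p.2.1, fun e => p.2.2.2 ?_⟩ : {x : G ⧸ H // x ≠ o})) ⟨?_, ?_⟩).symm
    · rw [← inv_smul_smul (p.1 : G) p.2.1, e]
      exact (hmko _).2 (inv_mem (hSH p.1.2))
    · rintro ⟨s, x, hx, hxo⟩ ⟨s', x', hx', hxo'⟩ e
      have e' : (s : G) • x = (s' : G) • x' := congrArg Subtype.val e
      set r := (s' : G)⁻¹ * s with hr
      have hrS : r ∈ (S : Subgroup G) := mul_mem (inv_mem s'.2) s.2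
      have hrx : r • x = x' := by rw [hr, mul_smul, e', inv_smul_smul]
      have hfix : (r⁻¹ * (σ * r * σ⁻¹)) • x = x := by
        rw [mul_smul, mul_smul, mul_smul, inv_smul_eq_iff.2 hx.symm, hrx, hx', ← hrx, inv_smul_smul]
      have h1 := hfree x hxo _ (mul_mem (inv_mem hrS) (hconjS σ hσH r hrS)) hfix
      have hr1 : r = 1 := hfpf σ hσ3 hσ1 r hrS (mul_inv_eq_iff_eq_mul.1 (inv_mul_eq_one.1 h1).symm)
      have hss : s = s' := Subtype.ext (inv_mul_eq_one.1 hr1).symm
      subst hss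
      exact Prod.ext rfl (Subtype.ext (smul_left_cancel _ e'))
    · rintro ⟨y, hy⟩
      obtain ⟨i, hi, hiy⟩ := hswap y hy
      have hiH := hswapH y hy i hiy
      obtain ⟨τ, hτ, hτ3, hτ1, hτi⟩ := hgen i hi hiH
      have hτy : τ • y = y := by
        have h : (i * τ * i⁻¹) • o = o := (hmko _).2 hτi
        rw [mul_smul, mul_smul, Invol.inv_of_orderOf_two hi, hiy, smul_eq_iff_eq_inv_smul,
          Invol.inv_of_orderOf_two hi, hiy] at h
        exact h
      obtain ⟨s, hs, e⟩ := hsame τ hτ hτ3 hτ1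
      have hfix : σ • ((s⁻¹ : G) • y) = (s⁻¹ : G) • y := by
        rcases e with rfl | rfl
        · rw [eq_inv_smul_iff, ← mul_smul, ← mul_smul]; exact hτy
        · rw [eq_comm, ← inv_smul_eq_iff, eq_inv_smul_iff, ← mul_smul, ← mul_smul]; exact hτy
      refine ⟨(⟨s, hs⟩, ⟨(s⁻¹ : G) • y, hfix, fun e' => hy ?_⟩), Subtype.ext (smul_inv_smul s y)⟩
      rw [← smul_inv_smul s y, e']
      exact (hmko s).2 (hSH hs)
  -- the inverting involutions
  have hI : ∀ i : G, orderOf i = 2 → (i * σ * i⁻¹ = σ⁻¹ ↔ σ • i • o = i • o ∧ i • o ≠ o) := by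
    intro i hi
    have hii := Invol.mul_self_of_orderOf_two hi
    have hiinv := Invol.inv_of_orderOf_two hi
    constructor
    · intro e
      have hiH : i ∉ H := fun h => hnoinv i h e
      refine ⟨?_, fun h => hiH ((hmko i).1 h)⟩
      have : (i⁻¹ * σ * i) • o = o := (hmko _).2 (by
        have h2 : i⁻¹ * σ * i = σ⁻¹ := by rw [← e, hiinv]
        rw [h2]; exact inv_mem hσH)
      calc σ • i • o = i • (i⁻¹ * σ * i) • o := by rw [← mul_smul, ← mul_smul]; congr 1; group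
        _ = _ := by rw [this]
    · rintro ⟨hfix, hne⟩
      have hiH := hswapH _ hne i rfl
      have hσi : i * σ * i⁻¹ ∈ H := by
        have : (i⁻¹ * σ * i) • o = o := by rw [mul_smul, mul_smul, hfix, inv_smul_smul]
        have := (hmko _).1 this
        rwa [hiinv] at this ⊢
      obtain ⟨r, hr, j, e⟩ := hdec _ hσi
      -- the product of two elements in the intersection
      have hr1 : r = 1 := by
        refine hmeet i hi hiH r (hSH hr) ?_ hr
        rw [show r = (i * σ * i⁻¹) * (σ ^ (j : ℕ))⁻¹ by rw [e, mul_inv_cancel_right],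
          show i * ((i * σ * i⁻¹) * (σ ^ (j : ℕ))⁻¹) * i⁻¹ = i * (i * σ * i⁻¹) * i⁻¹ * (i * σ * i⁻¹)⁻¹ ^ (j : ℕ) by
            rw [← inv_pow (σ) (j : ℕ), show (i * σ * i⁻¹)⁻¹ = i * σ⁻¹ * i⁻¹ by group, conj_pow]; group,
          hiinv, show i * (i * σ * i) * i = (i * i) * σ * (i * i) by group, hii, one_mul, mul_one]
        rw [hiinv] at hσi
        exact mul_mem hσH (pow_mem (inv_mem hσi) _)
      rw [hr1, one_mul] at e
      fin_cases j
      · rw [pow_zero] at e; exact absurd (conj_eq_one_iff.1 e) hσ1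
      · rw [pow_one] at e
        exact absurd ((hG.not_commute (show Commute i σ from mul_inv_eq_iff_eq_mul.1 e) (h4inv hi)
          (Or.inl hσ3)).resolve_right hσ1) (Invol.ne_one_of_orderOf_two hi)
      · refine e.trans (inv_eq_of_mul_eq_one_right ?_).symm
        rw [← pow_succ', hσ3]
  -- the centralizer of `σ`
  set C := Subgroup.centralizer ({σ} : Set G)
  have hCH : ∀ c ∈ C, ∃ j : Fin 3, c = σ ^ (j : ℕ) := by
    intro c hc
    have hcσ : c * σ = σ * c := Subgroup.mem_centralizer_singleton_iff.1 hc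
    refine hcentH c ?_ hcσ
    by_contra hcH
    have hne : c • o ≠ o := fun e => hcH ((hmko c).1 e)
    have hfix : σ • c • o = c • o := by rw [← mul_smul, ← hcσ, mul_smul, (hmko σ).2 hσH]
    obtain ⟨i, hi, hio⟩ := hswap _ hne
    have hinv := (hI i hi).2 ⟨hio ▸ hfix, hio ▸ hne⟩
    have hmem : c⁻¹ * i ∈ H := (hmko _).1 (by rw [mul_smul, hio, inv_smul_smul])
    refine hnoinv _ hmem ?_
    calc c⁻¹ * i * σ * (c⁻¹ * i)⁻¹ = c⁻¹ * (i * σ * i⁻¹) * c := by group
      _ = c⁻¹ * (σ⁻¹ * c) := by rw [hinv]; group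
      _ = _ := by rw [(show Commute c σ from hcσ).inv_right.eq.symm]; group
  have hCcard : Nat.card C = 3 := by
    have hle : C = Subgroup.zpowers σ := le_antisymm (fun c hc => by
      obtain ⟨j, rfl⟩ := hCH c hc
      exact pow_mem (Subgroup.mem_zpowers σ) _)
      ((Subgroup.zpowers_le).2 (Subgroup.mem_centralizer_singleton_iff.2 rfl))
    rw [hle, Nat.card_zpowers, hσo]
  obtain ⟨g₁, hg₁⟩ : ∃ g, g ∉ H := by
    by_contra h
    push Not at h
    exact hHtop (eq_top_iff.2 fun x _ => h x)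
  have hk1 : k = 1 := by
    have hpos : 0 < k := by
      rcases Nat.eq_zero_or_pos k with h | h
      · rw [h, mul_zero, add_zero] at hn
        exact absurd (Subgroup.index_eq_one.1 hn) hHtop
      · exact h
    obtain ⟨⟨x₀, hx₀, hx₀o⟩⟩ := (Nat.card_pos_iff.1 (hk ▸ hpos)).1
    obtain ⟨u, hu, hux⟩ := hswap x₀ hx₀o
    have huinv := (hI u hu).2 ⟨hux ▸ hx₀, hux ▸ hx₀o⟩
    have huu := Invol.mul_self_of_orderOf_two hu
    have hui := Invol.inv_of_orderOf_two hu
    have huC : ∀ c ∈ C, u * c * u = c⁻¹ := fun c hc => by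
      obtain ⟨j, rfl⟩ := hCH c hc
      conv_lhs => rw [show u * σ ^ (j : ℕ) * u = u * σ ^ (j : ℕ) * u⁻¹ by rw [hui]]
      rw [← conj_pow, huinv, inv_pow]
    have h1 : Nat.card {i : G // orderOf i = 2 ∧ i * σ * i⁻¹ = σ⁻¹} = Nat.card C := by
      have hcu : ∀ c ∈ C, orderOf (c * u) = 2 ∧ c * u * σ * (c * u)⁻¹ = σ⁻¹ := fun c hc => by
        refine ⟨orderOf_eq_two_of ?_ fun e => ?_, ?_⟩
        · rw [show c * u * (c * u) = c * (u * c * u) by group, huC c hc, mul_inv_cancel]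
        · have h := Subgroup.mem_centralizer_singleton_iff.1 (eq_inv_of_mul_eq_one_right e ▸ inv_mem hc : u ∈ C)
          exact Invol.ne_one_of_orderOf_two hu ((hG.not_commute (show Commute u σ from h) (h4inv hu)
            (Or.inl hσ3)).resolve_right hσ1)
        · rw [show c * u * σ * (c * u)⁻¹ = c * (u * σ * u⁻¹) * c⁻¹ by group, huinv, ← conj_inv,
            Subgroup.mem_centralizer_singleton_iff.1 hc, mul_inv_cancel_right]
      refine (Nat.card_eq_of_bijective (fun c : C =>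
        (⟨(c : G) * u, hcu c c.2⟩ : {i : G // orderOf i = 2 ∧ i * σ * i⁻¹ = σ⁻¹})) ⟨?_, ?_⟩).symm
      · exact fun a b e => Subtype.ext (mul_right_cancel (congrArg Subtype.val e :))
      · rintro ⟨i, hi, hiσ⟩
        refine ⟨⟨i * u, Subgroup.mem_centralizer_singleton_iff.2 ?_⟩, Subtype.ext ?_⟩
        · have : i * u * σ * (i * u)⁻¹ = σ := by
            rw [show i * u * σ * (i * u)⁻¹ = i * (u * σ * u⁻¹) * i⁻¹ by group, huinv, ← conj_inv, hiσ, inv_inv]
          exact mul_inv_eq_iff_eq_mul.1 this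
        · show i * u * u = i
          rw [mul_assoc, huu, mul_one]
    have h2 : Nat.card {i : G // orderOf i = 2 ∧ i * σ * i⁻¹ = σ⁻¹} = k * 3 := by
      haveI := Fintype.ofFinite {x : G ⧸ H // σ • x = x ∧ x ≠ o}
      let e : {i : G // orderOf i = 2 ∧ i * σ * i⁻¹ = σ⁻¹} ≃
          Σ x : {x : G ⧸ H // σ • x = x ∧ x ≠ o}, {i : G // orderOf i = 2 ∧ i • o = x.1} :=
        { toFun := fun i => ⟨⟨i.1 • o, (hI i.1 i.2.1).1 i.2.2⟩, i.1, i.2.1, rfl⟩
          invFun := fun p => ⟨p.2.1, p.2.2.1, (hI _ p.2.2.1).2 (p.2.2.2.symm ▸ p.1.2)⟩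
          left_inv := fun _ => rfl
          right_inv := by
            rintro ⟨⟨x, hx⟩, i, hi, hio⟩
            obtain rfl : i • o = x := hio
            rfl }
      rw [Nat.card_congr e, Nat.card_sigma,
        Finset.sum_congr rfl fun x _ => (Invol.strongly_card_swappers hSE o x.1 x.2.2.symm).trans h3inv,
        Finset.sum_const, Finset.card_univ, ← Nat.card_eq_fintype_card, smul_eq_mul, ← hk]
    rw [h2, hCcard] at h1
    omega
  rw [hk1, mul_one] at hn
  have hGcard : Nat.card G = 3 * Nat.card (S : Subgroup G) * (1 + Nat.card (S : Subgroup G)) := by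
    rw [← hn, ← hHcard, Subgroup.card_mul_index]
  obtain ⟨a, ha⟩ := S.2.exists_card_eq
  have ha1 : 1 ≤ a := by
    rcases Nat.eq_zero_or_pos a with rfl | h
    · rw [ha] at h2S; norm_num at h2S
    · exact h
  -- the Sylow subgroup of the prime three
  have h9 : ¬ 3 ^ 2 ∣ Nat.card G := by
    intro hd
    obtain ⟨P, hP⟩ := (IsPGroup.of_card (G := Subgroup.zpowers σ) (n := 1) (by
      rw [Nat.card_zpowers, hσo, pow_one]) : IsPGroup 3 _).exists_le_sylow
    haveI : Nontrivial (P : Subgroup G) :=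
      ⟨⟨σ, hP (Subgroup.mem_zpowers σ)⟩, 1, fun e => hσ1 (congrArg Subtype.val e)⟩
    haveI := P.2.center_nontrivial
    obtain ⟨⟨⟨z, hzP⟩, hzc⟩, hz1⟩ := exists_ne (1 : Subgroup.center (P : Subgroup G))
    have hzcomm : ∀ y ∈ (P : Subgroup G), y * z = z * y := fun y hy =>
      congrArg Subtype.val (Subgroup.mem_center_iff.1 hzc ⟨y, hy⟩)
    obtain ⟨j, hj⟩ := hCH z (Subgroup.mem_centralizer_singleton_iff.2 (hzcomm σ (hP (Subgroup.mem_zpowers σ))).symm)
    have hle : (P : Subgroup G) ≤ C := fun y hy => by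
      refine Subgroup.mem_centralizer_singleton_iff.2 ?_
      have h := hzcomm y hy
      fin_cases j
      · exact absurd (Subtype.ext (Subtype.ext (by simpa using hj))) hz1
      · rw [show z = σ by simpa using hj] at h; exact h
      · have hs : z ^ 2 = σ := by
          rw [hj, ← pow_mul, show (2 : ℕ) * 2 = 3 + 1 from rfl, pow_succ, hσ3, one_mul]
        rw [← hs]
        exact ((show Commute y z from h).pow_right 2).eq
    have h1 := Subgroup.card_le_of_le hle
    rw [hCcard] at h1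
    have h2 := P.pow_dvd_card_of_pow_dvd_card hd
    have := Nat.le_of_dvd Nat.card_pos h2
    omega
  obtain ⟨c, hc⟩ : ∃ c, 2 ^ a + 1 = 5 ^ c := by
    refine ⟨(2 ^ a + 1).factorization 5, ?_⟩
    refine eq_pow_of_primes (by positivity) ?_
    intro p hp hd
    have hd' : p ∣ Nat.card G := by
      rw [hGcard, ha, add_comm 1]; exact dvd_mul_of_dvd_right hd _
    rcases hG.prime hp hd' with rfl | rfl | rfl
    · exfalso
      have : 2 ∣ 2 ^ a := dvd_pow_self 2 (by omega)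
      omega
    · exfalso
      refine h9 ?_
      rw [hGcard, ha, add_comm 1, mul_assoc, pow_two]
      exact Nat.mul_dvd_mul_left 3 (dvd_mul_of_dvd_right hd _)
    · rfl
  have hc1 : 1 ≤ c := by
    rcases Nat.eq_zero_or_pos c with rfl | h
    · have := Nat.one_le_two_pow (n := a)
      rw [pow_zero] at hc
      omega
    · exact h
  rw [hGcard, ha, two_pow_succ_five ha1 hc1 hc]

variable [IsSimpleGroup G] (hG : Spec G) (hti : ∀ P Q : Sylow 2 G, P ≠ Q → (P : Subgroup G) ⊓ Q = ⊥)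
include hG hti

omit [IsSimpleGroup G] hG in
theorem sylow_unique {x : G} (hx : x ≠ 1) {P Q : Sylow 2 G} (hP : x ∈ (P : Subgroup G))
    (hQ : x ∈ (Q : Subgroup G)) : P = Q := by
  by_contra hne
  have h : x ∈ (P : Subgroup G) ⊓ Q := ⟨hP, hQ⟩
  rw [hti P Q hne] at h
  exact hx (Subgroup.mem_bot.1 h)

omit [IsSimpleGroup G] in
theorem cent_le_sylow {x : G} (hx : orderOf x = 2) {S : Sylow 2 G} (hS : x ∈ (S : Subgroup G)) :
    Subgroup.centralizer ({x} : Set G) ≤ S := by
  obtain ⟨P, hP⟩ := (hG.cent_invol hx).exists_le_sylow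
  rwa [sylow_unique hti (Invol.ne_one_of_orderOf_two hx) hS (hP (Subgroup.mem_centralizer_singleton_iff.2 rfl))]

/-- The trivial intersection case. -/
theorem ti_card (h2 : 2 ∣ Nat.card G) (h3 : 3 ∣ Nat.card G) : Nat.card G = 60 := by
  classical
  haveI : Fact (Nat.Prime 2) := ⟨Nat.prime_two⟩
  haveI : Fact (Nat.Prime 3) := ⟨Nat.prime_three⟩
  obtain ⟨S⟩ : Nonempty (Sylow 2 G) := inferInstance
  have hS1 : (S : Subgroup G) ≠ ⊥ := S.ne_bot_of_dvd_card h2
  have hStop : (S : Subgroup G) ≠ ⊤ := fun e => by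
    obtain ⟨x, hx⟩ := exists_prime_orderOf_dvd_card' (G := G) 3 h3
    have h4 := pow_four_of_two_group hG S.2 (x := x) (e ▸ Subgroup.mem_top x)
    have := orderOf_dvd_of_pow_eq_one h4
    rw [hx] at this
    norm_num at this
  set H := Subgroup.normalizer ((S : Subgroup G) : Set G) with hH
  have hSH : (S : Subgroup G) ≤ H := Subgroup.le_normalizer
  have hHtop : H ≠ ⊤ := fun e => by
    haveI : (S : Subgroup G).Normal := Subgroup.normalizer_eq_top_iff.1 e
    rcases Subgroup.Normal.eq_bot_or_eq_top (H := (S : Subgroup G)) inferInstance with h | h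
    · exact hS1 h
    · exact hStop h
  obtain ⟨g₀, hg₀⟩ : ∃ g, g ∉ H := by
    by_contra h
    push Not at h
    exact hHtop (eq_top_iff.2 fun x _ => h x)
  have hmemH : ∀ {g : G}, (∃ x ∈ (S : Subgroup G), x ≠ 1 ∧ g * x * g⁻¹ ∈ (S : Subgroup G)) → g ∈ H := by
    rintro g ⟨x, hx, hx1, hgx⟩
    refine Sylow.smul_eq_iff_mem_normalizer.1 (sylow_unique hti (x := g * x * g⁻¹)
      (fun e => hx1 (conj_eq_one_iff.1 e)) ?_ hgx)
    rw [Transfer.mem_smul_sylow, show g⁻¹ * (g * x * g⁻¹) * g = x by group]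
    exact hx
  -- one class
  have hconj : ∀ {a b : G}, orderOf a = 2 → orderOf b = 2 → ∀ {P Q : Sylow 2 G}, a ∈ (P : Subgroup G) →
      b ∈ (Q : Subgroup G) → P ≠ Q → IsConj a b := by
    intro a b ha hb P Q haP hbQ hPQ
    refine Invol.isConj_of_odd ha hb (Nat.not_even_iff_odd.1 fun he => ?_)
    obtain ⟨w, hw, hwa, hwb⟩ := Invol.exists_common_commuting_invol ha hb he
    exact hPQ (sylow_unique hti (Invol.ne_one_of_orderOf_two hw)
      (cent_le_sylow hG hti ha haP (Subgroup.mem_centralizer_singleton_iff.2 hwa.eq))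
      (cent_le_sylow hG hti hb hbQ (Subgroup.mem_centralizer_singleton_iff.2 hwb.eq)))
  haveI : Nontrivial (S : Subgroup G) := (Subgroup.nontrivial_iff_ne_bot _).2 hS1
  haveI := S.2.center_nontrivial
  obtain ⟨z, hz, hzS, hzc⟩ : ∃ z, orderOf z = 2 ∧ z ∈ (S : Subgroup G) ∧ ∀ x ∈ (S : Subgroup G), x * z = z * x := by
    obtain ⟨z, hz⟩ := exists_prime_orderOf_dvd_card' (G := Subgroup.center (S : Subgroup G)) 2 (by
      obtain ⟨k, hk⟩ := (S.2.to_subgroup (Subgroup.center (S : Subgroup G))).exists_card_eq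
      rcases Nat.eq_zero_or_pos k with rfl | hk0
      · exact absurd (hk.trans (pow_zero 2)) (Finite.one_lt_card (α := Subgroup.center (S : Subgroup G))).ne'
      · exact hk ▸ dvd_pow_self 2 hk0.ne')
    exact ⟨((z : (S : Subgroup G)) : G), by rw [Subgroup.orderOf_coe, Subgroup.orderOf_coe]; exact hz,
      (z : (S : Subgroup G)).2, fun x hx => congrArg Subtype.val (Subgroup.mem_center_iff.1 z.2 ⟨x, hx⟩)⟩
  have hone : ∀ v, orderOf v = 2 → v ∈ (S : Subgroup G) → ∃ g ∈ H, g * z * g⁻¹ = v := by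
    intro v hv hvS
    have hne : g₀ • S ≠ S := fun e => hg₀ (Sylow.smul_eq_iff_mem_normalizer.1 e)
    have hr : g₀ * z * g₀⁻¹ ∈ ((g₀ • S : Sylow 2 G) : Subgroup G) := by
      rw [Transfer.mem_smul_sylow, show g₀⁻¹ * (g₀ * z * g₀⁻¹) * g₀ = z by group]; exact hzS
    have h1 : IsConj v (g₀ * z * g₀⁻¹) := hconj hv (Invol.conj_orderOf_two hz g₀) hvS hr hne.symm
    obtain ⟨g, hg⟩ := isConj_iff.1 ((isConj_iff.2 ⟨g₀, rfl⟩ : IsConj z _).trans h1.symm)
    exact ⟨g, hmemH ⟨z, hzS, Invol.ne_one_of_orderOf_two hz, hg ▸ hvS⟩, hg⟩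
  have hcentral : ∀ v, orderOf v = 2 → v ∈ (S : Subgroup G) → ∀ x ∈ (S : Subgroup G), x * v = v * x := by
    intro v hv hvS x hx
    obtain ⟨g, hg, rfl⟩ := hone v hv hvS
    have h := hzc (g⁻¹ * x * g) (by
      have := (Subgroup.mem_normalizer_iff.1 (inv_mem hg) x).1 hx
      rwa [inv_inv] at this)
    calc x * (g * z * g⁻¹) = g * ((g⁻¹ * x * g) * z) * g⁻¹ := by group
      _ = g * (z * (g⁻¹ * x * g)) * g⁻¹ := by rw [h]
      _ = _ := by group
  -- the involutions with one form a subgroup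
  have hord : ∀ {x : G}, x * x = 1 → x ≠ 1 → orderOf x = 2 := fun h h1 => orderOf_eq_two_of h h1
  let E : Subgroup G :=
    { carrier := {x | x ∈ (S : Subgroup G) ∧ x * x = 1}
      one_mem' := ⟨one_mem _, one_mul 1⟩
      mul_mem' := fun {a b} ha hb => ⟨mul_mem ha.1 hb.1, by
        rcases eq_or_ne b 1 with rfl | hb1
        · simpa using ha.2
        rw [(show Commute b a from (hcentral b (hord hb.2 hb1) hb.1 a ha.1).symm).mul_mul_mul_comm, ha.2, hb.2,
          one_mul]⟩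
      inv_mem' := fun {a} ha => ⟨inv_mem ha.1, by rw [← mul_inv_rev, ha.2, inv_one]⟩ }
  have hEc : ∀ x ∈ E, ∀ y ∈ E, x * y = y * x := fun x hx y hy => by
    rcases eq_or_ne y 1 with rfl | hy1
    · simp
    · exact hcentral y (hord hy.2 hy1) hy.1 x hx.1
  have hE2 : ∀ x ∈ E, x * x = 1 := fun x hx => hx.2
  have hzE : z ∈ E := ⟨hzS, Invol.mul_self_of_orderOf_two hz⟩
  have hE1 : E ≠ ⊥ := fun e => Invol.ne_one_of_orderOf_two hz (Subgroup.mem_bot.1 (e ▸ hzE))
  have hHE : H ≤ Subgroup.normalizer (E : Set G) := fun g hg => Subgroup.mem_normalizer_iff.2 fun x => by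
    have h1 := Subgroup.mem_normalizer_iff.1 hg x
    constructor
    · rintro ⟨hxS, hx2⟩
      exact ⟨h1.1 hxS, by rw [show g * x * g⁻¹ * (g * x * g⁻¹) = g * (x * x) * g⁻¹ by group, hx2]; group⟩
    · rintro ⟨hxS, hx2⟩
      refine ⟨h1.2 hxS, ?_⟩
      rw [show g * x * g⁻¹ * (g * x * g⁻¹) = g * (x * x) * g⁻¹ by group] at hx2
      exact conj_eq_one_iff.1 hx2
  -- the count
  set m := Nat.card {v : G // v ∈ E ∧ v ≠ 1} with hm
  have hcardE : Nat.card E = m + 1 := by
    haveI := Fintype.ofFinite E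
    have e : m = Nat.card {v : E // v ≠ 1} := Nat.card_congr
      { toFun := fun v => ⟨⟨v.1, v.2.1⟩, fun e => v.2.2 (congrArg Subtype.val e)⟩
        invFun := fun v => ⟨v.1.1, v.1.2, fun e => v.2 (Subtype.ext e)⟩
        left_inv := fun _ => rfl
        right_inv := fun _ => rfl }
    rw [e, Nat.card_eq_fintype_card, Nat.card_eq_fintype_card, Fintype.card_subtype_compl,
      Fintype.card_subtype_eq]
    have := Fintype.card_pos (α := E)
    omega
  have hHcard : Nat.card H = m * Nat.card (S : Subgroup G) := by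
    have e := Invol.card_isConj_mul_card_centralizer (G := H) ⟨z, hSH hzS⟩
    have h1 : Nat.card {v : H // IsConj (⟨z, hSH hzS⟩ : H) v} = m := by
      refine Nat.card_eq_of_bijective (fun v => ⟨(v.1 : G), ?_⟩) ⟨?_, ?_⟩
      · obtain ⟨c, hc⟩ := isConj_iff.1 v.2
        have hc' : (c : G) * z * (c : G)⁻¹ = v.1 := congrArg Subtype.val hc
        have h := Invol.conj_orderOf_two hz (c : G)
        rw [hc'] at h
        exact ⟨⟨hc' ▸ (Subgroup.mem_normalizer_iff.1 c.2 z).1 hzS, Invol.mul_self_of_orderOf_two h⟩,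
          Invol.ne_one_of_orderOf_two h⟩
      · intro a b e
        exact Subtype.ext (Subtype.ext (congrArg Subtype.val e :))
      · rintro ⟨v, ⟨hvS, hv2⟩, hv1⟩
        obtain ⟨g, hg, hgv⟩ := hone v (hord hv2 hv1) hvS
        exact ⟨⟨⟨v, hSH hvS⟩, isConj_iff.2 ⟨⟨g, hg⟩, Subtype.ext hgv⟩⟩, rfl⟩
    have h2 : Nat.card (Subgroup.centralizer ({(⟨z, hSH hzS⟩ : H)} : Set H)) = Nat.card (S : Subgroup G) := by
      refine Nat.card_congr ⟨fun c => ⟨((c : H) : G), cent_le_sylow hG hti hz hzS (Subgroup.mem_centralizer_singleton_iff.2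
        (congrArg Subtype.val (Subgroup.mem_centralizer_singleton_iff.1 c.2)))⟩, fun s => ⟨⟨s, hSH s.2⟩,
        Subgroup.mem_centralizer_singleton_iff.2 (Subtype.ext (hzc s s.2))⟩, fun _ => rfl, fun _ => rfl⟩
    rw [← e, h1, h2]
  have hScard : Nat.card (S : Subgroup G) = 2 ^ (Nat.card G).factorization 2 := S.card_eq_multiplicity
  have hmodd : ¬ 2 ∣ m := by
    obtain ⟨k, hk⟩ := (S.2.to_le (show E ≤ S from fun x hx => hx.1)).exists_card_eq
    have h1 : 1 < Nat.card E := Finite.one_lt_card_iff_nontrivial.2 ((Subgroup.nontrivial_iff_ne_bot E).2 hE1)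
    rw [hcardE] at hk h1
    rcases Nat.eq_zero_or_pos k with rfl | hk0
    · rw [hk, pow_zero] at h1; omega
    · intro hd
      have : 2 ∣ m + 1 := hk ▸ dvd_pow_self 2 hk0.ne'
      omega
  have hm15 : m ∣ 15 := by
    have hdiv : m ∣ Nat.card H := Dvd.intro _ hHcard.symm
    have hprime : ∀ p, p.Prime → p ∣ m → p = 3 ∨ p = 5 := fun p hp hd => by
      rcases hG.prime hp ((hd.trans hdiv).trans (Subgroup.card_subgroup_dvd_card H)) with rfl | h
      · exact absurd hd hmodd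
      · exact h
    have hm0 : m ≠ 0 := fun e => hmodd (e ▸ dvd_zero 2)
    have hsf : Squarefree m := Nat.squarefree_iff_prime_squarefree.2 fun p hp hd => by
      haveI := Fact.mk hp
      refine no_sq_acting hG hE1 hEc hE2 hHE (p := p) (hprime p hp ((dvd_mul_right p p).trans hd)) ?_
      rw [pow_two]; exact hd.trans hdiv
    rw [← Nat.prod_primeFactors_of_squarefree hsf, show (15 : ℕ) = ∏ p ∈ ({3, 5} : Finset ℕ), p by simp]
    refine Finset.prod_dvd_prod_of_subset _ _ _ fun p hp => ?_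
    rw [Nat.mem_primeFactors] at hp
    simpa using hprime p hp.1 hp.2.1
  haveI : ((S : Subgroup G).subgroupOf H).Normal := Subgroup.normal_in_normalizer
  have hm13 : m = 1 ∨ m = 3 := by
    obtain ⟨k, hk⟩ := (S.2.to_le (show E ≤ S from fun x hx => hx.1)).exists_card_eq
    rw [hcardE] at hk
    have hle := Nat.le_of_dvd (by norm_num) hm15
    have hk4 : k ≤ 4 := (Nat.pow_le_pow_iff_right (show 1 < 2 by norm_num)).1 (by omega : 2 ^ k ≤ 2 ^ 4)
    interval_cases k <;> norm_num at hk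
    · exact absurd (dvd_zero 2) (hk ▸ hmodd)
    · exact Or.inl (by omega)
    · exact Or.inr (by omega)
    · rw [show m = 7 by omega] at hm15; norm_num at hm15
    · exfalso
      refine card_ne_fifteen ((hG.subgroup H).quotient ((S : Subgroup G).subgroupOf H)) ?_
      have e := Subgroup.card_eq_card_quotient_mul_card_subgroup ((S : Subgroup G).subgroupOf H)
      rw [hHcard, Nat.card_congr (Subgroup.subgroupOfEquivOfLe hSH).toEquiv, show m = 15 by omega] at e
      exact (Nat.eq_of_mul_eq_mul_right Nat.card_pos e).symm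
  -- different conjugates of `H` meet in odd order
  have hodd : ∀ g : G, g ∉ H → ∀ x ∈ (S : Subgroup G), x ∈ H.map (MulAut.conj g).toMonoidHom → x = 1 := by
    rintro g hg x hxS ⟨y, hy, rfl⟩
    by_contra hne
    refine hg (hmemH ⟨y, ?_, fun e => hne (by simp [e]), hxS⟩)
    refine mem_sylow_of_normalizes hG S ?_ hy
    have h4 := pow_four_of_two_group hG S.2 hxS
    rw [← map_pow] at h4
    exact (MulEquiv.injective (MulAut.conj g)) (h4.trans (map_one _).symm)
  rcases hm13 with hm1 | hm3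
  · exfalso
    have hHS : H = (S : Subgroup G) := (Subgroup.eq_of_le_of_card_ge hSH (by rw [hHcard, hm1, one_mul])).symm
    have hF : Cfsg.IsFrobeniusComplement H := by
      refine ⟨fun e => hS1 (eq_bot_iff.2 (e ▸ hSH)), hHtop, fun g hg => (Subgroup.eq_bot_iff_forall _).2 ?_⟩
      rintro x ⟨hxH, hxg⟩
      exact hodd g hg x (hHS ▸ hxH) hxg
    obtain ⟨N, -, hN, hcompl⟩ := FrobCompl.exists_kernel_complement hF
    rcases Subgroup.Normal.eq_bot_or_eq_top (H := N) hN with rfl | rfl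
    · exact hHtop (Subgroup.isComplement'_bot_left.1 hcompl)
    · exact hF.1 (Subgroup.isComplement'_top_left.1 hcompl)
  · refine order_of_three hG S hHtop (by rw [hHcard, hm3]) hodd ?_
    rw [← hm3]
    refine Nat.card_congr (Equiv.subtypeEquivRight fun v => ⟨fun ⟨hv, hvH⟩ => ?_, fun ⟨hv, hv1⟩ => ?_⟩)
    · refine ⟨⟨mem_sylow_of_normalizes hG S ?_ hvH, Invol.mul_self_of_orderOf_two hv⟩, Invol.ne_one_of_orderOf_two hv⟩
      rw [show 4 = 2 * 2 from rfl, pow_mul, pow_two v, Invol.mul_self_of_orderOf_two hv, one_pow]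
    · exact ⟨hord hv.2 hv1, hSH hv.1⟩

end CfsgLib.OneToFive
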