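import Cfsg.Agent.Lib.OneToFive.FiveE
import Cfsg.Agent.Lib.OneToFive.TI
import Cfsg.Agent.Lib.FourOrbit.Basic
import Cfsg.Agent.S0494
import Cfsg.Agent.S0497

/-!
The simple groups with element orders at most five: the alternating groups of degree five and six.
-/

set_option autoImplicit false
set_option linter.style.haveILetI false

namespace CfsgLib.OneToFive

variable {G : Type*} [Group G] [Finite G]

theorem three_primes (hG : Spec G) (hns : ¬ Group.IsSolvable G) :
    2 ∣ Nat.card G ∧ 3 ∣ Nat.card G ∧ 5 ∣ Nat.card G := by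
  refine ⟨?_, ?_, ?_⟩ <;> by_contra h <;> apply hns
  · exact FourOrbit.isSolvable_of_two_primes (q := 3) (r := 5) Nat.prime_three (by norm_num) (by norm_num)
      fun s hs hd => by rcases hG.prime hs hd with e | e | e <;> simp_all <;> omega
  · exact FourOrbit.isSolvable_of_two_primes (q := 2) (r := 5) Nat.prime_two (by norm_num) (by norm_num)
      fun s hs hd => by rcases hG.prime hs hd with e | e | e <;> simp_all <;> omega
  · exact FourOrbit.isSolvable_of_two_primes (q := 2) (r := 3) Nat.prime_two Nat.prime_three (by norm_num)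
      fun s hs hd => by rcases hG.prime hs hd with e | e | e <;> simp_all <;> omega

/-- The simple groups with element orders at most five. -/
theorem simple_cases [IsSimpleGroup G] (hG : Spec G) (hns : ¬ Group.IsSolvable G) :
    Nonempty (G ≃* alternatingGroup (Fin 5)) ∨ Nonempty (G ≃* alternatingGroup (Fin 6)) := by
  haveI : Fact (Nat.Prime 2) := ⟨Nat.prime_two⟩
  obtain ⟨h2, h3, -⟩ := three_primes hG hns
  have hno : ∀ H : Subgroup G, H.index ≠ 2 := fun H hH => by
    haveI := Subgroup.normal_of_index_eq_two hH
    rcases Subgroup.Normal.eq_bot_or_eq_top (H := H) inferInstance with e | e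
    · rw [e, Subgroup.index_bot] at hH
      rw [hH] at h3
      norm_num at h3
    · rw [e, Subgroup.index_top] at hH
      norm_num at hH
  by_cases h : ∃ S R : Sylow 2 G, S ≠ R ∧ (S : Subgroup G) ⊓ R ≠ ⊥
  · obtain ⟨D, M⟩ := exists_maxInt h
    obtain ⟨S, R, -, e⟩ := M.pair
    have hS : D ≤ S := e ▸ inf_le_left
    rcases local_cases hG M hS with hc | ⟨ψ, hψ, hker⟩
    · exact Or.inr (Cfsg.Agent.S0497.result (two_case_card hG M hno hS hc).2)
    · exact absurd hψ fun hψ => five_false hG M hψ hker
  · push Not at h
    exact Or.inl (Cfsg.Agent.S0494.result (ti_card hG h h2 h3))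

end CfsgLib.OneToFive
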