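import Cfsg.Agent.Lib.OneToFive.Outer
import Cfsg.Agent.Lib.Layer.Radical
import Cfsg.Agent.S3992

/-!
The nonsolvable groups with element orders at most five.
-/

set_option autoImplicit false
set_option linter.style.haveILetI false

namespace CfsgLib.OneToFive

variable {G : Type*} [Group G] [Finite G]

theorem Spec.isPrimePow (hG : Spec G) {g : G} (hg : g ≠ 1) : IsPrimePow (orderOf g) := by
  have h1 : orderOf g ≠ 1 := fun e => hg (orderOf_eq_one_iff.1 e)
  rcases hG.order g with h | h | h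
  · rw [((Nat.dvd_prime Nat.prime_three).1 h).resolve_left h1]
    exact Nat.prime_three.isPrimePow
  · obtain ⟨i, -, hi⟩ := (Nat.dvd_prime_pow Nat.prime_two (m := 2)).1 (show orderOf g ∣ 2 ^ 2 from h)
    rw [hi] at h1 ⊢
    exact Nat.prime_two.isPrimePow.pow fun e => h1 (by rw [e, pow_zero])
  · rw [((Nat.dvd_prime (by norm_num)).1 h).resolve_left h1]
    exact (by norm_num : Nat.Prime 5).isPrimePow

/-- Inverters transported along an isomorphism. -/
theorem inverted_of_iso {M : Subgroup G} {n : ℕ} (e : M ≃* alternatingGroup (Fin n))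
    (h : ∀ x : alternatingGroup (Fin n), x ^ 3 = 1 ∨ x ^ 5 = 1 →
      ∃ t : alternatingGroup (Fin n), t * t = 1 ∧ t ≠ 1 ∧ t * x * t = x⁻¹) :
    ∀ x ∈ M, (x ^ 3 = 1 ∨ x ^ 5 = 1) → x ≠ 1 → ∃ t ∈ M, orderOf t = 2 ∧ t * x * t = x⁻¹ := by
  intro x hx h35 _
  obtain ⟨t, ht2, ht1, hti⟩ := h (e ⟨x, hx⟩) (h35.imp
    (fun h => by rw [← map_pow, show (⟨x, hx⟩ : M) ^ 3 = 1 from Subtype.ext h, map_one])
    (fun h => by rw [← map_pow, show (⟨x, hx⟩ : M) ^ 5 = 1 from Subtype.ext h, map_one]))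
  obtain ⟨⟨t', ht'⟩, rfl⟩ := e.surjective t
  refine ⟨t', ht', orderOf_eq_two_of (congrArg Subtype.val (e.injective ((map_mul e ⟨t', ht'⟩ ⟨t', ht'⟩).trans
    (ht2.trans e.map_one.symm)) : (⟨t', ht'⟩ : M) * ⟨t', ht'⟩ = 1)) (fun h' => ht1 ?_),
    congrArg Subtype.val (e.injective ((show e (⟨t', ht'⟩ * ⟨x, hx⟩ * ⟨t', ht'⟩) = e (⟨x, hx⟩)⁻¹ by
      rw [map_mul, map_mul, hti, map_inv])))⟩
  rw [show (⟨t', ht'⟩ : M) = 1 from Subtype.ext h', map_one]

/-- A normal simple subgroup below all nontrivial normal subgroups is everything. -/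
theorem top_of_min (hG : Spec G) {M : Subgroup G} [M.Normal]
    (hM : Nonempty (M ≃* alternatingGroup (Fin 5)) ∨ Nonempty (M ≃* alternatingGroup (Fin 6))) : M = ⊤ := by
  refine top_le_iff.1 fun u _ => ?_
  haveI : Fact (Nat.Prime 3) := ⟨Nat.prime_three⟩
  haveI : Fact (Nat.Prime 5) := ⟨by norm_num⟩
  rcases hM with ⟨⟨e⟩⟩ | ⟨⟨e⟩⟩
  · exact no_outer_five hG e (inverted_of_iso e alt5_inverted) u
  · have hc : Nat.card M = 360 := by
      rw [Nat.card_congr e.toEquiv, nat_card_alternatingGroup, Nat.card_fin]; decide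
    rcases hG u with h | h | h
    · exact no_outer_prime hG (Or.inl rfl) (by rw [hc]; norm_num) (inverted_of_iso e alt6_inverted) h
    · refine no_outer_two_six hG e (no_outer_two_six hG e ?_)
      rw [show u * u * (u * u) = u ^ 4 by simp [pow_succ, mul_assoc], h]
      exact one_mem M
    · exact no_outer_prime hG (Or.inr rfl) (by rw [hc]; norm_num) (inverted_of_iso e alt6_inverted) h

/-- Three involutions and a normal subgroup of odd order. -/
theorem odd_normal_trivial (hG : Spec G) {R : Subgroup G} [R.Normal] {p : ℕ} [Fact p.Prime] (hp : p ≠ 2)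
    (hR : IsPGroup p R) {a b : G ⧸ R} (ha : a * a = 1) (hb : b * b = 1) (hab : a * b = b * a) (ha1 : a ≠ 1)
    (hb1 : b ≠ 1) (hne : a ≠ b) : R = ⊥ := by
  have h2p : Nat.Coprime 4 p := by
    rw [Nat.coprime_comm, (Fact.out : p.Prime).coprime_iff_not_dvd]
    intro h
    have h' := ((Nat.dvd_prime_pow Nat.prime_two (m := 2)).1 (show p ∣ 2 ^ 2 from h))
    obtain ⟨i, -, hi⟩ := h'
    rcases Nat.eq_zero_or_pos i with rfl | hi0
    · exact (Fact.out : p.Prime).ne_one hi
    · exact hp ((Nat.prime_dvd_prime_iff_eq Fact.out Nat.prime_two).1 (Dvd.dvd.trans (dvd_refl p) (hi ▸ (Fact.out : p.Prime).dvd_of_dvd_pow (show p ∣ 2 ^ i from hi ▸ dvd_refl p) : p ∣ 2)))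
  have lift : ∀ c : G, (c : G ⧸ R) * c = 1 → (c : G ⧸ R) ≠ 1 → c * c = 1 ∧ ∀ r ∈ R, c * r = r * c → r = 1 := by
    intro c hc hc1
    have hord : orderOf (c : G ⧸ R) = 2 := orderOf_eq_two_of hc hc1
    have h4 : c ^ 4 = 1 := by
      rcases hG c with h | h | h
      all_goals first
        | exact h
        | (exfalso
           have := orderOf_dvd_of_pow_eq_one (show (c : G ⧸ R) ^ _ = 1 by rw [← QuotientGroup.mk_pow, h]; rfl)
           rw [hord] at this
           norm_num at this)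
    have hmem : c * c ∈ R := (QuotientGroup.eq_one_iff _).1 (by rw [QuotientGroup.mk_mul]; exact hc)
    obtain ⟨k, hk⟩ := hR ⟨c * c, hmem⟩
    have hc2 : c * c = 1 := by
      refine orderOf_eq_one_iff.1 (Nat.eq_one_of_dvd_coprimes (h2p.pow_right k)
        (orderOf_dvd_of_pow_eq_one ?_) (orderOf_dvd_of_pow_eq_one (congrArg Subtype.val hk : (c * c) ^ p ^ k = 1)))
      rw [(Commute.refl c).mul_pow, h4, one_mul]
    refine ⟨hc2, fun r hr hcr => ?_⟩
    obtain ⟨j, hj⟩ := hR ⟨r, hr⟩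
    refine ((hG.commute_cases (show Commute c r from hcr) ?_).resolve_left fun e => hc1 (by rw [e]; rfl))
    exact Nat.Coprime.coprime_dvd_left (orderOf_dvd_of_pow_eq_one h4)
      (Nat.Coprime.coprime_dvd_right (orderOf_dvd_of_pow_eq_one (congrArg Subtype.val hj : r ^ p ^ j = 1))
        (h2p.pow_right j))
  obtain ⟨α, rfl⟩ := QuotientGroup.mk_surjective a
  obtain ⟨β, rfl⟩ := QuotientGroup.mk_surjective b
  obtain ⟨hα, hαf⟩ := lift α ha ha1
  obtain ⟨hβ, hβf⟩ := lift β hb hb1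
  have hab1 : ((α * β : G) : G ⧸ R) ≠ 1 := fun e => hne (by
    rw [QuotientGroup.mk_mul] at e
    exact (inv_eq_of_mul_eq_one_right ha).symm.trans (inv_eq_of_mul_eq_one_right e))
  obtain ⟨hγ, hγf⟩ := lift (α * β) (by
    rw [QuotientGroup.mk_mul]
    rw [(show Commute (β : G ⧸ R) α from hab.symm).mul_mul_mul_comm, ha, hb, one_mul]) hab1
  have hn : ∀ c : G, c * c = 1 → ∀ r ∈ R, c * r * c ∈ R := fun c hc r hr => by
    have := ‹R.Normal›.conj_mem r hr c
    rwa [inv_eq_of_mul_eq_one_right hc] at this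
  refine (Subgroup.eq_bot_iff_forall R).2 fun r hr => ?_
  have e1 := inverts_of_fpf hα (hn α hα) hαf r hr
  have e2 := inverts_of_fpf hβ (hn β hβ) hβf r⁻¹ (inv_mem hr)
  refine hγf r hr ?_
  rw [inv_inv] at e2
  have hβr : β * r * β = r⁻¹ := by
    calc β * r * β = β * (β * r⁻¹ * β) * β := by rw [e2]
      _ = (β * β) * r⁻¹ * (β * β) := by group
      _ = _ := by rw [hβ, one_mul, mul_one]
  calc α * β * r = α * (β * r * β) * β := by
        rw [show α * (β * r * β) * β = α * β * r * (β * β) by group, hβ, mul_one]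
    _ = α * r⁻¹ * β := by rw [hβr]
    _ = α * r⁻¹ * α * (α * β) := by
        rw [show α * r⁻¹ * α * (α * β) = α * r⁻¹ * (α * α) * β by group, hα, mul_one]
    _ = _ := by
        rw [show α * r⁻¹ * α = r by
          rw [← e1, show α * (α * r * α) * α = (α * α) * r * (α * α) by group, hα, one_mul, mul_one]]

/-- An involution over a given involution inverting a lift of an element of order three. -/
theorem exists_inverting_lift (hG : Spec G) {R : Subgroup G} [R.Normal] (hR : IsPGroup 2 R)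
    (e : G ⧸ R ≃* alternatingGroup (Fin 5)) :
    ∃ g t : G, g ^ 3 = 1 ∧ g ≠ 1 ∧ (∀ d ∈ R, g * d = d * g → d = 1) ∧
      (∀ d ∈ R, g⁻¹ * d = d * g⁻¹ → d = 1) ∧ g⁻¹ = g * g ∧ t * t = 1 ∧ t * g * t = g⁻¹ ∧
      ∀ r ∈ R, e ((r * t : G) : G ⧸ R) = aV := by
  haveI : Fact (Nat.Prime 2) := ⟨Nat.prime_two⟩
  have hn : Subgroup.normalizer (R : Set G) = ⊤ := Subgroup.normalizer_eq_top R
  obtain ⟨x, s, hx3, hx1, hs2, hs1, hsx, rfl⟩ :
      ∃ x s : alternatingGroup (Fin 5), x ^ 3 = 1 ∧ x ≠ 1 ∧ s * s = 1 ∧ s ≠ 1 ∧ s * x * s = x⁻¹ ∧ s = aV :=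
    ⟨⟨Equiv.swap 0 1 * Equiv.swap 1 4, Equiv.Perm.mem_alternatingGroup.2 (by decide)⟩, aV, by decide +kernel⟩
  obtain ⟨g, hg⟩ : ∃ g : G, e (g : G ⧸ R) = x := by
    obtain ⟨q, hq⟩ := e.surjective x
    obtain ⟨g, rfl⟩ := QuotientGroup.mk_surjective q
    exact ⟨g, hq⟩
  obtain ⟨a, ha⟩ : ∃ a : G, e (a : G ⧸ R) = aV := by
    obtain ⟨q, hq⟩ := e.surjective aV
    obtain ⟨a, rfl⟩ := QuotientGroup.mk_surjective q
    exact ⟨a, hq⟩
  have hkey : ∀ c : G, e (c : G ⧸ R) = 1 → c ∈ R := fun c hc =>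
    (QuotientGroup.eq_one_iff c).1 (e.injective (hc.trans e.map_one.symm))
  have hg3 : g ^ 3 = 1 := by
    have key : ∀ n, g ^ n = 1 → Nat.Coprime n 3 → False := fun n hn' hco => by
      refine hx1 (orderOf_eq_one_iff.1 (Nat.eq_one_of_dvd_coprimes hco (orderOf_dvd_of_pow_eq_one ?_)
        (orderOf_dvd_of_pow_eq_one hx3)))
      rw [← hg, ← map_pow, ← QuotientGroup.mk_pow, hn', QuotientGroup.mk_one, map_one]
    rcases hG g with h | h | h
    · exact h
    · exact (key 4 h (by norm_num)).elim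
    · exact (key 5 h (by norm_num)).elim
  have hg1 : g ≠ 1 := fun h => hx1 (by rw [← hg, h, QuotientGroup.mk_one, map_one])
  have hfpf : ∀ d ∈ R, g * d = d * g → d = 1 := fun d hd hc =>
    (hG.not_commute (show Commute d g from hc.symm) (pow_four_of_two_group hG hR hd) (Or.inl hg3)).resolve_right hg1
  have hgi : g⁻¹ = g * g := inv_eq_of_mul_eq_one_right (by rw [← hg3]; simp [pow_succ, mul_assoc])
  -- correct the lift of the involution
  have hconj : ∀ c d : G, d ∈ R → c * d * c⁻¹ ∈ R := fun c d hd => ‹R.Normal›.conj_mem d hd c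
  have hfpf' : ∀ d ∈ R, g⁻¹ * d = d * g⁻¹ → d = 1 := fun d hd hc => hfpf d hd (by
    calc g * d = g * (d * g⁻¹) * g := by group
      _ = g * (g⁻¹ * d) * g := by rw [hc]
      _ = _ := by group)
  have hinj : Function.Injective (fun d : R => (⟨(d : G) * (g⁻¹ * (d : G)⁻¹ * g⁻¹⁻¹),
      mul_mem d.2 (hconj _ _ (inv_mem d.2))⟩ : R)) := fun u v h => by
    have h' : (u : G) * (g⁻¹ * (u : G)⁻¹ * g⁻¹⁻¹) = v * (g⁻¹ * (v : G)⁻¹ * g⁻¹⁻¹) := congrArg Subtype.val h
    refine Subtype.ext (inv_mul_eq_one.1 (hfpf' _ (mul_mem (inv_mem v.2) u.2) ?_)).symm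
    calc g⁻¹ * ((v : G)⁻¹ * u) = (v : G)⁻¹ * ((v : G) * (g⁻¹ * (v : G)⁻¹ * g⁻¹⁻¹)) * g⁻¹ * u := by group
      _ = _ := by rw [← h']; group
  have hmem : a * g * a⁻¹ * g ∈ R := hkey _ (by
    rw [QuotientGroup.mk_mul, QuotientGroup.mk_mul, QuotientGroup.mk_mul, QuotientGroup.mk_inv, map_mul, map_mul,
      map_mul, map_inv, ha, hg, inv_eq_of_mul_eq_one_right hs2, hsx, inv_mul_cancel])
  obtain ⟨⟨d, hd⟩, hdd⟩ := (Finite.injective_iff_surjective.1 hinj) ⟨_, hmem⟩
  have hdd' : d * g⁻¹ * d⁻¹ = a * g * a⁻¹ := by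
    have := congrArg (fun z : R => (z : G) * g⁻¹) hdd
    simpa [mul_assoc] using this
  set t := d⁻¹ * a with ht
  have hti : t * g * t⁻¹ = g⁻¹ := by
    rw [ht, show d⁻¹ * a * g * (d⁻¹ * a)⁻¹ = d⁻¹ * (a * g * a⁻¹) * d by group, ← hdd']
    group
  have hdt : ∀ r ∈ R, e ((r * t : G) : G ⧸ R) = aV := fun r hr => by
    rw [ht, QuotientGroup.mk_mul, QuotientGroup.mk_mul, (QuotientGroup.eq_one_iff r).2 hr,
      (QuotientGroup.eq_one_iff _).2 (inv_mem hd), one_mul, one_mul, ha]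
  have htt : t * t ∈ R := hkey _ (by
    have := hdt 1 (one_mem R)
    rw [one_mul] at this
    rw [QuotientGroup.mk_mul, map_mul, this, hs2])
  have ht2 : t * t = 1 := hfpf _ htt (by
    have h1 : t * t * g * (t * t)⁻¹ = g := by
      rw [show t * t * g * (t * t)⁻¹ = t * (t * g * t⁻¹) * t⁻¹ by group, hti, ← conj_inv, hti, inv_inv]
    exact (mul_inv_eq_iff_eq_mul.1 h1).symm)
  exact ⟨g, t, hg3, hg1, hfpf, hfpf', hgi, ht2, by rw [← hti, inv_eq_of_mul_eq_one_right ht2], hdt⟩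

/-- A normal two-subgroup below an alternating group of degree five is elementary abelian. -/
theorem elementary_normal (hG : Spec G) {R : Subgroup G} [R.Normal] (hR : IsPGroup 2 R)
    (e : G ⧸ R ≃* alternatingGroup (Fin 5)) : (∀ a ∈ R, ∀ b ∈ R, a * b = b * a) ∧ ∀ a ∈ R, a * a = 1 := by
  obtain ⟨g, t, hg3, hg1, hfpf, hfpf', hgi, ht2, hti, hdt⟩ := exists_inverting_lift hG hR e
  obtain ⟨hs2, hs1⟩ : aV * aV = 1 ∧ aV ≠ 1 := by decide +kernel
  have hn : Subgroup.normalizer (R : Set G) = ⊤ := Subgroup.normalizer_eq_top R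
  refine elementary_of_inverted hR (y := g) (t := t) (hn ▸ Subgroup.mem_top g) (hn ▸ Subgroup.mem_top t) hfpf
    (fun r hr hc => hfpf' r hr (by rw [hgi]; exact hc)) ht2
    hti fun r hr => ?_
  have key : ∀ n, (r * t) ^ n = 1 → Odd n → False := fun n hn' hodd => by
    have h1 : aV ^ n = 1 := by rw [← hdt r hr, ← map_pow, ← QuotientGroup.mk_pow, hn', QuotientGroup.mk_one, map_one]
    obtain ⟨k, rfl⟩ := hodd
    rw [pow_succ, pow_mul, pow_two, hs2, one_pow, one_mul] at h1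
    exact hs1 h1
  rcases hG (r * t) with h | h | h
  · exact (key 3 h (by decide)).elim
  · exact h
  · exact (key 5 h (by decide)).elim

/-- The nonsolvable groups with element orders at most five. -/
theorem structure_cases (hG : Spec G) (hns : ¬ Group.IsSolvable G) :
    Nonempty (G ≃* alternatingGroup (Fin 6)) ∨
      ∃ (R : Subgroup G) (_ : R.Normal), (∀ a ∈ R, ∀ b ∈ R, a * b = b * a) ∧ (∀ a ∈ R, a * a = 1) ∧
        Nonempty (G ⧸ R ≃* alternatingGroup (Fin 5)) := by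
  haveI := Layer.solvableRadical_normal G
  set R := Cfsg.solvableRadical G with hR
  obtain ⟨⟨p, hp, hRp⟩, ⟨M, hMn, hMs, hMna, -⟩, -⟩ :=
    Cfsg.Agent.S3992.result hns (fun g hg => hG.isPrimePow hg) R Layer.solvableRadical_isSolvable
      (fun N hN hNs => Layer.le_solvableRadical hN hNs)
  haveI := hMn
  haveI := hMs
  haveI := Fact.mk hp
  have hMns : ¬ Group.IsSolvable M := fun h => hMna ⟨⟨fun a b => IsSimpleGroup.comm_iff_isSolvable.mpr h a b⟩⟩
  have hcases := simple_cases ((hG.quotient R).subgroup M) hMns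
  have hM := top_of_min (hG.quotient R) hcases
  have f : M ≃* G ⧸ R := (MulEquiv.subgroupCongr hM).trans Subgroup.topEquiv
  -- the radical is a two-group
  have hfour : ∃ a b : G ⧸ R, a * a = 1 ∧ b * b = 1 ∧ a * b = b * a ∧ a ≠ 1 ∧ b ≠ 1 ∧ a ≠ b := by
    have tr : ∀ {n : ℕ} (e : M ≃* alternatingGroup (Fin n)) (a b : alternatingGroup (Fin n)), a * a = 1 →
        b * b = 1 → a * b = b * a → a ≠ 1 → b ≠ 1 → a ≠ b →
        ∃ a b : G ⧸ R, a * a = 1 ∧ b * b = 1 ∧ a * b = b * a ∧ a ≠ 1 ∧ b ≠ 1 ∧ a ≠ b := by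
      intro n e a b h1 h2 h3 h4 h5 h6
      let φ := e.symm.trans f
      exact ⟨φ a, φ b, by rw [← map_mul, h1, map_one], by rw [← map_mul, h2, map_one], by
        rw [← map_mul, h3, map_mul], fun h => h4 (φ.injective (h.trans φ.map_one.symm)),
        fun h => h5 (φ.injective (h.trans φ.map_one.symm)), fun h => h6 (φ.injective h)⟩
    rcases hcases with ⟨⟨e⟩⟩ | ⟨⟨e⟩⟩
    · exact tr e aV (aS * aV * aS⁻¹) (by decide +kernel) (by decide +kernel) (by decide +kernel) (by decide +kernel)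
        (by decide +kernel) (by decide +kernel)
    · obtain ⟨a, b, -, h1, h2, h3, h4, h5, h6, -⟩ := alt6_four
      exact tr e a b h1 h2 h3 h4 h5 h6
  haveI : Fact (Nat.Prime 2) := ⟨Nat.prime_two⟩
  have hR2 : IsPGroup 2 R := by
    rcases eq_or_ne p 2 with rfl | hp2
    · exact hRp
    · obtain ⟨a, b, h1, h2, h3, h4, h5, h6⟩ := hfour
      rw [odd_normal_trivial hG hp2 hRp h1 h2 h3 h4 h5 h6]
      exact IsPGroup.of_bot
  rcases hcases with ⟨⟨e⟩⟩ | ⟨⟨e⟩⟩
  · obtain ⟨h1, h2⟩ := elementary_normal hG hR2 (f.symm.trans e)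
    exact Or.inr ⟨R, inferInstance, h1, h2, ⟨f.symm.trans e⟩⟩
  · have hbot : R = ⊥ := by
      by_contra hne
      haveI : Nontrivial R := (Subgroup.nontrivial_iff_ne_bot R).2 hne
      haveI := hR2.center_nontrivial
      have hZc : ∀ z ∈ Subgroup.center R, ∀ r : R, r * z = z * r := fun z hz => Subgroup.mem_center_iff.1 hz
      let K : Subgroup R :=
        { carrier := {z | z ∈ Subgroup.center R ∧ z * z = 1}
          one_mem' := ⟨one_mem _, one_mul 1⟩
          mul_mem' := fun {x y} hx hy => ⟨mul_mem hx.1 hy.1, by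
            rw [(show Commute y x from hZc x hx.1 y).mul_mul_mul_comm, hx.2, hy.2, one_mul]⟩
          inv_mem' := fun {x} hx => ⟨inv_mem hx.1, by rw [← mul_inv_rev, hx.2, inv_one]⟩ }
      set E := K.map R.subtype
      have hE1 : E ≠ ⊥ := by
        obtain ⟨z, hz⟩ := exists_prime_orderOf_dvd_card' (G := Subgroup.center R) 2 (by
          obtain ⟨k, hk⟩ := (hR2.to_subgroup (Subgroup.center R)).exists_card_eq
          rcases Nat.eq_zero_or_pos k with rfl | hk0
          · exact absurd (hk.trans (pow_zero 2)) (Finite.one_lt_card (α := Subgroup.center R)).ne'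
          · exact hk ▸ dvd_pow_self 2 hk0.ne')
        intro hE
        have h1 : ((z : R) : G) ∈ E := ⟨z, ⟨z.2, by rw [← Subgroup.coe_mul, Invol.mul_self_of_orderOf_two hz]; rfl⟩, rfl⟩
        rw [hE, Subgroup.mem_bot] at h1
        exact Invol.ne_one_of_orderOf_two hz (Subtype.ext (Subtype.ext h1))
      refine no_sq_acting hG hE1 ?_ ?_ (H := ⊤) ?_ (p := 3) (Or.inl rfl) ?_
      · rintro _ ⟨x, hx, rfl⟩ _ ⟨y, hy, rfl⟩
        rw [← map_mul, ← map_mul, hZc y hy.1 x]
      · rintro _ ⟨x, hx, rfl⟩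
        rw [← map_mul, hx.2, map_one]
      · intro g _
        have key : ∀ (c : G), ∀ x ∈ E, c * x * c⁻¹ ∈ E := by
          rintro c _ ⟨x, ⟨hxc, hx2⟩, rfl⟩
          refine ⟨⟨c * x * c⁻¹, ‹R.Normal›.conj_mem x x.2 c⟩, ⟨Subgroup.mem_center_iff.2 fun r => Subtype.ext ?_,
            Subtype.ext ?_⟩, rfl⟩
          · have h := congrArg Subtype.val (hZc x hxc ⟨c⁻¹ * r * c, by
              have := ‹R.Normal›.conj_mem r r.2 c⁻¹
              rwa [inv_inv] at this⟩)
            show (r : G) * (c * x * c⁻¹) = c * x * c⁻¹ * r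
            have h' : c⁻¹ * (r : G) * c * x = x * (c⁻¹ * r * c) := h
            calc (r : G) * (c * x * c⁻¹) = c * (c⁻¹ * r * c * x) * c⁻¹ := by group
              _ = c * (x * (c⁻¹ * r * c)) * c⁻¹ := by rw [h']
              _ = _ := by group
          · show c * (x : G) * c⁻¹ * (c * x * c⁻¹) = 1
            have h' : (x : G) * x = 1 := congrArg Subtype.val hx2
            rw [show c * (x : G) * c⁻¹ * (c * x * c⁻¹) = c * (x * x) * c⁻¹ by group, h']; group
        refine Subgroup.mem_normalizer_iff.2 fun x => ⟨key g x, fun h => ?_⟩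
        have := key g⁻¹ _ h
        simpa [mul_assoc] using this
      · rw [Subgroup.card_top, Subgroup.card_eq_card_quotient_mul_card_subgroup R,
          Nat.card_congr (f.symm.trans e).toEquiv, nat_card_alternatingGroup, Nat.card_fin]
        exact Dvd.dvd.mul_right (by norm_num [Nat.factorial]) _
    exact Or.inl ⟨(QuotientGroup.quotientBot.symm.trans (QuotientGroup.quotientMulEquivOfEq hbot.symm)).trans
      (f.symm.trans e)⟩

end CfsgLib.OneToFive
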