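import Cfsg.Agent.Lib.OneToFive.Quot
import Cfsg.Agent.Lib.Transfer.Thompson
import Cfsg.Agent.Lib.SmallTwo.DihedralRec
import Cfsg.Agent.Lib.DihBlock.Eight

/-!
A maximal intersection of index two in a Sylow subgroup of its normalizer: the involution centralizer is
dihedral of order eight.
-/

set_option autoImplicit false
set_option linter.style.haveILetI false
set_option linter.unusedSectionVars false

namespace CfsgLib.OneToFive

variable {G : Type*} [Group G] [Finite G] {D : Subgroup G} (hG : Spec G) (M : MaxInt D)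
include hG M

omit M in
/-- A `2`-subgroup containing a Sylow subgroup is that subgroup. -/
theorem cent_eq_sylow {z : G} (hz : orderOf z = 2) {S : Sylow 2 G}
    (hle : (S : Subgroup G) ≤ Subgroup.centralizer ({z} : Set G)) :
    Subgroup.centralizer ({z} : Set G) = (S : Subgroup G) :=
  S.3 (hG.cent_invol hz) hle

omit hG M in
theorem card_le_sylow {P : Subgroup G} (hP : IsPGroup 2 P) (S : Sylow 2 G) :
    Nat.card P ≤ Nat.card (S : Subgroup G) := by
  haveI : Fact (Nat.Prime 2) := ⟨Nat.prime_two⟩
  obtain ⟨Q, hQ⟩ := hP.exists_le_sylow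
  exact (Subgroup.card_le_of_le hQ).trans (by rw [Sylow.card_eq_multiplicity Q, Sylow.card_eq_multiplicity S])

theorem one_lt_fixed {S : Sylow 2 G} (hS : D ≤ S) {a : G} (haS : a ∈ (S : Subgroup G))
    (haN : a ∈ Subgroup.normalizer (D : Set G)) (haD : a ∉ D) :
    1 < Nat.card (D ⊓ Subgroup.centralizer ({a} : Set G) : Subgroup G) := by
  by_contra hne
  refine M.ne_bot (Subgroup.eq_bot_of_card_eq _ ?_)
  rw [← half hG M hS haS haN haD (sq_mem hG M hS haS haN),
    le_antisymm (Nat.le_of_not_lt hne) Nat.card_pos, one_pow]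

/-- `D` is the only abelian subgroup of its order in a small overgroup. -/
theorem unique_abelian {S : Sylow 2 G} (hS : D ≤ S) {E : Subgroup G}
    (hET : E ≤ (S : Subgroup G) ⊓ Subgroup.normalizer (D : Set G)) (hEc : ∀ x ∈ E, ∀ y ∈ E, x * y = y * x)
    (hcard : Nat.card E = Nat.card D) {c : ℕ}
    (hc : Nat.card ((S : Subgroup G) ⊓ Subgroup.normalizer (D : Set G) : Subgroup G) = c * Nat.card D)
    (hsmall : c ^ 2 < Nat.card D) : E = D := by
  by_contra hne
  obtain ⟨x, hxE, hxD⟩ : ∃ x ∈ E, x ∉ D := by
    by_contra h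
    push_neg at h
    exact hne (Subgroup.eq_of_le_of_card_ge h hcard.ge)
  have hx := hET hxE
  set C := D ⊓ Subgroup.centralizer ({x} : Set G) with hC
  have hq : Nat.card C ^ 2 = Nat.card D := half hG M hS hx.1 hx.2 hxD (sq_mem hG M hS hx.1 hx.2)
  have hle : E ⊓ D ≤ C := fun y hy =>
    ⟨hy.2, Subgroup.mem_centralizer_singleton_iff.2 (hEc y hy.1 x hxE)⟩
  set T := (S : Subgroup G) ⊓ Subgroup.normalizer (D : Set G)
  have hDT : D ≤ T := le_inf hS Subgroup.le_normalizer
  have e1 : D.relIndex T = c := by
    have := Subgroup.card_mul_index (D.subgroupOf T)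
    rw [Nat.card_congr (Subgroup.subgroupOfEquivOfLe hDT).toEquiv, hc, mul_comm c] at this
    exact Nat.eq_of_mul_eq_mul_left Nat.card_pos this
  have h1 : (E ⊓ D).relIndex E ≤ c := by
    rw [Subgroup.inf_relIndex_left, ← e1]
    exact Subgroup.relIndex_le_of_le_right hET (by
      intro h0
      rw [e1] at h0
      rw [h0, zero_mul] at hc
      exact Nat.card_pos.ne' hc)
  have h2 : Nat.card E = Nat.card (E ⊓ D : Subgroup G) * (E ⊓ D).relIndex E := by
    rw [Subgroup.relIndex, ← Nat.card_congr (Subgroup.subgroupOfEquivOfLe (inf_le_left : E ⊓ D ≤ E)).toEquiv,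
      Subgroup.card_mul_index]
  have h3 : Nat.card D ≤ Nat.card C * c := by
    rw [← hcard, h2]; exact Nat.mul_le_mul (Subgroup.card_le_of_le hle) h1
  have h4 : Nat.card C ≤ c := by
    rw [← hq, pow_two] at h3
    exact Nat.le_of_mul_le_mul_left h3 Nat.card_pos
  rw [← hq] at hsmall
  exact absurd (Nat.pow_le_pow_left h4 2) (not_le.2 hsmall)

/-- A large intersection is normal in every Sylow subgroup over it. -/
theorem sylow_le_normalizer {S : Sylow 2 G} (hS : D ≤ S) {c : ℕ}
    (hc : Nat.card ((S : Subgroup G) ⊓ Subgroup.normalizer (D : Set G) : Subgroup G) = c * Nat.card D)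
    (hsmall : c ^ 2 < Nat.card D) : (S : Subgroup G) ≤ Subgroup.normalizer (D : Set G) := by
  haveI : Fact (Nat.Prime 2) := ⟨Nat.prime_two⟩
  set T := (S : Subgroup G) ⊓ Subgroup.normalizer (D : Set G) with hT
  by_contra hne
  have hlt : T < (S : Subgroup G) := lt_of_le_of_ne inf_le_left fun e => hne (e ▸ inf_le_right)
  obtain ⟨g, hg, hgT⟩ := SetLike.exists_of_lt (Transfer.lt_inf_normalizer S.2 hlt)
  obtain ⟨hcomm, -⟩ := elementary hG M
  set E := D.map (MulAut.conj g).toMonoidHom with hE
  have hDT : D ≤ T := le_inf hS Subgroup.le_normalizer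
  have hET : E ≤ T := by
    rintro _ ⟨x, hx, rfl⟩
    exact (Subgroup.mem_normalizer_iff.1 hg.2 x).1 (hDT hx)
  have hED : E = D := unique_abelian hG M hS hET (by
    rintro _ ⟨x, hx, rfl⟩ _ ⟨y, hy, rfl⟩
    rw [← map_mul, ← map_mul, hcomm x hx y hy])
    (Nat.card_congr (Subgroup.equivMapOfInjective D _ (MulEquiv.injective _)).toEquiv.symm) hc hsmall
  exact hgT ⟨hg.1, Subgroup.mem_normalizer_iff.2 fun x => by
    refine ⟨fun hx => hED ▸ Subgroup.mem_map_of_mem _ hx, fun hx => ?_⟩
    rw [← hED] at hx
    obtain ⟨y, hy, e⟩ := hx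
    rwa [← (MulAut.conj g).injective (show MulAut.conj g y = MulAut.conj g x from e)]⟩

/-- The index two case is small. -/
theorem two_small (hno : ∀ H : Subgroup G, H.index ≠ 2) {S : Sylow 2 G} (hS : D ≤ S)
    (hc : Nat.card ((S : Subgroup G) ⊓ Subgroup.normalizer (D : Set G) : Subgroup G) = 2 * Nat.card D) :
    Nat.card D = 4 := by
  obtain ⟨hcomm, hsq⟩ := elementary hG M
  obtain ⟨a, haS, haN, haD, ha2⟩ := exists_sq_mem hG M hS
  obtain ⟨d, hd, -, -, -, -, ht2, -⟩ := exists_inverted hG M hS haS haN haD ha2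
  set t := d * a with ht
  have htS : t ∈ (S : Subgroup G) := mul_mem (hS hd) haS
  have htN : t ∈ Subgroup.normalizer (D : Set G) := mul_mem (Subgroup.le_normalizer hd) haN
  have htD : t ∉ D := fun h => haD (by simpa [t] using mul_mem (inv_mem hd) h)
  have hq := half hG M hS htS htN htD (by rw [ht2]; exact one_mem D)
  have hq1 := one_lt_fixed hG M hS htS htN htD
  set Z := D ⊓ Subgroup.centralizer ({t} : Set G) with hZ
  by_contra hne
  have hq3 : 3 ≤ Nat.card Z := by
    rcases Nat.lt_or_ge (Nat.card Z) 3 with h | h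
    · exact absurd (by rw [← hq, show Nat.card Z = 2 by omega]; rfl) hne
    · exact h
  have hSN := sylow_le_normalizer hG M hS hc (by rw [← hq]; exact Nat.pow_lt_pow_left (by omega) two_ne_zero)
  have hT : (S : Subgroup G) ⊓ Subgroup.normalizer (D : Set G) = S := inf_eq_left.2 hSN
  rw [hT] at hc
  have hrel : D.relIndex (S : Subgroup G) = 2 := by
    have := Subgroup.card_mul_index (D.subgroupOf (S : Subgroup G))
    rw [Nat.card_congr (Subgroup.subgroupOfEquivOfLe hS).toEquiv, hc, mul_comm 2] at this
    exact Nat.eq_of_mul_eq_mul_left Nat.card_pos this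
  obtain ⟨H, -, hH, -⟩ | ⟨g, -, hgD⟩ := Transfer.thompson_transfer S hrel ht2 htS htD
  · exact hno H hH
  set E := D.map (MulAut.conj g⁻¹).toMonoidHom with hE
  have htE : t ∈ E := ⟨_, hgD, by simp [mul_assoc]⟩
  have hEc : ∀ x ∈ E, ∀ y ∈ E, x * y = y * x := by
    rintro _ ⟨x, hx, rfl⟩ _ ⟨y, hy, rfl⟩
    rw [← map_mul, ← map_mul, hcomm x hx y hy]
  have hEcard : Nat.card E = Nat.card D :=
    (Nat.card_congr (Subgroup.equivMapOfInjective D _ (MulEquiv.injective _)).toEquiv.symm)
  have hcentS : ∀ z ∈ Z, z ≠ 1 → Subgroup.centralizer ({z} : Set G) = (S : Subgroup G) := by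
    intro z hz hz1
    refine cent_eq_sylow hG (orderOf_eq_two_of (hsq z hz.1) hz1) fun x hx => ?_
    refine Subgroup.mem_centralizer_singleton_iff.2 ?_
    have hzt : z * t = t * z := Subgroup.mem_centralizer_singleton_iff.1 hz.2
    by_cases hxD : x ∈ D
    · exact hcomm x hxD z hz.1
    · have hxt : x * t ∈ D :=
        (Subgroup.mul_mem_iff_of_index_two (H := D.subgroupOf (S : Subgroup G)) hrel (a := ⟨x, hx⟩) (b := ⟨t, htS⟩)).2
          ⟨fun h => absurd h hxD, fun h => absurd h htD⟩
      calc x * z = x * t * (z * t) := by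
            rw [hzt, show x * t * (t * z) = x * (t * t) * z by group, ht2, mul_one]
        _ = x * t * z * t := by group
        _ = z * (x * t) * t := by rw [hcomm _ hxt z hz.1]
        _ = z * x * (t * t) := by group
        _ = _ := by rw [ht2, mul_one]
  have hdisj : ∀ z ∈ Z, z ∈ E → z = 1 := by
    intro z hz hzE
    by_contra hz1
    have hle : E ≤ (S : Subgroup G) ⊓ Subgroup.normalizer (D : Set G) := by
      rw [hT, ← hcentS z hz hz1]
      exact fun x hx => Subgroup.mem_centralizer_singleton_iff.2 (hEc x hx z hzE)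
    refine htD ?_
    rw [← unique_abelian hG M hS hle hEc hEcard (by rw [hT]; exact hc)
      (by rw [← hq]; exact Nat.pow_lt_pow_left (by omega) two_ne_zero)]
    exact htE
  have htord : orderOf t = 2 := orderOf_eq_two_of ht2 fun e => htD (e ▸ one_mem D)
  set P := Subgroup.centralizer ({t} : Set G)
  have hEP : E ≤ P := fun x hx => Subgroup.mem_centralizer_singleton_iff.2 (hEc x hx t htE)
  have hinj : Nat.card Z * Nat.card E ≤ Nat.card P := by
    rw [← Nat.card_prod]
    refine Nat.card_le_card_of_injective (fun p : Z × E => (⟨(p.1 : G) * p.2, mul_mem p.1.2.2 (hEP p.2.2)⟩ : P)) ?_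
    rintro ⟨x, y⟩ ⟨x', y'⟩ e
    have e' : (x : G) * y = x' * y' := congrArg Subtype.val e
    have e'' : (x' : G)⁻¹ * x = y' * (y : G)⁻¹ := by
      calc (x' : G)⁻¹ * x = (x' : G)⁻¹ * ((x : G) * y) * (y : G)⁻¹ := by group
        _ = _ := by rw [e']; group
    have h1 := hdisj _ (mul_mem (inv_mem x'.2) x.2) (e''.symm ▸ mul_mem y'.2 (inv_mem y.2))
    rw [h1] at e''
    exact Prod.ext (Subtype.ext (inv_mul_eq_one.1 h1).symm) (Subtype.ext (mul_inv_eq_one.1 e''.symm).symm)
  have hup := card_le_sylow (hG.cent_invol htord) S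
  rw [hc] at hup
  rw [hEcard] at hinj
  have := Nat.le_of_mul_le_mul_right (hinj.trans hup) Nat.card_pos
  omega

/-- The centralizer of an involution is dihedral of order eight. -/
theorem exists_dihedral {S : Sylow 2 G} (hS : D ≤ S) (h4 : Nat.card D = 4)
    (hc : Nat.card ((S : Subgroup G) ⊓ Subgroup.normalizer (D : Set G) : Subgroup G) = 2 * Nat.card D) :
    ∃ z : G, orderOf z = 2 ∧ Nonempty (↥(Subgroup.centralizer ({z} : Set G)) ≃* DihedralGroup 4) := by
  classical
  haveI : Fact (Nat.Prime 2) := ⟨Nat.prime_two⟩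
  obtain ⟨hcomm, hsq⟩ := elementary hG M
  set T := (S : Subgroup G) ⊓ Subgroup.normalizer (D : Set G) with hT
  have hDT : D ≤ T := le_inf hS Subgroup.le_normalizer
  obtain ⟨b, hbS, hbN, hbD, hb2⟩ := exists_sq_mem hG M hS
  obtain ⟨d, hd, -, -, -, -, ht2, -⟩ := exists_inverted hG M hS hbS hbN hbD hb2
  set u := d * b with hu
  have huT : u ∈ T := ⟨mul_mem (hS hd) hbS, mul_mem (Subgroup.le_normalizer hd) hbN⟩
  have huD : u ∉ D := fun h => hbD (by simpa [u] using mul_mem (inv_mem hd) h)
  have hrel : D.relIndex T = 2 := by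
    have := Subgroup.card_mul_index (D.subgroupOf T)
    rw [Nat.card_congr (Subgroup.subgroupOfEquivOfLe hDT).toEquiv, hc, mul_comm 2] at this
    exact Nat.eq_of_mul_eq_mul_left Nat.card_pos this
  have hcoset : ∀ {t}, t ∈ T → t ∉ D → ∀ x ∈ T, x ∉ D → ∃ e ∈ D, x = e * t⁻¹ := by
    intro t htT htD x hx hxD
    refine ⟨x * t, ?_, by group⟩
    exact (Subgroup.mul_mem_iff_of_index_two (H := D.subgroupOf T) hrel (a := ⟨x, hx⟩) (b := ⟨t, htT⟩)).2
      ⟨fun h => absurd h hxD, fun h => absurd h htD⟩
  -- a pair `a`, `t` generating a dihedral group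
  have data : ∀ t ∈ T, t * t = 1 → t ∉ D → ∀ a ∈ D, a * t ≠ t * a →
      ∀ z, z = a * t * (a * t) → z ∈ D ∧ z * t = t * z ∧ z ≠ 1 ∧ z ≠ a ∧
        ∀ e ∈ D, e = 1 ∨ e = z ∨ e = a ∨ e = a * z := by
    intro t htT ht2 htD a ha hat z hz
    have hti : t⁻¹ = t := inv_eq_of_mul_eq_one_right ht2
    have hai : a⁻¹ = a := inv_eq_of_mul_eq_one_right (hsq a ha)
    have hmem : t * a * t ∈ D := by
      have := (Subgroup.mem_normalizer_iff.1 htT.2 a).1 ha
      rwa [hti] at this
    have hz' : z = a * (t * a * t) := by rw [hz]; group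
    have hzD : z ∈ D := hz' ▸ mul_mem ha hmem
    have hzt : z * t = t * z := by
      calc z * t = a * (t * a) * (t * t) := by rw [hz']; group
        _ = a * (t * a * t) * t := by group
        _ = (t * a * t) * a * t := by rw [hcomm a ha _ hmem]
        _ = t * (a * (t * a * t)) := by group
        _ = _ := by rw [← hz']
    have hz1 : z ≠ 1 := fun e => hat (by
      have h1 := inv_eq_of_mul_eq_one_right (hz ▸ e : a * t * (a * t) = 1)
      rw [mul_inv_rev, hti, hai] at h1
      exact h1.symm)
    have hza : z ≠ a := fun e => by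
      have h1 : t * a * t = 1 := mul_left_cancel (a := a) (by rw [← hz', e, mul_one])
      have : a = 1 := by
        calc a = t * (t * a * t) * t := by rw [show t * (t * a * t) * t = (t * t) * a * (t * t) by group, ht2, one_mul, mul_one]
          _ = 1 := by rw [h1, mul_one, ht2]
      exact hat (by rw [this, one_mul, mul_one])
    refine ⟨hzD, hzt, hz1, hza, fun e he => ?_⟩
    have ha1 : a ≠ 1 := fun e => hat (by rw [e, one_mul, mul_one])
    have haz : a * z ≠ 1 := fun e => hza ((inv_eq_of_mul_eq_one_right e).symm.trans hai)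
    haveI := Fintype.ofFinite D
    have hfin : ({⟨1, one_mem D⟩, ⟨z, hzD⟩, ⟨a, ha⟩, ⟨a * z, mul_mem ha hzD⟩} : Finset D) = Finset.univ := by
      refine Finset.eq_univ_of_card _ ?_
      rw [← Nat.card_eq_fintype_card, h4]
      rw [Finset.card_insert_of_notMem, Finset.card_insert_of_notMem, Finset.card_insert_of_notMem,
        Finset.card_singleton]
      · simpa [Subtype.ext_iff] using fun h : a = a * z => hz1 (by simpa using h.symm)
      · simp only [Finset.mem_insert, Finset.mem_singleton, Subtype.ext_iff, not_or]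
        exact ⟨hza, fun h => ha1 (by simpa using h.symm)⟩
      · simp only [Finset.mem_insert, Finset.mem_singleton, Subtype.ext_iff, not_or]
        exact ⟨Ne.symm hz1, Ne.symm ha1, Ne.symm haz⟩
    have := hfin ▸ Finset.mem_univ (⟨e, he⟩ : D)
    simpa [Subtype.ext_iff] using this
  have pow4 : ∀ {x}, x ∈ (S : Subgroup G) → x ^ 4 = 1 := fun hx => pow_four_of_two_group hG S.2 hx
  -- no larger Sylow subgroup
  have hST : (S : Subgroup G) = T := by
    by_contra hne
    have hlt : T < (S : Subgroup G) := lt_of_le_of_ne inf_le_left (Ne.symm hne)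
    obtain ⟨g, hg, hgT⟩ := SetLike.exists_of_lt (Transfer.lt_inf_normalizer S.2 hlt)
    have hgT' : ∀ x ∈ T, g * x * g⁻¹ ∈ T := fun x hx => (Subgroup.mem_normalizer_iff.1 hg.2 x).1 hx
    have hgN : g ∉ Subgroup.normalizer (D : Set G) := fun h => hgT ⟨hg.1, h⟩
    obtain ⟨a, ha, hat'⟩ : ∃ a ∈ D, g * a * g⁻¹ ∉ D := by
      by_contra h
      push_neg at h
      refine hgN (Subgroup.mem_normalizer_iff.2 fun x => ⟨h x, fun hx => ?_⟩)
      have heq : D.map (MulAut.conj g).toMonoidHom = D := by
        refine Subgroup.eq_of_le_of_card_ge ?_ (Nat.card_congr (Subgroup.equivMapOfInjective D _ (MulEquiv.injective _)).toEquiv).le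
        rintro _ ⟨y, hy, rfl⟩; exact h y hy
      rw [← heq] at hx
      obtain ⟨y, hy, e⟩ := hx
      rwa [← (MulAut.conj g).injective (show MulAut.conj g y = MulAut.conj g x from e)]
    set t := g * a * g⁻¹ with ht
    have htT : t ∈ T := hgT' a (hDT ha)
    have ht2 : t * t = 1 := by rw [ht, show g * a * g⁻¹ * (g * a * g⁻¹) = g * (a * a) * g⁻¹ by group, hsq a ha, mul_one, mul_inv_cancel]
    have hti : t⁻¹ = t := inv_eq_of_mul_eq_one_right ht2
    have hat : a * t ≠ t * a := fun e => hat' (cent_le hG M (Subgroup.mem_centralizer_iff.2 fun x hx => by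
      -- a central element of `T` goes to a central element
      have hcent : ∀ y ∈ T, y * a = a * y := fun y hy => by
        by_cases hyD : y ∈ D
        · exact hcomm y hyD a ha
        · obtain ⟨e', he', rfl⟩ := hcoset htT hat' y hy hyD
          rw [hti, mul_assoc, ← e, ← mul_assoc, hcomm e' he' a ha, mul_assoc]
      have := hcent (g⁻¹ * x * g) (by
        have := (Subgroup.mem_normalizer_iff.1 (inv_mem hg.2) x).1 (hDT hx)
        rwa [inv_inv] at this)
      calc x * t = g * ((g⁻¹ * x * g) * a) * g⁻¹ := by rw [ht]; group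
        _ = g * (a * (g⁻¹ * x * g)) * g⁻¹ := by rw [this]
        _ = _ := by rw [ht]; group))
    obtain ⟨hzD, hzt, hz1, hza, hall⟩ := data t htT ht2 hat' a ha hat _ rfl
    set z := a * t * (a * t) with hzdef
    set w := g * t * g⁻¹ with hw
    have hwT : w ∈ T := hgT' t htT
    have hw2 : w * w = 1 := by rw [hw, show g * t * g⁻¹ * (g * t * g⁻¹) = g * (t * t) * g⁻¹ by group, ht2, mul_one, mul_inv_cancel]
    have hgz : g * z * g⁻¹ = t * w * (t * w) := by rw [hzdef, hw, ht]; group
    have hwD : w ∈ D := by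
      by_contra hwD
      obtain ⟨e, he, hwe⟩ := hcoset htT hat' w hwT hwD
      rw [hti] at hwe
      have het : e * t = t * e := by
        have h1 := inv_eq_of_mul_eq_one_right hw2
        rw [hwe, mul_inv_rev, hti, inv_eq_of_mul_eq_one_right (hsq e he)] at h1
        exact h1.symm
      refine hz1 ?_
      have : g * z * g⁻¹ = 1 := by
        rw [hgz, hwe, show t * (e * t) * (t * (e * t)) = t * e * (t * t) * (e * t) by group, ht2, mul_one,
          show t * e * (e * t) = t * (e * e) * t by group, hsq e he, mul_one, ht2]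
      simpa using this
    have hgg : ∀ x, g * (g * x * g⁻¹) * g⁻¹ = g * g * x * (g * g)⁻¹ := fun x => by group
    have hcancel : ∀ x y, x * t = t * x → y = x → g * t * g⁻¹ ≠ y ∨ x * t = t * x := fun x y h _ => Or.inr h
    rcases hall w hwD with e | e | e | e
    · rw [hw, conj_eq_one_iff] at e
      exact hat' (e ▸ one_mem D)
    · -- `t` and `w` would commute
      have : g * z * g⁻¹ = 1 := by
        rw [hgz, e, show t * z * (t * z) = t * (z * t) * z by group, hzt,
          show t * (t * z) * z = (t * t) * (z * z) by group, ht2, hsq z hzD, one_mul]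
      exact hz1 (by simpa using this)
    · -- `g` swaps `a` and `t`
      set c := g * g with hc'
      have hca : c * a * c⁻¹ = a := by rw [hc', ← hgg, ← ht, ← hw]; exact e
      have hct : c * t * c⁻¹ = t := by rw [hc', ← hgg, ← hw, e, ← ht]
      have hca' : c * a = a * c := mul_inv_eq_iff_eq_mul.1 hca
      have hct' : c * t = t * c := mul_inv_eq_iff_eq_mul.1 hct
      have hcD : c ∈ D := cent_le hG M (Subgroup.mem_centralizer_iff.2 fun x hx => by
        have hcz : Commute c z :=
          ((show Commute c a from hca').mul_right hct').mul_right ((show Commute c a from hca').mul_right hct')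
        rcases hall x hx with h | h | h | h <;> rw [h]
        · rw [one_mul, mul_one]
        · exact hcz.eq.symm
        · exact hca'.symm
        · exact ((show Commute c a from hca').mul_right hcz).eq.symm)
      have hga : g * a * (g * a) = t * c * a := by rw [hc', ht]; group
      have h4' := pow4 (mul_mem hg.1 (hS ha))
      rw [show (g * a) ^ 4 = (g * a * (g * a)) * (g * a * (g * a)) by simp [pow_succ, mul_assoc], hga] at h4'
      have h5 : t * a * (t * a) = 1 := by
        rw [← h4', show t * c * a * (t * c * a) = t * (c * a) * t * (c * a) by group, hca',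
          show t * (a * c) * t * (a * c) = t * a * (c * t) * (a * c) by group, hct',
          show t * a * (t * c) * (a * c) = t * a * t * (c * a) * c by group, hca',
          show t * a * t * (a * c) * c = t * a * (t * a) * (c * c) by group, hsq c hcD, mul_one]
      refine hz1 ?_
      calc z = a * (t * a * (t * a)) * a⁻¹ := by rw [hzdef]; group
        _ = 1 := by rw [h5, mul_one, mul_inv_cancel]
    · -- `g²` would be `t` modulo `D`
      set c := g * g with hc'
      have hzc : g * z * g⁻¹ = z := by
        rw [hgz, e, show t * (a * z) * (t * (a * z)) = t * a * (z * t) * a * z by group, hzt,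
          show t * a * (t * z) * a * z = t * a * t * (z * a) * z by group, hcomm z hzD a ha,
          show t * a * t * (a * z) * z = t * a * t * a * (z * z) by group, hsq z hzD, mul_one]
        have := inv_eq_of_mul_eq_one_right (hsq z hzD)
        rw [hzdef, show (a * t * (a * t))⁻¹ = t⁻¹ * a⁻¹ * (t⁻¹ * a⁻¹) by group, hti,
          inv_eq_of_mul_eq_one_right (hsq a ha)] at this
        rw [hzdef, ← this]; group
      have hca : c * a * c⁻¹ = a * z := by rw [hc', ← hgg, ← ht, ← hw]; exact e
      have hconj : t * a * t⁻¹ = a * z := by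
        rw [hti, hzdef, show a * (a * t * (a * t)) = (a * a) * (t * a * t) by group, hsq a ha, one_mul]
      set k := t⁻¹ * c with hk
      have hka : k * a = a * k := by
        rw [hk, mul_assoc, mul_inv_eq_iff_eq_mul.1 hca, ← hconj]
        group
      have hkz : k * z = z * k := by
        have h2 : c * z * c⁻¹ = z := by rw [hc', ← hgg, hzc, hzc]
        rw [hk, mul_assoc, mul_inv_eq_iff_eq_mul.1 h2, ← mul_assoc, hti, ← hzt, mul_assoc]
      have hkD : k ∈ D := cent_le hG M (Subgroup.mem_centralizer_iff.2 fun x hx => by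
        rcases hall x hx with h | h | h | h <;> rw [h]
        · rw [one_mul, mul_one]
        · exact hkz.symm
        · exact hka.symm
        · exact ((show Commute k a from hka).mul_right hkz).eq.symm)
      have hcg : g * (t * k) * g⁻¹ = t * k := by
        rw [hk, mul_inv_cancel_left, hc']; group
      rw [show g * (t * k) * g⁻¹ = w * (g * k * g⁻¹) by rw [hw]; group, e] at hcg
      rcases hall k hkD with h | h | h | h
      · rw [h, mul_one, mul_one, mul_inv_cancel, mul_one] at hcg
        exact hat' (hcg ▸ mul_mem ha hzD)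
      · rw [h, hzc] at hcg
        exact hat' (mul_right_cancel hcg ▸ mul_mem ha hzD)
      · have h4' := pow4 hg.1
        rw [show g ^ 4 = c * c by rw [hc']; simp [pow_succ, mul_assoc], show c = t * k by rw [hk]; group, h] at h4'
        refine hz1 ?_
        calc z = a * (t * a * (t * a)) * a⁻¹ := by rw [hzdef]; group
          _ = 1 := by rw [h4', mul_one, mul_inv_cancel]
      · have h4' := pow4 hg.1
        rw [show g ^ 4 = c * c by rw [hc']; simp [pow_succ, mul_assoc], show c = t * k by rw [hk]; group, h] at h4'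
        refine hz1 ?_
        have e1 : t * (a * z) * (t * (a * z)) = t * a * (t * a) := by
          rw [show t * (a * z) * (t * (a * z)) = t * a * (z * t) * a * z by group, hzt,
            show t * a * (t * z) * a * z = t * a * t * (z * a) * z by group, hcomm z hzD a ha,
            show t * a * t * (a * z) * z = t * a * (t * a) * (z * z) by group, hsq z hzD, mul_one]
        rw [e1] at h4'
        calc z = a * (t * a * (t * a)) * a⁻¹ := by rw [hzdef]; group
          _ = 1 := by rw [h4', mul_one, mul_inv_cancel]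
  -- the centralizer
  obtain ⟨a, ha, hat⟩ : ∃ a ∈ D, a * u ≠ u * a := by
    by_contra h
    push_neg at h
    exact huD (cent_le hG M (Subgroup.mem_centralizer_iff.2 h))
  obtain ⟨hzD, hzu, hz1, hza, hall⟩ := data u huT ht2 huD a ha hat _ rfl
  set z := a * u * (a * u) with hzdef
  refine ⟨z, orderOf_eq_two_of (hsq z hzD) hz1, ?_⟩
  have hcz : Subgroup.centralizer ({z} : Set G) = (S : Subgroup G) := by
    refine cent_eq_sylow hG (orderOf_eq_two_of (hsq z hzD) hz1) fun x hx => ?_
    rw [hST] at hx
    refine Subgroup.mem_centralizer_singleton_iff.2 ?_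
    by_cases hxD : x ∈ D
    · exact hcomm x hxD z hzD
    · obtain ⟨e, he, rfl⟩ := hcoset huT huD x hx hxD
      rw [inv_eq_of_mul_eq_one_right ht2, mul_assoc, ← hzu, ← mul_assoc, hcomm e he z hzD, mul_assoc]
  have hr : orderOf (a * u) = 4 := orderOf_eq_prime_pow (p := 2) (n := 1)
    (by rw [pow_one, pow_two]; exact hz1) (pow4 (mul_mem (hS ha) huT.1))
  have hinv : a * (a * u) * a⁻¹ = (a * u)⁻¹ := by
    rw [mul_inv_rev, inv_eq_of_mul_eq_one_right ht2, ← mul_assoc a, hsq a ha, one_mul]
  have hout : a ∉ Subgroup.zpowers (a * u) := by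
    rintro ⟨i, hi⟩
    have hc : Commute ((a * u) ^ i) (a * u) := (Commute.refl (a * u)).zpow_left i
    simp only at hi
    rw [hi] at hc
    exact hat (by
      have := hc.eq
      rw [← mul_assoc, hsq a ha, one_mul, mul_assoc] at this
      calc a * u = a * (a * (u * a)) := by rw [← this]
        _ = _ := by rw [← mul_assoc, hsq a ha, one_mul])
  obtain ⟨f, hf, hrange⟩ := SmallTwo.exists_dihedral_hom_injective hr (hsq a ha) hinv hout
  have hfS : f.range = (S : Subgroup G) := by
    refine Subgroup.eq_of_le_of_card_ge ?_ ?_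
    · rw [hrange, Subgroup.closure_le]
      rintro x (rfl | rfl)
      · exact mul_mem (hS ha) huT.1
      · exact hS ha
    · rw [← Nat.card_congr (MonoidHom.ofInjective hf).toEquiv, DihedralGroup.nat_card, hST, hc, h4]
  exact ⟨((MonoidHom.ofInjective hf).trans (MulEquiv.subgroupCongr (hfS.trans hcz.symm))).symm⟩

/-- A group in the index two case without subgroups of index two is the alternating group of degree six. -/
theorem two_case_card (hno : ∀ H : Subgroup G, H.index ≠ 2) {S : Sylow 2 G} (hS : D ≤ S)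
    (hc : Nat.card ((S : Subgroup G) ⊓ Subgroup.normalizer (D : Set G) : Subgroup G) = 2 * Nat.card D) :
    IsSimpleGroup G ∧ Nat.card G = 360 := by
  obtain ⟨z, hz, ⟨e⟩⟩ := exists_dihedral hG M hS (two_small hG M hno hS hc) hc
  obtain ⟨hs, h | h⟩ := CfsgLib.DihBlock.simple_and_card_of_no_index_two hz e hno
  · haveI : Fact (Nat.Prime 7) := ⟨by norm_num⟩
    have := hG.prime (p := 7) (by norm_num) (h ▸ by norm_num)
    omega
  · exact ⟨hs, h⟩

end CfsgLib.OneToFive
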